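import Mathlib

/-!
# A field from a commutative group acting regularly on the non-zero vectors

If a group `H` acts on a finite abelian group `V` of exponent 2 by commuting automorphisms,
transitively on the non-zero elements, then the endomorphisms of `V` commuting with the action
form a finite field `K` of characteristic 2, and evaluation at a fixed non-zero vector is an
additive bijection `K → V` turning the action of `H` into multiplications.
-/

namespace Cfsg.Agent.Lib.Helper23

universe u v

section CitField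

variable {V : Type u} [AddCommGroup V] {H : Type v} [Group H]

theorem cit_end_det (c : H →* AddMonoid.End V) (e : V)
    (hreg : ∀ w : V, w ≠ 0 → ∃ h : H, c h e = w)
    {f f' : AddMonoid.End V} (hf : f ∈ Subring.centralizer (Set.range c))
    (hf' : f' ∈ Subring.centralizer (Set.range c)) (h : f e = f' e) : f = f' := by
  rw [Subring.mem_centralizer_iff] at hf hf'
  refine DFunLike.ext f f' (fun w => ?_)
  by_cases hw : w = 0
  · rw [hw, map_zero, map_zero]
  · obtain ⟨g, rfl⟩ := hreg w hw
    have h1 : f (c g e) = c g (f e) := by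
      have := hf (c g) ⟨g, rfl⟩
      exact (congrArg (fun φ : AddMonoid.End V => φ e) this).symm
    have h2 : f' (c g e) = c g (f' e) := by
      have := hf' (c g) ⟨g, rfl⟩
      exact (congrArg (fun φ : AddMonoid.End V => φ e) this).symm
    rw [h1, h2, h]

theorem exists_field_of_regular [Finite V] (c : H →* AddMonoid.End V)
    (hcomm : ∀ a b : H, c a * c b = c b * c a) (e : V) (he : e ≠ 0)
    (hreg : ∀ w : V, w ≠ 0 → ∃ h : H, c h e = w) (h2 : ∀ w : V, w + w = 0) :
    ∃ (K : Type u) (_ : Field K) (_ : Fintype K) (ev : K → V),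
      CharP K 2 ∧ Function.Bijective ev ∧ ev 0 = 0 ∧ ev 1 = e ∧
      (∀ a b : K, ev (a + b) = ev a + ev b) ∧
      ∀ h : H, ∃ k : K, ∀ a : K, ev (k * a) = c h (ev a) := by
  classical
  set R : Subring (AddMonoid.End V) := Subring.centralizer (Set.range c) with hR
  have hcR : ∀ h : H, c h ∈ R := by
    intro h
    rw [hR, Subring.mem_centralizer_iff]
    rintro _ ⟨g, rfl⟩
    exact hcomm g h
  have hdet : ∀ f f' : R, (f : AddMonoid.End V) e = (f' : AddMonoid.End V) e → f = f' := by
    intro f f' h
    exact Subtype.ext (cit_end_det c e hreg f.2 f'.2 h)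
  have hcases : ∀ f : R, f = 0 ∨ ∃ h : H, f = ⟨c h, hcR h⟩ := by
    intro f
    by_cases hf : (f : AddMonoid.End V) e = 0
    · left
      apply hdet
      rw [hf]
      rfl
    · right
      obtain ⟨h, hh⟩ := hreg _ hf
      exact ⟨h, hdet _ _ hh.symm⟩
  have hmulcomm : ∀ f f' : R, f * f' = f' * f := by
    intro f f'
    rcases hcases f with rfl | ⟨h, rfl⟩
    · rw [zero_mul, mul_zero]
    · rcases hcases f' with rfl | ⟨h', rfl⟩
      · rw [zero_mul, mul_zero]
      · apply Subtype.ext
        exact hcomm h h'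
  let instCR : CommRing R := { (inferInstance : Ring R) with mul_comm := hmulcomm }
  have hone : (1 : R) ≠ 0 := by
    intro h
    apply he
    have := congrArg (fun φ : R => (φ : AddMonoid.End V) e) h
    exact this
  have : Nontrivial R := ⟨⟨1, 0, hone⟩⟩
  have : NoZeroDivisors R := by
    constructor
    intro f f' hff
    rcases hcases f with rfl | ⟨h, rfl⟩
    · exact Or.inl rfl
    · right
      have h1 : (⟨c h⁻¹, hcR h⁻¹⟩ : R) * (⟨c h, hcR h⟩ * f') = 0 := by rw [hff, mul_zero]
      rw [← mul_assoc] at h1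
      have h3 : (⟨c h⁻¹, hcR h⁻¹⟩ : R) * ⟨c h, hcR h⟩ = 1 := by
        apply Subtype.ext
        show c h⁻¹ * c h = 1
        rw [← map_mul, inv_mul_cancel, map_one]
      rw [h3, one_mul] at h1
      exact h1
  have : IsDomain R := NoZeroDivisors.to_isDomain R
  have hinj : Function.Injective (fun f : R => (f : AddMonoid.End V) e) := fun f f' h => hdet f f' h
  have : Finite R := Finite.of_injective _ hinj
  let instFin : Fintype R := Fintype.ofFinite R
  let instF : Field R := Fintype.fieldOfDomain R
  refine ⟨R, instF, instFin, fun f : R => (f : AddMonoid.End V) e, ?_, ⟨hinj, ?_⟩, rfl, rfl,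
    fun a b => rfl, fun h => ⟨⟨c h, hcR h⟩, fun a => rfl⟩⟩
  · apply CharTwo.of_one_ne_zero_of_two_eq_zero hone
    rw [← one_add_one_eq_two]
    apply hdet
    show e + e = 0
    exact h2 e
  · intro w
    by_cases hw : w = 0
    · exact ⟨0, hw.symm⟩
    · obtain ⟨h, hh⟩ := hreg w hw
      exact ⟨⟨c h, hcR h⟩, hh⟩

end CitField

section CitBridge

variable {G : Type u} [Group G]

/-- The group-theoretic version: `T` an elementary abelian 2-subgroup normalized by an abelian
subgroup `H` which is transitive on the non-identity elements of `T`. -/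
theorem exists_field_of_group (T H : Subgroup G) [Finite T]
    (hTcomm : ∀ a ∈ T, ∀ b ∈ T, a * b = b * a) (hT2 : ∀ a ∈ T, a ^ 2 = 1)
    (hnorm : ∀ h ∈ H, ∀ t ∈ T, h * t * h⁻¹ ∈ T)
    (hHcomm : ∀ a ∈ H, ∀ b ∈ H, a * b = b * a) (ε : G) (hε : ε ∈ T) (hε1 : ε ≠ 1)
    (hreg : ∀ t ∈ T, t ≠ 1 → ∃ h ∈ H, h * ε * h⁻¹ = t) :
    ∃ (K : Type u) (_ : Field K) (_ : Fintype K) (τ : K → G),
      CharP K 2 ∧ Fintype.card K = Nat.card T ∧ (∀ a, τ a ∈ T) ∧ Function.Injective τ ∧
      (∀ t ∈ T, ∃ a, τ a = t) ∧ τ 0 = 1 ∧ τ 1 = ε ∧ (∀ a b, τ (a + b) = τ a * τ b) ∧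
      ∀ h ∈ H, ∃ k : K, ∀ a, τ (k * a) = h * τ a * h⁻¹ := by
  classical
  let instCG : CommGroup T :=
    { (inferInstance : Group T) with
      mul_comm := fun a b => Subtype.ext (hTcomm a a.2 b b.2) }
  -- conjugation as an additive endomorphism
  let cj : H → AddMonoid.End (Additive T) := fun h =>
    AddMonoidHom.mk' (fun w => Additive.ofMul (⟨(h : G) * ((Additive.toMul w : T) : G) * (h : G)⁻¹,
      hnorm h h.2 _ (Additive.toMul w).2⟩ : T)) (by
        intro a b
        apply Additive.toMul.injective
        apply Subtype.ext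
        show (h : G) * (((Additive.toMul a : T) : G) * ((Additive.toMul b : T) : G)) * (h : G)⁻¹ =
          (h : G) * ((Additive.toMul a : T) : G) * (h : G)⁻¹ *
            ((h : G) * ((Additive.toMul b : T) : G) * (h : G)⁻¹)
        group)
  have hcj : ∀ (h : H) (w : Additive T),
      ((Additive.toMul (cj h w) : T) : G) = (h : G) * ((Additive.toMul w : T) : G) * (h : G)⁻¹ :=
    fun h w => rfl
  let c : H →* AddMonoid.End (Additive T) :=
    { toFun := cj
      map_one' := by
        refine DFunLike.ext _ _ (fun w => ?_)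
        apply Additive.toMul.injective
        apply Subtype.ext
        rw [hcj]
        show (1 : G) * ((Additive.toMul w : T) : G) * (1 : G)⁻¹ = ((Additive.toMul w : T) : G)
        group
      map_mul' := by
        intro a b
        refine DFunLike.ext _ _ (fun w => ?_)
        apply Additive.toMul.injective
        apply Subtype.ext
        rw [hcj]
        show ((a : G) * (b : G)) * ((Additive.toMul w : T) : G) * ((a : G) * (b : G))⁻¹ =
          (a : G) * ((b : G) * ((Additive.toMul w : T) : G) * (b : G)⁻¹) * (a : G)⁻¹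
        group }
  have hc : ∀ (h : H) (w : Additive T),
      ((Additive.toMul (c h w) : T) : G) = (h : G) * ((Additive.toMul w : T) : G) * (h : G)⁻¹ :=
    fun h w => rfl
  have hcomm : ∀ a b : H, c a * c b = c b * c a := by
    intro a b
    rw [← map_mul, ← map_mul]
    congr 1
    exact Subtype.ext (hHcomm a a.2 b b.2)
  have he : (Additive.ofMul (⟨ε, hε⟩ : T) : Additive T) ≠ 0 := by
    intro h
    apply hε1
    have h1 : (⟨ε, hε⟩ : T) = 1 := Additive.ofMul.injective h
    exact congrArg Subtype.val h1
  have hreg' : ∀ w : Additive T, w ≠ 0 →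
      ∃ h : H, c h (Additive.ofMul (⟨ε, hε⟩ : T)) = w := by
    intro w hw
    have hw1 : ((Additive.toMul w : T) : G) ≠ 1 := by
      intro h
      apply hw
      apply Additive.toMul.injective
      apply Subtype.ext
      exact h
    obtain ⟨h, hh, hhe⟩ := hreg _ (Additive.toMul w).2 hw1
    refine ⟨⟨h, hh⟩, ?_⟩
    apply Additive.toMul.injective
    apply Subtype.ext
    rw [hc]
    exact hhe
  have h2 : ∀ w : Additive T, w + w = 0 := by
    intro w
    apply Additive.toMul.injective
    apply Subtype.ext
    show ((Additive.toMul w : T) : G) * ((Additive.toMul w : T) : G) = 1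
    rw [← sq]
    exact hT2 _ (Additive.toMul w).2
  obtain ⟨K, instF, instFin, ev, hchar, hbij, hev0, hev1, hadd, hmul⟩ :=
    exists_field_of_regular c hcomm _ he hreg' h2
  refine ⟨K, instF, instFin, fun a => ((Additive.toMul (ev a) : T) : G), hchar, ?_,
    fun a => (Additive.toMul (ev a)).2, ?_, ?_, ?_, ?_, ?_, ?_⟩
  · rw [← Nat.card_eq_fintype_card]
    exact Nat.card_congr ((Equiv.ofBijective ev hbij).trans Additive.toMul)
  · intro a b h
    apply hbij.1
    apply Additive.toMul.injective
    exact Subtype.ext h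
  · intro t ht
    obtain ⟨a, ha⟩ := hbij.2 (Additive.ofMul (⟨t, ht⟩ : T))
    refine ⟨a, ?_⟩
    show ((Additive.toMul (ev a) : T) : G) = t
    rw [ha]
    rfl
  · show ((Additive.toMul (ev 0) : T) : G) = 1
    rw [hev0]
    rfl
  · show ((Additive.toMul (ev 1) : T) : G) = ε
    rw [hev1]
    rfl
  · intro a b
    show ((Additive.toMul (ev (a + b)) : T) : G) = _
    rw [hadd]
    rfl
  · intro h hh
    obtain ⟨k, hk⟩ := hmul ⟨h, hh⟩
    refine ⟨k, fun a => ?_⟩
    show ((Additive.toMul (ev (k * a)) : T) : G) = _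
    rw [hk, hc]

end CitBridge


end Cfsg.Agent.Lib.Helper23
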