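import Mathlib

/-!
# Transitive groups of degree `p + 1` and order `(p + 1) p d`, `d < p`: basic structure

A Sylow `p`-subgroup has order `p`, fixes exactly one point `a`, is normal in the stabilizer of
`a` and regular on the remaining points.  Consequently the group is doubly transitive, its
two-point stabilizers have order `d` and only the identity fixes three points.
-/

namespace Cfsg.Agent.Lib.Helper23

open MulAction

theorem pd_stab_card {α : Type*} [Fintype α] {p d : ℕ}
    (hα : Fintype.card α = p + 1) (G : Subgroup (Equiv.Perm α)) [IsPretransitive G α]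
    (hG : Nat.card G = (p + 1) * p * d) (a : α) :
    Nat.card ↥(stabilizer G a) = p * d := by
  have h1 := index_stabilizer_of_transitive G a
  have h2 := Subgroup.card_mul_index (stabilizer G a)
  rw [h1, Nat.card_eq_fintype_card (α := α), hα, hG] at h2
  have h3 : Nat.card ↥(stabilizer G a) * (p + 1) = p * d * (p + 1) := by rw [h2]; ring
  exact Nat.eq_of_mul_eq_mul_right (Nat.succ_pos p) h3

/-- A subgroup of order `p` fixing a point of a set with `p + 1` elements is commutative, its
non-identity elements fix nothing else, and it is regular on the remaining points. -/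
theorem pd_reg {α : Type*} [Fintype α] [DecidableEq α] {p : ℕ} (hp : p.Prime)
    (hα : Fintype.card α = p + 1) (G : Subgroup (Equiv.Perm α)) (a : α)
    (P : Subgroup G) (hPcard : Nat.card P = p) (hPa : P ≤ stabilizer G a) :
    (∀ u ∈ P, ∀ v ∈ P, u * v = v * u) ∧
      (∀ u ∈ P, u ≠ 1 → ∀ c : α, u • c = c → c = a) ∧
      (∀ y z : α, y ≠ a → z ≠ a → ∃! u : P, (u : G) • y = z) := by
  classical
  have : Fact p.Prime := ⟨hp⟩
  have hPfin : Finite P := Nat.finite_of_card_ne_zero (by rw [hPcard]; exact hp.ne_zero)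
  have hfixa : ∀ u ∈ P, u • a = a := fun u hu => mem_stabilizer_iff.mp (hPa hu)
  have hcomm : ∀ u ∈ P, ∀ v ∈ P, u * v = v * u := by
    intro u hu v hv
    have hc : IsCyclic P := isCyclic_of_prime_card hPcard
    have := (isMulCommutative_iff.mp hc.isMulCommutative) ⟨u, hu⟩ ⟨v, hv⟩
    exact congrArg Subtype.val this
  have hfix : ∀ u ∈ P, u ≠ 1 → ∀ c : α, u • c = c → c = a := by
    intro u hu hu1 c hc
    by_contra hca
    have hup : u ^ p = 1 := by
      have h := pow_card_eq_one' (G := P) (x := ⟨u, hu⟩)
      rw [hPcard] at h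
      exact congrArg Subtype.val h
    have hu1' : (u : Equiv.Perm α) ≠ 1 := fun h => hu1 (Subtype.ext h)
    have hup' : (u : Equiv.Perm α) ^ p = 1 := by
      have := congrArg Subtype.val hup
      simpa using this
    have hord : orderOf (u : Equiv.Perm α) = p := orderOf_eq_prime hup' hu1'
    obtain ⟨n, hn⟩ := Equiv.Perm.cycleType_prime_order (σ := (u : Equiv.Perm α))
      (by rw [hord]; exact hp)
    rw [hord] at hn
    have hs : (u : Equiv.Perm α).support.card = (n + 1) * p := by
      rw [← Equiv.Perm.sum_cycleType, hn, Multiset.sum_replicate, smul_eq_mul]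
    have hsub : (u : Equiv.Perm α).support ⊆ (Finset.univ.erase a).erase c := by
      intro x hx
      rw [Equiv.Perm.mem_support] at hx
      rw [Finset.mem_erase, Finset.mem_erase]
      refine ⟨?_, ?_, Finset.mem_univ _⟩
      · rintro rfl
        exact hx hc
      · rintro rfl
        exact hx (hfixa u hu)
    have hle := Finset.card_le_card hsub
    rw [hs, Finset.card_erase_of_mem (by
      rw [Finset.mem_erase]; exact ⟨hca, Finset.mem_univ _⟩),
      Finset.card_erase_of_mem (Finset.mem_univ _), Finset.card_univ, hα] at hle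
    have : p ≤ (n + 1) * p := Nat.le_mul_of_pos_left p (Nat.succ_pos n)
    have hp2 := hp.two_le
    omega
  refine ⟨hcomm, hfix, ?_⟩
  intro y z hy hz
  have hPfint : Fintype P := Fintype.ofFinite P
  let f : P → {w : α // w ≠ a} := fun u => ⟨(u : G) • y, by
    intro h
    apply hy
    have h2 := hfixa (u : G) u.2
    rw [← h2] at h
    exact MulAction.injective (u : G) h⟩
  have hfinj : Function.Injective f := by
    intro u v huv
    have h1 : (u : G) • y = (v : G) • y := congrArg Subtype.val huv
    by_contra hne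
    have h2 : ((v : G)⁻¹ * (u : G)) • y = y := by
      rw [mul_smul, h1, inv_smul_smul]
    have h3 : (v : G)⁻¹ * (u : G) ≠ 1 := by
      intro h
      apply hne
      apply Subtype.ext
      have := eq_of_inv_mul_eq_one h
      exact this.symm
    exact hy (hfix _ (P.mul_mem (P.inv_mem v.2) u.2) h3 y h2)
  have hcard : Fintype.card P = Fintype.card {w : α // w ≠ a} := by
    rw [Fintype.card_subtype_compl, Fintype.card_subtype_eq, hα, ← Nat.card_eq_fintype_card,
      hPcard]
    omega
  have hbij : Function.Bijective f := (Fintype.bijective_iff_injective_and_card f).mpr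
    ⟨hfinj, hcard⟩
  obtain ⟨u, hu⟩ := hbij.2 ⟨z, hz⟩
  refine ⟨u, congrArg Subtype.val hu, ?_⟩
  intro v hv
  apply hbij.1
  rw [hu]
  exact Subtype.ext hv

theorem pd_structure {α : Type*} [Fintype α] [DecidableEq α] {p d : ℕ} (hp : p.Prime)
    (hα : Fintype.card α = p + 1) (G : Subgroup (Equiv.Perm α)) [IsPretransitive G α]
    (hG : Nat.card G = (p + 1) * p * d) (hd : d < p) (a : α) :
    ∃ P : Subgroup G, Nat.card P = p ∧ P ≤ stabilizer G a ∧
      (∀ g ∈ stabilizer G a, ∀ u ∈ P, g * u * g⁻¹ ∈ P) ∧
      (∀ u ∈ P, ∀ v ∈ P, u * v = v * u) ∧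
      (∀ y z : α, y ≠ a → z ≠ a → ∃! u : P, (u : G) • y = z) ∧
      (∀ u ∈ P, u ≠ 1 → ∀ c : α, u • c = c → c = a) := by
  classical
  have : Fact p.Prime := ⟨hp⟩
  have hGfin : Finite G := inferInstance
  have hd0 : d ≠ 0 := by
    rintro rfl
    rw [mul_zero] at hG
    exact (Nat.card_pos (α := G)).ne' hG
  have hstab := pd_stab_card hα G hG a
  have hpd : ¬ p ∣ d := fun h => absurd (Nat.le_of_dvd (Nat.pos_of_ne_zero hd0) h) (by omega)
  -- the Sylow subgroup of the stabilizer
  obtain ⟨S⟩ : Nonempty (Sylow p ↥(stabilizer G a)) := inferInstance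
  have hScard : Nat.card (S : Subgroup ↥(stabilizer G a)) = p := by
    rw [Sylow.card_eq_multiplicity, hstab, Nat.factorization_mul hp.ne_zero hd0]
    simp [hp.factorization_self, Nat.factorization_eq_zero_of_not_dvd hpd]
  have hSidx : (S : Subgroup ↥(stabilizer G a)).index = d := by
    have h := Subgroup.card_mul_index (S : Subgroup ↥(stabilizer G a))
    rw [hScard, hstab] at h
    exact Nat.eq_of_mul_eq_mul_left hp.pos h
  have hone : Nat.card (Sylow p ↥(stabilizer G a)) = 1 := by
    have h1 := card_sylow_modEq_one p ↥(stabilizer G a)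
    have h2 := Sylow.card_dvd_index S
    rw [hSidx] at h2
    have h3 := Nat.le_of_dvd (Nat.pos_of_ne_zero hd0) h2
    have h4 : Nat.card (Sylow p ↥(stabilizer G a)) < p := by omega
    have h5 : 1 % p = 1 := Nat.mod_eq_of_lt hp.one_lt
    have h6 := h1
    unfold Nat.ModEq at h6
    rw [Nat.mod_eq_of_lt h4, h5] at h6
    exact h6
  have hsub : Subsingleton (Sylow p ↥(stabilizer G a)) := (Nat.card_eq_one_iff_unique.mp hone).1
  have hSn : (S : Subgroup ↥(stabilizer G a)).Normal := Sylow.normal_of_subsingleton S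
  have hPcard : Nat.card ↥((S : Subgroup ↥(stabilizer G a)).map (stabilizer G a).subtype) = p := by
    rw [Subgroup.card_map_of_injective (Subgroup.subtype_injective _), hScard]
  have hPle : (S : Subgroup ↥(stabilizer G a)).map (stabilizer G a).subtype ≤ stabilizer G a :=
    Subgroup.map_subtype_le _
  obtain ⟨h1, h2, h3⟩ := pd_reg hp hα G a _ hPcard hPle
  refine ⟨_, hPcard, hPle, ?_, h1, h3, h2⟩
  rintro g hg _ ⟨s, hs, rfl⟩
  exact ⟨(⟨g, hg⟩ : ↥(stabilizer G a)) * s * (⟨g, hg⟩ : ↥(stabilizer G a))⁻¹,
    hSn.conj_mem s hs _, rfl⟩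

end Cfsg.Agent.Lib.Helper23
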