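import Mathlib
import Cfsg.Agent.Lib.Helper23.PD1

/-!
# Transitive groups of degree `p + 1` and order `(p + 1) p d`, `d < p`: consequences

The group is doubly transitive, its two-point stabilizers have order `d` and only the identity
fixes three points.
-/

namespace Cfsg.Agent.Lib.Helper23

open MulAction

theorem pd_two_trans {α : Type*} [Fintype α] [DecidableEq α] {p d : ℕ} (hp : p.Prime)
    (hα : Fintype.card α = p + 1) (G : Subgroup (Equiv.Perm α)) [IsPretransitive G α]
    (hG : Nat.card G = (p + 1) * p * d) (hd : d < p) :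
    ∀ x₁ x₂ y₁ y₂ : α, x₁ ≠ x₂ → y₁ ≠ y₂ → ∃ g : G, g • x₁ = y₁ ∧ g • x₂ = y₂ := by
  intro x₁ x₂ y₁ y₂ hx hy
  obtain ⟨g₁, hg₁⟩ := exists_smul_eq G x₁ y₁
  obtain ⟨P, -, hPa, -, -, hPreg, -⟩ := pd_structure hp hα G hG hd y₁
  have h1 : g₁ • x₂ ≠ y₁ := by
    intro h
    rw [← hg₁] at h
    exact hx (MulAction.injective g₁ h).symm
  obtain ⟨u, hu, -⟩ := hPreg (g₁ • x₂) y₂ h1 (Ne.symm hy)
  refine ⟨(u : G) * g₁, ?_, ?_⟩
  · rw [mul_smul, hg₁]
    exact mem_stabilizer_iff.mp (hPa u.2)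
  · rw [mul_smul, hu]

theorem pd_three {α : Type*} [Fintype α] [DecidableEq α] {p d : ℕ} (hp : p.Prime)
    (hα : Fintype.card α = p + 1) (G : Subgroup (Equiv.Perm α)) [IsPretransitive G α]
    (hG : Nat.card G = (p + 1) * p * d) (hd : d < p) :
    ∀ g : G, ∀ x y z : α, x ≠ y → y ≠ z → x ≠ z → g • x = x → g • y = y → g • z = z → g = 1 := by
  classical
  have : Fact p.Prime := ⟨hp⟩
  intro g x y z hxy hyz hxz hgx hgy hgz
  obtain ⟨P, hPcard, hPa, hPn, -, hPreg, -⟩ := pd_structure hp hα G hG hd x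
  obtain ⟨u, hu, huniq⟩ := hPreg y z (Ne.symm hxy) (Ne.symm hxz)
  have hgu : g * (u : G) * g⁻¹ ∈ P := hPn g (mem_stabilizer_iff.mpr hgx) _ u.2
  have hginv : g⁻¹ • y = y := by rw [inv_smul_eq_iff, hgy]
  have h1 : (g * (u : G) * g⁻¹) • y = z := by
    rw [mul_smul, mul_smul, hginv, hu, hgz]
  have h2 : (⟨g * (u : G) * g⁻¹, hgu⟩ : P) = u := huniq ⟨_, hgu⟩ h1
  have h3 : g * (u : G) * g⁻¹ = (u : G) := congrArg Subtype.val h2
  have hu1 : u ≠ 1 := by
    rintro rfl
    rw [Subgroup.coe_one, one_smul] at hu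
    exact hyz hu
  have htop := zpowers_eq_top_of_prime_card hPcard hu1
  have hcomm : ∀ v : P, g * (v : G) = (v : G) * g := by
    intro v
    have hv : v ∈ Subgroup.zpowers u := by rw [htop]; exact Subgroup.mem_top v
    obtain ⟨k, rfl⟩ := Subgroup.mem_zpowers_iff.mp hv
    have h4 : g * (u : G) = (u : G) * g := by
      calc g * (u : G) = g * (u : G) * g⁻¹ * g := by group
        _ = (u : G) * g := by rw [h3]
    have h5 : Commute g (u : G) := h4
    have h6 := h5.zpow_right k
    rw [Subgroup.coe_zpow]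
    exact h6
  apply Subtype.ext
  apply Equiv.ext
  intro w
  show g • w = w
  by_cases hw : w = x
  · rw [hw, hgx]
  · obtain ⟨v, hv, -⟩ := hPreg y w (Ne.symm hxy) hw
    rw [← hv, ← mul_smul, hcomm v, mul_smul, hgy]

theorem pd_twoStab_card {α : Type*} [Fintype α] [DecidableEq α] {p d : ℕ} (hp : p.Prime)
    (hα : Fintype.card α = p + 1) (G : Subgroup (Equiv.Perm α)) [IsPretransitive G α]
    (hG : Nat.card G = (p + 1) * p * d) (hd : d < p) (a b : α) (hab : a ≠ b) :
    Nat.card ↥(stabilizer G a ⊓ stabilizer G b) = d := by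
  classical
  obtain ⟨P, hPcard, hPa, -, -, hPreg, -⟩ := pd_structure hp hα G hG hd a
  have hstab := pd_stab_card hα G hG a
  -- the stabilizer of `a` acts on `α`; orbit of `b` is the complement of `a`
  have horb : orbit ↥(stabilizer G a) b = {w : α | w ≠ a} := by
    ext w
    constructor
    · rintro ⟨h, rfl⟩
      intro hh
      have h1 : (h : G) • b = a := hh
      have h2 : (h : G) • a = a := mem_stabilizer_iff.mp h.2
      exact hab (MulAction.injective (h : G) (h1.trans h2.symm)).symm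
    · intro hw
      obtain ⟨u, hu, -⟩ := hPreg b w (Ne.symm hab) hw
      exact ⟨⟨(u : G), hPa u.2⟩, hu⟩
  have h1 := index_stabilizer ↥(stabilizer G a) b
  have h2 := Subgroup.card_mul_index (stabilizer ↥(stabilizer G a) b)
  have h3 : (orbit ↥(stabilizer G a) b).ncard = p := by
    rw [horb, ← Nat.card_coe_set_eq, Nat.card_eq_fintype_card]
    have : Fintype.card {w : α // w ≠ a} = p := by
      rw [Fintype.card_subtype_compl, Fintype.card_subtype_eq, hα]
      omega
    convert this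
  rw [h1, h3, hstab] at h2
  have h4 : Nat.card ↥(stabilizer ↥(stabilizer G a) b) = d := by
    have hp0 := hp.pos
    have : Nat.card ↥(stabilizer ↥(stabilizer G a) b) * p = d * p := by rw [h2, mul_comm]
    exact Nat.eq_of_mul_eq_mul_right hp0 this
  rw [← h4]
  apply Nat.card_congr
  exact
    { toFun := fun h => ⟨⟨(h : G), (Subgroup.mem_inf.mp h.2).1⟩,
        mem_stabilizer_iff.mpr (mem_stabilizer_iff.mp (Subgroup.mem_inf.mp h.2).2)⟩
      invFun := fun h => ⟨((h : ↥(stabilizer G a)) : G), Subgroup.mem_inf.mpr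
        ⟨(h : ↥(stabilizer G a)).2, mem_stabilizer_iff.mpr (mem_stabilizer_iff.mp h.2)⟩⟩
      left_inv := fun h => rfl
      right_inv := fun h => rfl }

end Cfsg.Agent.Lib.Helper23
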