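import Mathlib

/-!
# Recognition of `PSL(2, p)`: definitions and the decidable certificate

Points of the projective line over `ZMod p` are `Option (ZMod p)` (`none` is the point at
infinity).  A candidate for the permutation induced by an element swapping `0` and `∞` is
determined by three parameters `r' u v`; the certificate says that the only candidates compatible
with the structure of a Zassenhaus group are the maps `x ↦ u / x`.
-/

namespace Cfsg.Agent.Lib.Helper23

/-- The table of a candidate: `r ^ i ↦ r' ^ i * u` and `r ^ i * n₀ ↦ r' ^ i * v`. -/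
def candList {p : ℕ} (r r' n₀ u v : ZMod p) : ℕ → List (ZMod p × ZMod p)
  | 0 => []
  | i + 1 => (r ^ i, r' ^ i * u) :: (r ^ i * n₀, r' ^ i * v) :: candList r r' n₀ u v i

/-- The candidate map on the projective line given by a table. -/
def candFun {p : ℕ} (L : List (ZMod p × ZMod p)) : Option (ZMod p) → Option (ZMod p)
  | none => some 0
  | some z => if z = 0 then none else some ((L.lookup z).getD 0)

/-- Translation by `c` on the projective line. -/
def shiftFun {p : ℕ} (c : ZMod p) : Option (ZMod p) → Option (ZMod p) := Option.map (· + c)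

/-- Multiplication by `s` on the projective line. -/
def mulFun {p : ℕ} (s : ZMod p) : Option (ZMod p) → Option (ZMod p) := Option.map (s * ·)

/-- The necessary condition on a candidate: certain products fixing `0` and `∞` are
multiplications by elements of the subgroup `{s | s ^ h = 1}`. -/
def Pass {p : ℕ} [NeZero p] (h : ℕ) (L : List (ZMod p × ZMod p)) : Prop :=
  ∀ x y₀ : ZMod p, x ≠ 0 → y₀ ≠ 0 → candFun L (some y₀) = some (-x) →
    ∃ s : ZMod p, s ^ h = 1 ∧ ∀ y : Option (ZMod p),
      shiftFun (-((candFun L (some x)).getD 0))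
        (candFun L (shiftFun x (candFun L (shiftFun y₀ y)))) = mulFun s (candFun L y)

instance {p : ℕ} [NeZero p] (h : ℕ) (L : List (ZMod p × ZMod p)) : Decidable (Pass h L) := by
  unfold Pass; infer_instance

/-- The certificate, allowing the exceptional case `r' = r`. -/
def Cert (p : ℕ) [NeZero p] (h : ℕ) (r n₀ : ZMod p) : Prop :=
  ∀ r' u v : ZMod p, r' ^ h = 1 → (u = 1 ∨ u = n₀) → v ≠ 0 →
    Pass h (candList r r' n₀ u v h) → (r' * r = 1 ∧ v * n₀ = u ∧ (-u) ^ h = 1) ∨ r' = r

instance (p : ℕ) [NeZero p] (h : ℕ) (r n₀ : ZMod p) : Decidable (Cert p h r n₀) := by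
  unfold Cert; infer_instance

/-- The strict certificate. -/
def CertS (p : ℕ) [NeZero p] (h : ℕ) (r n₀ : ZMod p) : Prop :=
  ∀ r' u v : ZMod p, r' ^ h = 1 → (u = 1 ∨ u = n₀) → v ≠ 0 →
    Pass h (candList r r' n₀ u v h) → (r' * r = 1 ∧ v * n₀ = u ∧ (-u) ^ h = 1)

instance (p : ℕ) [NeZero p] (h : ℕ) (r n₀ : ZMod p) : Decidable (CertS p h r n₀) := by
  unfold CertS; infer_instance

/-- The elementary arithmetic side conditions on the parameters `h r n₀`. -/
structure PSL2Arith (p : ℕ) [NeZero p] (h : ℕ) (r n₀ : ZMod p) : Prop where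
  cov : ∀ z : ZMod p, z ≠ 0 → ∃ i < h, z = r ^ i ∨ z = r ^ i * n₀
  norm : ∀ u : ZMod p, u ≠ 0 → ∃ s : ZMod p, s ^ h = 1 ∧ (s * u = 1 ∨ s * u = n₀)
  n₀_ne : n₀ ≠ 0
  card : (Finset.univ.filter (fun s : ZMod p => s ^ h = 1)).card = h
  sq : ∀ s : ZMod p, s ^ h = 1 → ∃ c : ZMod p, c ≠ 0 ∧ c * c = s
  rpow : r ^ h = 1
  r_ne : r ≠ 1
  two_h : 2 * h + 1 = p

section
variable {p : ℕ}

theorem shiftFun_none (c : ZMod p) : shiftFun c none = none := rfl

theorem shiftFun_some (c x : ZMod p) : shiftFun c (some x) = some (x + c) := rfl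

theorem mulFun_none (s : ZMod p) : mulFun s none = none := rfl

theorem mulFun_some (s x : ZMod p) : mulFun s (some x) = some (s * x) := rfl

theorem candFun_none (L : List (ZMod p × ZMod p)) : candFun L none = some 0 := rfl

theorem candFun_zero (L : List (ZMod p × ZMod p)) : candFun L (some 0) = none := by
  simp [candFun]

theorem candFun_some (L : List (ZMod p × ZMod p)) (z : ZMod p) (hz : z ≠ 0) :
    candFun L (some z) = some ((L.lookup z).getD 0) := by
  simp [candFun, hz]

/-- Looking up a point in the table of a candidate. -/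
theorem lookup_candList (r r' n₀ u v : ZMod p) (τ : ZMod p → ZMod p)
    (h1 : ∀ i : ℕ, τ (r ^ i) = r' ^ i * u) (h2 : ∀ i : ℕ, τ (r ^ i * n₀) = r' ^ i * v)
    (z : ZMod p) : ∀ n : ℕ, (∃ i < n, z = r ^ i ∨ z = r ^ i * n₀) →
      (candList r r' n₀ u v n).lookup z = some (τ z)
  | 0, h => by
      obtain ⟨i, hi, _⟩ := h
      omega
  | n + 1, h => by
      rw [candList]
      by_cases hz1 : z = r ^ n
      · rw [hz1, List.lookup_cons_self, h1]
      · rw [List.lookup_cons, show (z == r ^ n) = false from by simpa using hz1]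
        by_cases hz2 : z = r ^ n * n₀
        · rw [hz2, List.lookup_cons_self, h2]
        · rw [List.lookup_cons, show (z == r ^ n * n₀) = false from by simpa using hz2]
          apply lookup_candList r r' n₀ u v τ h1 h2 z n
          obtain ⟨i, hi, hzi⟩ := h
          have hin : i ≠ n := by
            rintro rfl
            rcases hzi with hzi | hzi
            · exact hz1 hzi
            · exact hz2 hzi
          exact ⟨i, by omega, hzi⟩

end

end Cfsg.Agent.Lib.Helper23
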