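import Mathlib
import Cfsg.Agent.Lib.Helper23.PSL2Defs

/-!
# Recognition of `PSL(2, p)`: the element swapping `0` and `∞`
-/

namespace Cfsg.Agent.Lib.Helper23

open Equiv

theorem perm_inv_apply_self {α : Type*} (f : Perm α) (x : α) : f⁻¹ (f x) = x :=
  f.symm_apply_apply x

theorem perm_apply_inv_self {α : Type*} (f : Perm α) (x : α) : f (f⁻¹ x) = x :=
  f.apply_symm_apply x

section
variable {p : ℕ} [hp : Fact p.Prime] [NeZero p]

theorem perm_pow_shift (A : Perm (Option (ZMod p))) (hA : ∀ x, A x = shiftFun 1 x) (n : ℕ) :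
    ∀ x, (A ^ n) x = shiftFun (n : ZMod p) x := by
  induction n with
  | zero =>
    intro x
    cases x <;> simp [shiftFun]
  | succ k ih =>
    intro x
    rw [pow_succ, Perm.mul_apply, hA, ih]
    cases x with
    | none => rfl
    | some x =>
      rw [shiftFun_some, shiftFun_some, shiftFun_some]
      congr 1
      push_cast
      ring

theorem exists_shift (Γ : Subgroup (Perm (Option (ZMod p))))
    (hA : ∃ A ∈ Γ, ∀ x, A x = shiftFun 1 x) (c : ZMod p) :
    ∃ A ∈ Γ, ∀ x, A x = shiftFun c x := by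
  obtain ⟨A, hAΓ, hA⟩ := hA
  refine ⟨A ^ c.val, Γ.pow_mem hAΓ _, fun x => ?_⟩
  rw [perm_pow_shift A hA, ZMod.natCast_zmod_val]

/-- A permutation swapping `∞` and `0` maps nonzero points to nonzero points. -/
theorem swap_some (T : Perm (Option (ZMod p))) (hTi : T none = some 0) (hTz : T (some 0) = none)
    (x : ZMod p) (hx : x ≠ 0) : ∃ w : ZMod p, w ≠ 0 ∧ T (some x) = some w := by
  cases hTx : T (some x) with
  | none =>
    exfalso
    apply hx
    have := T.injective (hTx.trans hTz.symm)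
    exact Option.some.inj this
  | some w =>
    refine ⟨w, ?_, rfl⟩
    rintro rfl
    have := T.injective (hTx.trans hTi.symm)
    cases this

/-- The main step: under the certificate, some element of `Γ` swapping `0` and `∞` acts as
`x ↦ u / x` with `-u` in the subgroup `{s | s ^ h = 1}`. -/
theorem psl2_swap (h : ℕ) (r n₀ : ZMod p) (har : PSL2Arith p h r n₀)
    (Γ : Subgroup (Perm (Option (ZMod p))))
    (hA : ∃ A ∈ Γ, ∀ x, A x = shiftFun 1 x)
    (hS : ∀ s : ZMod p, s ^ h = 1 → ∃ B ∈ Γ, ∀ x, B x = mulFun s x)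
    (hfix : ∀ γ ∈ Γ, γ none = none → γ (some 0) = some 0 →
      ∃ s : ZMod p, s ^ h = 1 ∧ ∀ x, γ x = mulFun s x)
    (hT : ∃ T ∈ Γ, T none = some 0 ∧ T (some 0) = none)
    (hcert : CertS p h r n₀ ∨ (Cert p h r n₀ ∧
      ∀ T ∈ Γ, T none = some 0 → T (some 0) = none → ∀ B ∈ Γ, (∀ x, B x = mulFun r x) →
        T * B ≠ B * T)) :
    ∃ T ∈ Γ, ∃ u : ZMod p, (-u) ^ h = 1 ∧ T none = some 0 ∧ T (some 0) = none ∧
      ∀ x : ZMod p, x ≠ 0 → T (some x) = some (u / x) := by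
  obtain ⟨T₀, hT₀Γ, hT₀inf, hT₀zero⟩ := hT
  have h10 : (1 : ZMod p) ≠ 0 := one_ne_zero
  have hh0 : h ≠ 0 := by
    rintro rfl
    have := har.two_h
    have hp1 := hp.out.one_lt
    omega
  obtain ⟨u₀, hu₀, hT₀1⟩ := swap_some T₀ hT₀inf hT₀zero 1 h10
  obtain ⟨s, hs, hsu⟩ := har.norm u₀ hu₀
  obtain ⟨Bs, hBsΓ, hBs⟩ := hS s hs
  -- normalize
  obtain ⟨T, hTdef⟩ : ∃ T : Perm (Option (ZMod p)), T = Bs * T₀ := ⟨_, rfl⟩
  have hTΓ : T ∈ Γ := by rw [hTdef]; exact Γ.mul_mem hBsΓ hT₀Γ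
  have hTinf : T none = some 0 := by
    rw [hTdef, Perm.mul_apply, hT₀inf, hBs, mulFun_some, mul_zero]
  have hTzero : T (some 0) = none := by
    rw [hTdef, Perm.mul_apply, hT₀zero, hBs, mulFun_none]
  obtain ⟨u, hudef⟩ : ∃ u : ZMod p, u = s * u₀ := ⟨_, rfl⟩
  have hT1 : T (some 1) = some u := by
    rw [hTdef, Perm.mul_apply, hT₀1, hBs, mulFun_some, hudef]
  have hu : u = 1 ∨ u = n₀ := by rw [hudef]; exact hsu
  obtain ⟨B, hBΓ, hB⟩ := hS r har.rpow
  have hr0 : r ≠ 0 := by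
    intro hr
    have := har.rpow
    rw [hr, zero_pow hh0] at this
    exact h10 this.symm
  have hTinv_none : T⁻¹ none = some 0 := by rw [Perm.inv_eq_iff_eq, hTzero]
  have hTinv_zero : T⁻¹ (some 0) = none := by rw [Perm.inv_eq_iff_eq, hTinf]
  obtain ⟨r', hr', hγ⟩ := hfix (T * B * T⁻¹)
    (Γ.mul_mem (Γ.mul_mem hTΓ hBΓ) (Γ.inv_mem hTΓ))
    (by rw [Perm.mul_apply, Perm.mul_apply, hTinv_none, hB, mulFun_some, mul_zero, hTzero])
    (by rw [Perm.mul_apply, Perm.mul_apply, hTinv_zero, hB, mulFun_none, hTinf])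
  have hTB : ∀ x, T (B x) = mulFun r' (T x) := by
    intro x
    have := hγ (T x)
    rw [Perm.mul_apply, Perm.mul_apply, perm_inv_apply_self] at this
    exact this
  obtain ⟨τ, hτ⟩ : ∃ τ : ZMod p → ZMod p, ∀ x, x ≠ 0 → τ x ≠ 0 ∧ T (some x) = some (τ x) := by
    refine ⟨fun x => (T (some x)).getD 0, fun x hx => ?_⟩
    obtain ⟨w, hw, hTw⟩ := swap_some T hTinf hTzero x hx
    simp only [hTw, Option.getD_some]
    exact ⟨hw, trivial⟩
  have hτr : ∀ x, x ≠ 0 → τ (r * x) = r' * τ x := by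
    intro x hx
    have h1 := hTB (some x)
    rw [hB, mulFun_some, (hτ x hx).2, mulFun_some, (hτ (r * x) (mul_ne_zero hr0 hx)).2] at h1
    exact Option.some.inj h1
  have hτpow : ∀ (i : ℕ) (x : ZMod p), x ≠ 0 → τ (r ^ i * x) = r' ^ i * τ x := by
    intro i
    induction i with
    | zero =>
      intro x hx
      simp
    | succ k ih =>
      intro x hx
      rw [pow_succ, mul_assoc, ih (r * x) (mul_ne_zero hr0 hx), hτr x hx, pow_succ]
      ring
  have hτ1 : τ 1 = u := Option.some.inj ((hτ 1 h10).2.symm.trans hT1)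
  obtain ⟨v, hvdef⟩ : ∃ v : ZMod p, v = τ n₀ := ⟨_, rfl⟩
  have hv0 : v ≠ 0 := by rw [hvdef]; exact (hτ n₀ har.n₀_ne).1
  have h1 : ∀ i : ℕ, τ (r ^ i) = r' ^ i * u := by
    intro i
    have := hτpow i 1 h10
    rwa [mul_one, hτ1] at this
  have h2 : ∀ i : ℕ, τ (r ^ i * n₀) = r' ^ i * v := by
    intro i
    rw [hvdef]
    exact hτpow i n₀ har.n₀_ne
  -- `T` agrees with the candidate
  have hTc : ∀ y, T y = candFun (candList r r' n₀ u v h) y := by
    intro y
    cases y with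
    | none => rw [hTinf, candFun_none]
    | some z =>
      by_cases hz : z = 0
      · rw [hz, hTzero, candFun_zero]
      · rw [candFun_some _ z hz, lookup_candList r r' n₀ u v τ h1 h2 z h (har.cov z hz),
          (hτ z hz).2]
        rfl
  -- the candidate passes the test
  have hpass : Pass h (candList r r' n₀ u v h) := by
    intro x y₀ hx hy₀ hy
    rw [← hTc] at hy
    obtain ⟨Ax, hAxΓ, hAx⟩ := exists_shift Γ hA x
    obtain ⟨Ay, hAyΓ, hAy⟩ := exists_shift Γ hA y₀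
    obtain ⟨Aw, hAwΓ, hAw⟩ := exists_shift Γ hA (-(τ x))
    obtain ⟨s', hs', hω⟩ := hfix (Aw * T * Ax * T * Ay * T⁻¹)
      (Γ.mul_mem (Γ.mul_mem (Γ.mul_mem (Γ.mul_mem (Γ.mul_mem hAwΓ hTΓ) hAxΓ) hTΓ) hAyΓ)
        (Γ.inv_mem hTΓ))
      (by
        simp only [Perm.mul_apply]
        rw [hTinv_none, hAy, shiftFun_some, zero_add, hy, hAx, shiftFun_some, neg_add_cancel,
          hTzero, hAw, shiftFun_none])
      (by
        simp only [Perm.mul_apply]
        rw [hTinv_zero, hAy, shiftFun_none, hTinf, hAx, shiftFun_some, zero_add, (hτ x hx).2,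
          hAw, shiftFun_some, add_neg_cancel])
    refine ⟨s', hs', fun y => ?_⟩
    have h3 := hω (T y)
    simp only [Perm.mul_apply, perm_inv_apply_self] at h3
    rw [hAy, hAx, hAw] at h3
    rw [← hTc, ← hTc, ← hTc, ← hTc, (hτ x hx).2, Option.getD_some]
    exact h3
  -- apply the certificate
  have hgood : r' * r = 1 ∧ v * n₀ = u ∧ (-u) ^ h = 1 := by
    rcases hcert with hc | ⟨hc, hcomm⟩
    · exact hc r' u v hr' hu hv0 hpass
    · rcases hc r' u v hr' hu hv0 hpass with hg | hrr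
      · exact hg
      · exfalso
        apply hcomm T hTΓ hTinf hTzero B hBΓ hB
        apply Equiv.ext
        intro x
        rw [Perm.mul_apply, Perm.mul_apply, hTB, hrr, ← hB]
  obtain ⟨hg1, hg2, hg3⟩ := hgood
  refine ⟨T, hTΓ, u, hg3, hTinf, hTzero, fun x hx => ?_⟩
  rw [(hτ x hx).2]
  congr 1
  obtain ⟨i, -, hxi⟩ := har.cov x hx
  have hri : r' ^ i * r ^ i = 1 := by rw [← mul_pow, hg1, one_pow]
  have hrne : r ^ i ≠ 0 := pow_ne_zero i hr0
  rcases hxi with rfl | rfl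
  · rw [h1, eq_div_iff hrne, mul_assoc, mul_comm u, ← mul_assoc, hri, one_mul]
  · rw [h2, eq_div_iff (mul_ne_zero hrne har.n₀_ne)]
    calc r' ^ i * v * (r ^ i * n₀) = (r' ^ i * r ^ i) * (v * n₀) := by ring
      _ = u := by rw [hri, hg2, one_mul]

end

end Cfsg.Agent.Lib.Helper23
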