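import Mathlib
import Cfsg.Agent.Lib.Helper6.PSLCard
import Cfsg.Agent.Lib.Helper23.PSL2B

/-!
# Recognition of `PSL(2, p)`: the Möbius action and the final isomorphism
-/

namespace Cfsg.Agent.Lib.Helper23

open Matrix Equiv

section Mob

variable {K : Type*} [Field K] [DecidableEq K]

/-- The Möbius action of `SL(2, K)` on the projective line `Option K`. -/
noncomputable def mobHom : Matrix.SpecialLinearGroup (Fin 2) K →* Perm (Option K) :=
  (MulAction.toPermHom (GL (Fin 2) K) (OnePoint K)).comp Matrix.SpecialLinearGroup.toGL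

theorem mobHom_none (A : Matrix.SpecialLinearGroup (Fin 2) K) :
    mobHom A none = if A 1 0 = 0 then none else some (A 0 0 / A 1 0) := by
  show (Matrix.SpecialLinearGroup.toGL A) • (OnePoint.infty : OnePoint K) = _
  rw [OnePoint.smul_infty_eq_ite]
  rfl

theorem mobHom_some (A : Matrix.SpecialLinearGroup (Fin 2) K) (k : K) :
    mobHom A (some k) = if A 1 0 * k + A 1 1 = 0 then none
      else some ((A 0 0 * k + A 0 1) / (A 1 0 * k + A 1 1)) := by
  show (Matrix.SpecialLinearGroup.toGL A) • ((k : K) : OnePoint K) = _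
  rw [OnePoint.smul_some_eq_ite]
  rfl

theorem center_le_ker_mobHom :
    Subgroup.center (Matrix.SpecialLinearGroup (Fin 2) K) ≤ (mobHom (K := K)).ker := by
  intro A hA
  rw [Matrix.SpecialLinearGroup.mem_center_iff] at hA
  obtain ⟨r, hr, hA⟩ := hA
  rw [MonoidHom.mem_ker]
  have hr0 : r ≠ 0 := by
    rintro rfl
    simp at hr
  have h00 : A 0 0 = r := by
    have := congrFun (congrFun hA 0) 0
    simpa using this.symm
  have h01 : A 0 1 = 0 := by
    have := congrFun (congrFun hA 0) 1
    simpa using this.symm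
  have h10 : A 1 0 = 0 := by
    have := congrFun (congrFun hA 1) 0
    simpa using this.symm
  have h11 : A 1 1 = r := by
    have := congrFun (congrFun hA 1) 1
    simpa using this.symm
  apply Equiv.ext
  intro x
  cases x with
  | none =>
    rw [mobHom_none, if_pos h10]
    rfl
  | some k =>
    rw [mobHom_some, h10, h11, h00, h01, zero_mul, zero_add, if_neg hr0, add_zero,
      mul_div_cancel_left₀ k hr0]
    rfl

theorem exists_sl (a b c d : K) (h : a * d - b * c = 1) :
    ∃ A : Matrix.SpecialLinearGroup (Fin 2) K, A 0 0 = a ∧ A 0 1 = b ∧ A 1 0 = c ∧ A 1 1 = d :=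
  ⟨⟨!![a, b; c, d], by rw [det_fin_two]; simpa using h⟩, rfl, rfl, rfl, rfl⟩

/-- Translations are Möbius maps. -/
theorem mob_shift (c : K) : ∃ A : Matrix.SpecialLinearGroup (Fin 2) K,
    mobHom A none = none ∧ ∀ k : K, mobHom A (some k) = some (k + c) := by
  obtain ⟨A, h00, h01, h10, h11⟩ := exists_sl (1 : K) c 0 1 (by ring)
  refine ⟨A, ?_, fun k => ?_⟩
  · rw [mobHom_none, if_pos h10]
  · rw [mobHom_some, h00, h01, h10, h11, zero_mul, zero_add, if_neg one_ne_zero, one_mul,
      div_one]

/-- Multiplications by nonzero squares are Möbius maps. -/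
theorem mob_mul (σ : K) (hσ : σ ≠ 0) : ∃ A : Matrix.SpecialLinearGroup (Fin 2) K,
    mobHom A none = none ∧ ∀ k : K, mobHom A (some k) = some (σ * σ * k) := by
  obtain ⟨A, h00, h01, h10, h11⟩ := exists_sl σ 0 0 σ⁻¹ (by field_simp; ring)
  refine ⟨A, ?_, fun k => ?_⟩
  · rw [mobHom_none, if_pos h10]
  · rw [mobHom_some, h00, h01, h10, h11, zero_mul, zero_add, if_neg (inv_ne_zero hσ), add_zero]
    congr 1
    field_simp

/-- The maps `x ↦ u / x` with `-u` a nonzero square are Möbius maps. -/
theorem mob_swap (u σ : K) (hσ : σ ≠ 0) (hu : σ * σ = -u) :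
    ∃ A : Matrix.SpecialLinearGroup (Fin 2) K,
    mobHom A none = some 0 ∧ mobHom A (some 0) = none ∧
      ∀ k : K, k ≠ 0 → mobHom A (some k) = some (u / k) := by
  have hu' : u = -(σ * σ) := by rw [hu, neg_neg]
  obtain ⟨A, h00, h01, h10, h11⟩ := exists_sl (0 : K) (u * σ⁻¹) σ⁻¹ 0 (by
    rw [hu']
    field_simp
    ring)
  refine ⟨A, ?_, ?_, fun k hk => ?_⟩
  · rw [mobHom_none, h00, h10, if_neg (inv_ne_zero hσ), zero_div]
  · rw [mobHom_some, h10, h11, mul_zero, zero_add, if_pos rfl]
  · rw [mobHom_some, h00, h01, h10, h11, zero_mul, zero_add, add_zero,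
      if_neg (mul_ne_zero (inv_ne_zero hσ) hk)]
    congr 1
    field_simp

end Mob

section Congr

theorem map_center_mulEquiv {G H : Type*} [Group G] [Group H] (e : G ≃* H) :
    (Subgroup.center G).map e.toMonoidHom = Subgroup.center H := by
  ext x
  constructor
  · rintro ⟨y, hy, rfl⟩
    have hy' := Subgroup.mem_center_iff.mp hy
    rw [Subgroup.mem_center_iff]
    intro h
    obtain ⟨g, rfl⟩ := e.surjective h
    simp only [MulEquiv.coe_toMonoidHom, ← map_mul, hy' g]
  · intro hx
    rw [Subgroup.mem_center_iff] at hx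
    refine ⟨e.symm x, Subgroup.mem_center_iff.mpr ?_, by simp⟩
    intro g
    apply e.injective
    simp only [map_mul, MulEquiv.apply_symm_apply]
    exact hx (e g)

/-- A ring isomorphism induces an isomorphism of special linear groups. -/
noncomputable def slCongr {R S : Type*} [CommRing R] [CommRing S] (n : Type*) [DecidableEq n]
    [Fintype n] (e : R ≃+* S) :
    Matrix.SpecialLinearGroup n R ≃* Matrix.SpecialLinearGroup n S where
  toFun := Matrix.SpecialLinearGroup.map e.toRingHom
  invFun := Matrix.SpecialLinearGroup.map e.symm.toRingHom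
  left_inv A := by
    ext i j
    simp [Matrix.SpecialLinearGroup.map_apply_coe]
  right_inv A := by
    ext i j
    simp [Matrix.SpecialLinearGroup.map_apply_coe]
  map_mul' := map_mul _

/-- A ring isomorphism induces an isomorphism of projective special linear groups. -/
theorem psl_congr {R S : Type*} [CommRing R] [CommRing S] (n : Type*) [DecidableEq n]
    [Fintype n] (e : R ≃+* S) :
    Nonempty (ProjectiveSpecialLinearGroup n R ≃* ProjectiveSpecialLinearGroup n S) :=
  ⟨QuotientGroup.congr _ _ (slCongr n e) (map_center_mulEquiv (slCongr n e))⟩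

end Congr

section Final

variable {p : ℕ} [hp : Fact p.Prime]

/-- If a group of order `p (p² - 1) / 2` acts faithfully on the projective line over `ZMod p` by
Möbius transformations, it is isomorphic to `PSL(2, p)`. -/
theorem psl2_iso_of_le {G : Type*} [Group G] [Finite G] (hp2 : p ≠ 2)
    (π : G →* Perm (Option (ZMod p))) (hπ : Function.Injective π)
    (hcard : 2 * Nat.card G = p * (p ^ 2 - 1))
    (hle : ∀ g : G, π g ∈ (mobHom (K := ZMod p)).range) :
    Nonempty (G ≃* Matrix.ProjectiveSpecialLinearGroup (Fin 2) (ZMod p)) := by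
  classical
  have hne : NeZero p := ⟨hp.out.ne_zero⟩
  have hp1 : 1 < p := hp.out.one_lt
  have hSL : Nat.card (Matrix.SpecialLinearGroup (Fin 2) (ZMod p)) = p * (p ^ 2 - 1) := by
    have h1 := Cfsg.Agent.Lib.Helper6.card_sl (F := ZMod p) (q := p) (ZMod.card p) 2 (by norm_num)
    rw [Fin.prod_univ_two] at h1
    simp only [Fin.val_zero, pow_zero, Fin.val_one, pow_one] at h1
    have h2 : p ^ 2 - p = (p - 1) * p := by
      rw [Nat.sub_mul, one_mul, sq]
    rw [h2] at h1
    have h3 : (p - 1) * Nat.card (Matrix.SpecialLinearGroup (Fin 2) (ZMod p)) =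
        (p - 1) * (p * (p ^ 2 - 1)) := by
      rw [h1]
      ring
    exact Nat.eq_of_mul_eq_mul_left (by omega) h3
  have hcen : Nat.card (Subgroup.center (Matrix.SpecialLinearGroup (Fin 2) (ZMod p))) = 2 := by
    rw [Cfsg.Agent.Lib.Helper6.card_center_sl (ZMod.card p) 2 (by norm_num)]
    have hodd : Odd p := hp.out.odd_of_ne_two hp2
    obtain ⟨k, hk⟩ := hodd
    have : p - 1 = 2 * k := by omega
    rw [this]
    exact Nat.gcd_mul_right_right k 2
  have hrange_le : π.range ≤ (mobHom (K := ZMod p)).range := by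
    rintro _ ⟨g, rfl⟩
    exact hle g
  have hcπ : Nat.card π.range = Nat.card G :=
    (Nat.card_congr (MonoidHom.ofInjective hπ).toEquiv).symm
  have hkr : Nat.card (mobHom (K := ZMod p)).ker * Nat.card (mobHom (K := ZMod p)).range =
      Nat.card (Matrix.SpecialLinearGroup (Fin 2) (ZMod p)) := by
    rw [← Subgroup.index_ker]
    exact Subgroup.card_mul_index _
  have hck : 2 ≤ Nat.card (mobHom (K := ZMod p)).ker := by
    have h0 := Subgroup.card_le_of_le (center_le_ker_mobHom (K := ZMod p))
    rwa [hcen] at h0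
  have hcr : Nat.card G ≤ Nat.card (mobHom (K := ZMod p)).range := by
    rw [← hcπ]
    exact Subgroup.card_le_of_le hrange_le
  have hG0 : 0 < Nat.card G := Nat.card_pos
  rw [hSL, ← hcard] at hkr
  have hker2 : Nat.card (mobHom (K := ZMod p)).ker = 2 := by
    by_contra hne2
    have h3 : 3 ≤ Nat.card (mobHom (K := ZMod p)).ker := by omega
    nlinarith
  have hrangeG : Nat.card (mobHom (K := ZMod p)).range = Nat.card G := by
    rw [hker2] at hkr
    omega
  have hker : (mobHom (K := ZMod p)).ker =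
      Subgroup.center (Matrix.SpecialLinearGroup (Fin 2) (ZMod p)) :=
    (Subgroup.eq_of_le_of_card_ge center_le_ker_mobHom (by rw [hker2, hcen])).symm
  have hrange : π.range = (mobHom (K := ZMod p)).range :=
    Subgroup.eq_of_le_of_card_ge hrange_le (by rw [hrangeG, hcπ])
  exact ⟨(MonoidHom.ofInjective hπ).trans ((MulEquiv.subgroupCongr hrange).trans
    ((QuotientGroup.quotientKerEquivRange (mobHom (K := ZMod p))).symm.trans
      (QuotientGroup.quotientMulEquivOfEq hker)))⟩

/-- Recognition of `PSL(2, p)` from a faithful permutation representation on the projective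
line in which a point stabilizer acts by the maps `x ↦ s x + c`, `s ^ h = 1`. -/
theorem psl2_recog_of_perm {G : Type*} [Group G] [Finite G] [NeZero p]
    (h : ℕ) (r n₀ : ZMod p) (har : PSL2Arith p h r n₀)
    (π : G →* Perm (Option (ZMod p))) (hπ : Function.Injective π)
    (hcard : 2 * Nat.card G = p * (p ^ 2 - 1))
    (hA : ∃ a : G, ∀ x, π a x = shiftFun 1 x)
    (hS : ∀ s : ZMod p, s ^ h = 1 → ∃ b : G, ∀ x, π b x = mulFun s x)
    (hfix : ∀ g : G, π g none = none → π g (some 0) = some 0 →
      ∃ s : ZMod p, s ^ h = 1 ∧ ∀ x, π g x = mulFun s x)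
    (hT : ∃ t : G, π t none = some 0 ∧ π t (some 0) = none)
    (hcert : CertS p h r n₀ ∨ (Cert p h r n₀ ∧
      ∀ t b : G, π t none = some 0 → π t (some 0) = none → (∀ x, π b x = mulFun r x) →
        t * b ≠ b * t))
    {F : Type*} [Field F] [Fintype F] (hF : Fintype.card F = p) :
    Nonempty (G ≃* Matrix.ProjectiveSpecialLinearGroup (Fin 2) F) := by
  classical
  have hp2 : p ≠ 2 := by
    have := har.two_h
    omega
  -- the element swapping `0` and `∞`
  obtain ⟨T, ⟨t₁, rfl⟩, u, hu, ht₁inf, ht₁zero, ht₁⟩ := psl2_swap h r n₀ har π.range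
    (by
      obtain ⟨a, ha⟩ := hA
      exact ⟨π a, ⟨a, rfl⟩, ha⟩)
    (by
      intro s hs
      obtain ⟨b, hb⟩ := hS s hs
      exact ⟨π b, ⟨b, rfl⟩, hb⟩)
    (by
      rintro _ ⟨g, rfl⟩ h1 h2
      exact hfix g h1 h2)
    (by
      obtain ⟨t, ht1, ht2⟩ := hT
      exact ⟨π t, ⟨t, rfl⟩, ht1, ht2⟩)
    (by
      rcases hcert with hc | ⟨hc, hcomm⟩
      · exact Or.inl hc
      · refine Or.inr ⟨hc, ?_⟩
        rintro _ ⟨t, rfl⟩ h1 h2 _ ⟨b, rfl⟩ hb heq
        apply hcomm t b h1 h2 hb
        apply hπ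
        rw [map_mul, map_mul, heq])
  -- membership in the range of the Möbius action
  have hR1 : ∀ (γ : Perm (Option (ZMod p))) (c : ZMod p), (∀ x, γ x = shiftFun c x) →
      γ ∈ (mobHom (K := ZMod p)).range := by
    intro γ c hγ
    obtain ⟨A, hA1, hA2⟩ := mob_shift c
    refine ⟨A, Equiv.ext fun x => ?_⟩
    cases x with
    | none => rw [hA1, hγ, shiftFun_none]
    | some k => rw [hA2, hγ, shiftFun_some]
  have hR2 : ∀ (γ : Perm (Option (ZMod p))) (s : ZMod p), s ^ h = 1 → (∀ x, γ x = mulFun s x) →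
      γ ∈ (mobHom (K := ZMod p)).range := by
    intro γ s hs hγ
    obtain ⟨σ, hσ0, hσ⟩ := har.sq s hs
    obtain ⟨A, hA1, hA2⟩ := mob_mul σ hσ0
    refine ⟨A, Equiv.ext fun x => ?_⟩
    cases x with
    | none => rw [hA1, hγ, mulFun_none]
    | some k => rw [hA2, hγ, mulFun_some, hσ]
  have hR3 : π t₁ ∈ (mobHom (K := ZMod p)).range := by
    obtain ⟨σ, hσ0, hσ⟩ := har.sq (-u) hu
    obtain ⟨A, hA1, hA2, hA3⟩ := mob_swap u σ hσ0 hσ
    refine ⟨A, Equiv.ext fun x => ?_⟩
    cases x with
    | none => rw [hA1, ht₁inf]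
    | some k =>
      by_cases hk : k = 0
      · rw [hk, hA2, ht₁zero]
      · rw [hA3 k hk, ht₁ k hk]
  obtain ⟨a, ha⟩ := hA
  have hac : ∀ c : ZMod p, ∀ x, π (a ^ c.val) x = shiftFun c x := by
    intro c x
    rw [map_pow, perm_pow_shift (π a) ha, ZMod.natCast_zmod_val]
  -- elements fixing `∞`
  have hinf : ∀ g : G, π g none = none → π g ∈ (mobHom (K := ZMod p)).range := by
    intro g hg
    cases hg0 : π g (some 0) with
    | none =>
      have := (π g).injective (hg.trans hg0.symm)
      cases this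
    | some c =>
      have h1 : π ((a ^ c.val)⁻¹ * g) none = none := by
        rw [map_mul, Perm.mul_apply, hg, map_inv, Perm.inv_eq_iff_eq, hac, shiftFun_none]
      have h2 : π ((a ^ c.val)⁻¹ * g) (some 0) = some 0 := by
        rw [map_mul, Perm.mul_apply, hg0, map_inv, Perm.inv_eq_iff_eq, hac, shiftFun_some,
          zero_add]
      obtain ⟨s, hs, hgs⟩ := hfix _ h1 h2
      have h3 : π g = π (a ^ c.val) * π ((a ^ c.val)⁻¹ * g) := by
        rw [← map_mul, mul_inv_cancel_left]
      rw [h3]
      exact Subgroup.mul_mem _ (hR1 _ c (hac c)) (hR2 _ s hs hgs)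
  have hall : ∀ g : G, π g ∈ (mobHom (K := ZMod p)).range := by
    intro g
    cases hg : π g none with
    | none => exact hinf g hg
    | some c =>
      have h1 : π (t₁ * (a ^ c.val)⁻¹ * g) none = none := by
        rw [map_mul, map_mul, Perm.mul_apply, Perm.mul_apply, hg]
        have : (π (a ^ c.val)⁻¹) (some c) = some 0 := by
          rw [map_inv, Perm.inv_eq_iff_eq, hac, shiftFun_some, zero_add]
        rw [this, ht₁zero]
      have h2 := hinf _ h1
      have h3 : π g = π (a ^ c.val) * (π t₁)⁻¹ * π (t₁ * (a ^ c.val)⁻¹ * g) := by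
        rw [← map_inv, ← map_mul, ← map_mul]
        congr 1
        group
      rw [h3]
      exact Subgroup.mul_mem _ (Subgroup.mul_mem _ (hR1 _ c (hac c)) (Subgroup.inv_mem _ hR3)) h2
  obtain ⟨e1⟩ := psl2_iso_of_le hp2 π hπ hcard hall
  obtain ⟨e2⟩ := psl_congr (Fin 2) (ZMod.ringEquivOfPrime F hp.out hF)
  exact ⟨e1.trans e2⟩

end Final

end Cfsg.Agent.Lib.Helper23
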