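import Mathlib
import Cfsg.Agent.Lib.Helper23.PSL2C
import Cfsg.Agent.Lib.Helper23.SignArg
import Cfsg.Agent.Lib.Helper23.Syl

/-!
# Recognition of `PSL(2, p)`: the permutation representation on the Sylow `p`-subgroups
-/

namespace Cfsg.Agent.Lib.Helper23

open Equiv Subgroup

/-- If a finite group with `p + 1` Sylow `p`-subgroups of order `p` acts faithfully on them and
has order `(p + 1) p h`, then labelling the Sylow `p`-subgroups by the projective line over
`ZMod p` gives a permutation representation in which a generator of a Sylow `p`-subgroup acts as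
`x ↦ x + 1`, the two-point stabilizer acts by the multiplications `x ↦ s x` with `s ^ h = 1`, and
some element swaps `0` and `∞`. -/
theorem psl2_perm_rep {G : Type*} [Group G] [Finite G] {p : ℕ} [hp : Fact p.Prime] [NeZero p]
    (hfaith : ∀ g : G, (∀ Q : Sylow p G, g • Q = Q) → g = 1)
    (P : Sylow p G) (hPc : Nat.card (P : Subgroup G) = p)
    (hn : Nat.card (Sylow p G) = p + 1)
    (h : ℕ) (hcard : Nat.card G = (p + 1) * (p * h))
    (hS : (Finset.univ.filter (fun s : ZMod p => s ^ h = 1)).card = h) :
    ∃ π : G →* Perm (Option (ZMod p)), Function.Injective π ∧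
      (∃ a : G, ∀ x, π a x = shiftFun 1 x) ∧
      (∀ s : ZMod p, s ^ h = 1 → ∃ b : G, ∀ x, π b x = mulFun s x) ∧
      (∀ g : G, π g none = none → π g (some 0) = some 0 →
        ∃ s : ZMod p, s ^ h = 1 ∧ ∀ x, π g x = mulFun s x) ∧
      (∃ t : G, π t none = some 0 ∧ π t (some 0) = none) := by
  classical
  have hp1 := hp.out.one_lt
  -- a generator of `P`
  obtain ⟨a, haP, ha1⟩ : ∃ a ∈ (P : Subgroup G), a ≠ 1 := by
    have : Nontrivial (P : Subgroup G) :=
      Finite.one_lt_card_iff_nontrivial.mp (by rw [hPc]; exact hp1)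
    obtain ⟨⟨a, ha⟩, hne⟩ := exists_ne (1 : (P : Subgroup G))
    exact ⟨a, ha, fun h => hne (Subtype.ext h)⟩
  have hord : orderOf a = p := by
    have hd : orderOf a ∣ p := by
      have h1 : orderOf (⟨a, haP⟩ : (P : Subgroup G)) ∣ Nat.card (P : Subgroup G) :=
        orderOf_dvd_natCard _
      rwa [hPc, ← Subgroup.orderOf_coe] at h1
    rcases (Nat.dvd_prime hp.out).mp hd with h1 | h1
    · exact absurd (orderOf_eq_one_iff.mp h1) ha1
    · exact h1
  have hgen : zpowers a = P := by
    apply Subgroup.eq_of_le_of_card_ge ((zpowers_le).mpr haP)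
    rw [Nat.card_zpowers, hPc, hord]
  -- a second point
  obtain ⟨Q₀, hQ₀⟩ : ∃ Q₀ : Sylow p G, Q₀ ≠ P := by
    have : Nontrivial (Sylow p G) :=
      Finite.one_lt_card_iff_nontrivial.mp (by rw [hn]; omega)
    exact exists_ne P
  have hPfix : ∀ x ∈ (P : Subgroup G), x • P = P := fun x hx =>
    Sylow.smul_eq_iff_mem_normalizer.mpr (le_normalizer hx)
  -- the labelling
  obtain ⟨E, hEnone, hEsome⟩ : ∃ E : Option (ZMod p) → Sylow p G, E none = P ∧
      ∀ i : ZMod p, E (some i) = a ^ i.val • Q₀ :=
    ⟨fun x => match x with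
      | none => P
      | some i => a ^ i.val • Q₀, rfl, fun _ => rfl⟩
  have hE1 : ∀ n : ℕ, E (some (n : ZMod p)) = a ^ n • Q₀ := by
    intro n
    have h0 : a ^ (n % p) = a ^ n := by
      have := pow_mod_orderOf a n
      rwa [hord] at this
    rw [hEsome, ZMod.val_natCast, h0]
  have hE0 : E (some 0) = Q₀ := by
    rw [hEsome, ZMod.val_zero, pow_zero, one_smul]
  have hne_aux : ∀ j : ZMod p, a ^ j.val • Q₀ ≠ P := by
    intro j hj
    apply hQ₀
    rw [← hPfix (a ^ j.val) (Subgroup.pow_mem _ haP _)] at hj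
    exact MulAction.injective _ hj
  have hEinj : Function.Injective E := by
    intro x y hxy
    cases x with
    | none =>
      cases y with
      | none => rfl
      | some j =>
        rw [hEnone, hEsome] at hxy
        exact absurd hxy.symm (hne_aux j)
    | some i =>
      cases y with
      | none =>
        rw [hEnone, hEsome] at hxy
        exact absurd hxy (hne_aux i)
      | some j =>
        rw [hEsome, hEsome] at hxy
        have h2 : ((a ^ j.val)⁻¹ * a ^ i.val) • Q₀ = Q₀ := by
          rw [mul_smul, hxy, inv_smul_smul]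
        have h3 : (a ^ j.val)⁻¹ * a ^ i.val ∈
            ((P : Subgroup G) ⊓ (Q₀ : Subgroup G) : Subgroup G) := by
          rw [← P.isPGroup'.inf_normalizer_sylow Q₀]
          exact ⟨Subgroup.mul_mem _ (Subgroup.inv_mem _ (Subgroup.pow_mem _ haP _))
            (Subgroup.pow_mem _ haP _), Sylow.smul_eq_iff_mem_normalizer.mp h2⟩
        rw [sylow_inf_eq_bot_of_card_prime P Q₀ hPc (Ne.symm hQ₀), Subgroup.mem_bot] at h3
        have h4 : a ^ i.val = a ^ j.val := by
          have := congrArg (fun w => a ^ j.val * w) h3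
          simpa using this
        have h5 : i.val ≡ j.val [MOD orderOf a] := pow_eq_pow_iff_modEq.mp h4
        rw [hord] at h5
        have h6 : i.val = j.val := Nat.ModEq.eq_of_lt_of_lt h5 (ZMod.val_lt i) (ZMod.val_lt j)
        exact congrArg some (ZMod.val_injective p h6)
  have hEbij : Function.Bijective E := by
    apply Function.Injective.bijective_of_nat_card_le hEinj
    rw [hn, Nat.card_eq_fintype_card, Fintype.card_option, ZMod.card]
  obtain ⟨e, he⟩ : ∃ e : Option (ZMod p) ≃ Sylow p G, ∀ x, e x = E x :=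
    ⟨Equiv.ofBijective E hEbij, fun _ => rfl⟩
  obtain ⟨π, hπ⟩ : ∃ π : G →* Perm (Option (ZMod p)), ∀ g x, π g x = e.symm (g • e x) :=
    ⟨(e.symm.permCongrHom).toMonoidHom.comp (MulAction.toPermHom G (Sylow p G)),
      fun _ _ => rfl⟩
  have hπiff : ∀ g x y, π g x = y ↔ g • E x = E y := by
    intro g x y
    rw [hπ, Equiv.symm_apply_eq, he, he]
  have hπinj : Function.Injective π := by
    rw [injective_iff_map_eq_one]
    intro g hg
    apply hfaith
    intro Q
    obtain ⟨x, rfl⟩ := hEbij.2 Q
    have h1 : π g x = x := by rw [hg]; rfl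
    exact (hπiff g x x).mp h1
  -- the normalizer and the two-point stabilizer
  have hNcard : Nat.card (normalizer ((P : Subgroup G) : Set G)) = p * h := by
    have h1 := card_normalizer_sylow_mul P
    rw [hn, hcard] at h1
    have h2 : (p + 1) * Nat.card (normalizer ((P : Subgroup G) : Set G)) = (p + 1) * (p * h) := by
      rw [← h1]
      ring
    exact Nat.eq_of_mul_eq_mul_left (by omega) h2
  have horb : MulAction.orbit (normalizer ((P : Subgroup G) : Set G)) Q₀ =
      {Q : Sylow p G | Q ≠ P} := by
    ext Q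
    constructor
    · rintro ⟨⟨n, hnN⟩, rfl⟩ hQ
      apply hQ₀
      have h6 : n • Q₀ = P := hQ
      have h7 : n⁻¹ • P = P := Sylow.smul_eq_iff_mem_normalizer.mpr (inv_mem hnN)
      rw [← h7, ← h6, inv_smul_smul]
    · intro hQ
      obtain ⟨x, hx, hxQ⟩ := exists_smul_eq_of_card_sylow_eq_succ P hPc hn Q₀ Q hQ₀ hQ
      exact ⟨⟨x, le_normalizer hx⟩, hxQ⟩
  have hncard : ({Q : Sylow p G | Q ≠ P} : Set (Sylow p G)).ncard = p := by
    have h7 : {Q : Sylow p G | Q ≠ P} = ({P} : Set (Sylow p G))ᶜ := by
      ext Q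
      simp
    rw [h7, Set.ncard_compl, Set.ncard_singleton, hn]
    rfl
  have hstab : Nat.card (MulAction.stabilizer (normalizer ((P : Subgroup G) : Set G)) Q₀) = h := by
    have h1 := (MulAction.stabilizer (normalizer ((P : Subgroup G) : Set G)) Q₀).card_mul_index
    rw [MulAction.index_stabilizer, horb, hncard, hNcard] at h1
    have h2 : p * Nat.card (MulAction.stabilizer (normalizer ((P : Subgroup G) : Set G)) Q₀) =
        p * h := by
      rw [← h1]
      ring
    exact Nat.eq_of_mul_eq_mul_left (by omega) h2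
  have hpow : ∀ g : G, g • P = P → g • Q₀ = Q₀ → g ^ h = 1 := by
    intro g hgP hgQ
    have hgN : g ∈ normalizer ((P : Subgroup G) : Set G) :=
      Sylow.smul_eq_iff_mem_normalizer.mp hgP
    have h1 : (⟨⟨g, hgN⟩, hgQ⟩ :
        MulAction.stabilizer (normalizer ((P : Subgroup G) : Set G)) Q₀) ^ h = 1 := by
      rw [← hstab]
      exact pow_card_eq_one'
    have h2 := congrArg (fun w : MulAction.stabilizer (normalizer ((P : Subgroup G) : Set G)) Q₀
      => ((w : normalizer ((P : Subgroup G) : Set G)) : G)) h1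
    simpa using h2
  -- elements fixing `∞` and `0` act as multiplications
  have hfix : ∀ g : G, g • P = P → g • Q₀ = Q₀ →
      ∃ s : ZMod p, s ^ h = 1 ∧ ∀ x, π g x = mulFun s x := by
    intro g hgP hgQ
    have hgN : g ∈ normalizer ((P : Subgroup G) : Set G) :=
      Sylow.smul_eq_iff_mem_normalizer.mp hgP
    have hconj : g * a * g⁻¹ ∈ (P : Subgroup G) := (mem_normalizer_iff.mp hgN a).mp haP
    rw [← hgen, ← mem_powers_iff_mem_zpowers] at hconj
    obtain ⟨k, hk⟩ := hconj
    have hk' : a ^ k = g * a * g⁻¹ := hk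
    have hconjpow : ∀ n : ℕ, g * a ^ n * g⁻¹ = a ^ (k * n) := by
      intro n
      rw [← conj_pow, ← hk', pow_mul]
    have hact : ∀ x, π g x = mulFun (k : ZMod p) x := by
      intro x
      rw [hπiff]
      cases x with
      | none => rw [mulFun_none, hEnone, hgP]
      | some i =>
        rw [mulFun_some, hEsome]
        have h1 : g • a ^ i.val • Q₀ = (g * a ^ i.val * g⁻¹) • g • Q₀ := by
          rw [← mul_smul, ← mul_smul, inv_mul_cancel_right]
        rw [h1, hgQ, hconjpow, ← hE1]
        congr 2
        rw [Nat.cast_mul, ZMod.natCast_zmod_val]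
    refine ⟨(k : ZMod p), ?_, hact⟩
    have hiter : ∀ (m : ℕ) (x : ZMod p), (π g ^ m) (some x) = some ((k : ZMod p) ^ m * x) := by
      intro m
      induction m with
      | zero =>
        intro x
        simp
      | succ m ih =>
        intro x
        rw [pow_succ, Perm.mul_apply, hact, mulFun_some, ih, pow_succ]
        congr 1
        ring
    have h2 := hiter h 1
    rw [← map_pow, hpow g hgP hgQ, map_one, mul_one] at h2
    exact (Option.some.inj h2).symm
  -- surjectivity onto `{s | s ^ h = 1}`
  have hsurj : ∀ s : ZMod p, s ^ h = 1 → ∃ b : G, ∀ x, π b x = mulFun s x := by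
    have hfin : Fintype (MulAction.stabilizer (normalizer ((P : Subgroup G) : Set G)) Q₀) :=
      Fintype.ofFinite _
    have hgfix : ∀ g : MulAction.stabilizer (normalizer ((P : Subgroup G) : Set G)) Q₀,
        ∃ s : ZMod p, s ^ h = 1 ∧
          ∀ x, π ((g : normalizer ((P : Subgroup G) : Set G)) : G) x = mulFun s x := by
      intro g
      exact hfix _ (Sylow.smul_eq_iff_mem_normalizer.mpr g.1.2) g.2
    choose f hf1 hf2 using hgfix
    have hfinj : Function.Injective f := by
      intro g g' hgg
      apply Subtype.ext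
      apply Subtype.ext
      apply hπinj
      apply Equiv.ext
      intro x
      rw [hf2, hf2, hgg]
    have himg : Finset.univ.image f = Finset.univ.filter (fun s : ZMod p => s ^ h = 1) := by
      apply Finset.eq_of_subset_of_card_le
      · intro s hs
        rw [Finset.mem_image] at hs
        obtain ⟨g, -, rfl⟩ := hs
        rw [Finset.mem_filter]
        exact ⟨Finset.mem_univ _, hf1 g⟩
      · rw [Finset.card_image_of_injective _ hfinj, hS, Finset.card_univ,
          ← Nat.card_eq_fintype_card, hstab]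
    intro s hs
    have hmem : s ∈ Finset.univ.image f := by
      rw [himg, Finset.mem_filter]
      exact ⟨Finset.mem_univ _, hs⟩
    rw [Finset.mem_image] at hmem
    obtain ⟨g, -, rfl⟩ := hmem
    exact ⟨_, hf2 g⟩
  refine ⟨π, hπinj, ⟨a, fun x => ?_⟩, hsurj, ?_, ?_⟩
  · -- `a` acts as a translation
    rw [hπiff]
    cases x with
    | none => rw [shiftFun_none, hEnone, hPfix a haP]
    | some i =>
      rw [shiftFun_some, hEsome, ← mul_smul, ← pow_succ', ← hE1]
      congr 2
      rw [Nat.cast_add, ZMod.natCast_zmod_val, Nat.cast_one]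
  · intro g hg1 hg2
    rw [hπiff, hEnone] at hg1
    rw [hπiff, hE0] at hg2
    exact hfix g hg1 hg2
  · -- an element swapping the two points
    obtain ⟨g, hg⟩ := MulAction.exists_smul_eq G Q₀ P
    have hQ' : g • P ≠ P := by
      intro h1
      apply hQ₀
      have h2 : g⁻¹ • P = P := by rw [inv_smul_eq_iff, h1]
      rw [← h2, ← hg, inv_smul_smul]
    obtain ⟨x, hx, hxQ⟩ := exists_smul_eq_of_card_sylow_eq_succ P hPc hn (g • P) Q₀ hQ' hQ₀
    refine ⟨x * g, ?_, ?_⟩
    · rw [hπiff, hEnone, hE0, mul_smul, hxQ]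
    · rw [hπiff, hEnone, hE0, mul_smul, hg, hPfix x hx]

end Cfsg.Agent.Lib.Helper23
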