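import Mathlib
import Cfsg.Agent.Lib.Helper23.PSL2A

/-!
# Recognition of `PSL(2, p)` among simple groups of order `p (p² - 1) / 2`
-/

namespace Cfsg.Agent.Lib.Helper23

open Equiv Subgroup

/-- A finite simple group of order `(p + 1) p h`, `p = 2 h + 1`, with exactly `p + 1` Sylow
`p`-subgroups is isomorphic to `PSL(2, F)` for any field `F` with `p` elements, provided the
(decidable) certificate for `p` holds. -/
theorem psl2_recog {G : Type*} [Group G] [Finite G] [IsSimpleGroup G] {p : ℕ}
    [hp : Fact p.Prime] [NeZero p] (h : ℕ) (r n₀ : ZMod p) (har : PSL2Arith p h r n₀)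
    (hcard : Nat.card G = (p + 1) * (p * h))
    (hn : Nat.card (Sylow p G) = p + 1)
    (hcert : CertS p h r n₀ ∨ (Cert p h r n₀ ∧
      ∀ b t : G, b ≠ 1 → b ^ h = 1 → t * b = b * t → ∃ k : ℕ, t = b ^ k))
    {F : Type*} [Field F] [Fintype F] (hF : Fintype.card F = p) :
    Nonempty (G ≃* Matrix.ProjectiveSpecialLinearGroup (Fin 2) F) := by
  classical
  have hp1 := hp.out.one_lt
  have h2h := har.two_h
  have hh0 : h ≠ 0 := by
    rintro rfl
    omega
  have hG : ¬ IsMulCommutative G := by
    apply not_comm_of_simple_of_not_prime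
    rw [hcard]
    apply Nat.not_prime_mul
    · omega
    · intro h1
      have : p ∣ 1 := h1 ▸ Dvd.intro h rfl
      exact hp.out.one_lt.ne' (Nat.dvd_one.mp this)
  obtain ⟨P⟩ : Nonempty (Sylow p G) := inferInstance
  have hPc : Nat.card (P : Subgroup G) = p := by
    have h1 : Nat.card G = p ^ 1 * ((p + 1) * h) := by
      rw [hcard]
      ring
    have hm : ¬ p ∣ (p + 1) * h := by
      intro hd
      rcases (Nat.Prime.dvd_mul hp.out).mp hd with h3 | h3
      · have : p ∣ 1 := (Nat.dvd_add_right (dvd_refl p)).mp h3
        exact hp.out.one_lt.ne' (Nat.dvd_one.mp this)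
      · have := Nat.le_of_dvd (by omega) h3
        omega
    have := sylow_card_of_eq h1 hm P
    rwa [pow_one] at this
  have hfin : Fintype (Sylow p G) := Fintype.ofFinite _
  have hfaith : ∀ g : G, (∀ Q : Sylow p G, g • Q = Q) → g = 1 := by
    intro g hg
    have hinj := (simple_sylow_action hG (p := p) (by rw [hn]; omega)).1
    apply hinj
    rw [map_one]
    apply Equiv.ext
    intro Q
    exact hg Q
  obtain ⟨π, hπinj, hA, hS, hfix, hT⟩ := psl2_perm_rep hfaith P hPc hn h hcard har.card
  have hcard2 : 2 * Nat.card G = p * (p ^ 2 - 1) := by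
    rw [hcard]
    have hp' : p = 2 * h + 1 := h2h.symm
    have h3 : p ^ 2 - 1 = (p + 1) * (2 * h) := by
      rw [hp']
      apply Nat.sub_eq_of_eq_add
      ring
    rw [h3]
    ring
  refine psl2_recog_of_perm h r n₀ har π hπinj hcard2 hA hS hfix hT ?_ hF
  rcases hcert with hc | ⟨hc, hexc⟩
  · exact Or.inl hc
  · refine Or.inr ⟨hc, ?_⟩
    intro t b ht1 ht2 hb hcomm
    have hiter : ∀ (m : ℕ) (x : Option (ZMod p)), (π b ^ m) x = mulFun (r ^ m) x := by
      intro m
      induction m with
      | zero =>
        intro x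
        cases x <;> simp [mulFun]
      | succ m ih =>
        intro x
        rw [pow_succ, Perm.mul_apply, hb, ih]
        cases x with
        | none => rfl
        | some x =>
          rw [mulFun_some, mulFun_some, mulFun_some, pow_succ]
          congr 1
          ring
    have hb1 : b ≠ 1 := by
      rintro rfl
      have h1 := hb (some 1)
      rw [map_one, mulFun_some, mul_one] at h1
      exact har.r_ne (Option.some.inj h1).symm
    have hbh : b ^ h = 1 := by
      apply hπinj
      rw [map_pow, map_one]
      apply Equiv.ext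
      intro x
      rw [hiter, har.rpow]
      cases x <;> simp [mulFun]
    obtain ⟨k, hk⟩ := hexc b t hb1 hbh hcomm
    rw [hk, map_pow, hiter, mulFun_none] at ht1
    cases ht1

end Cfsg.Agent.Lib.Helper23
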