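import Mathlib
import Cfsg.Agent.Lib.Helper23.PSL2C

/-!
# Recognition of `PSL(2, K)` for a finite field `K` of odd order

A group of order `q (q² - 1) / 2` acting faithfully on the projective line over `K` (`q = |K|`)
such that all translations occur, the two-point stabilizer acts by multiplications by squares and
some element acts as `x ↦ u / x` with `-u` a square, is isomorphic to `PSL(2, K)`.
-/

namespace Cfsg.Agent.Lib.Helper23

open Matrix Equiv

theorem psl2_recog_odd {K : Type*} [Field K] [Fintype K] [DecidableEq K]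
    {G : Type*} [Group G] [Finite G] (hodd : Odd (Fintype.card K))
    (π : G →* Perm (Option K)) (hπ : Function.Injective π)
    (hcard : 2 * Nat.card G = Fintype.card K * (Fintype.card K ^ 2 - 1))
    (hA : ∀ c : K, ∃ a : G, ∀ x, π a x = Option.map (· + c) x)
    (hfix : ∀ g : G, π g none = none → π g (some 0) = some 0 →
      ∃ σ : K, σ ≠ 0 ∧ ∀ x, π g x = Option.map (σ * σ * ·) x)
    (hT : ∃ t : G, ∃ u σ : K, σ ≠ 0 ∧ σ * σ = -u ∧ π t none = some 0 ∧ π t (some 0) = none ∧
      ∀ k : K, k ≠ 0 → π t (some k) = some (u / k)) :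
    Nonempty (G ≃* Matrix.ProjectiveSpecialLinearGroup (Fin 2) K) := by
  classical
  have hq1 : 1 < Fintype.card K := Fintype.one_lt_card
  have hR1 : ∀ (γ : Perm (Option K)) (c : K), (∀ x, γ x = Option.map (· + c) x) →
      γ ∈ (mobHom (K := K)).range := by
    intro γ c hγ
    obtain ⟨A, hA1, hA2⟩ := mob_shift c
    refine ⟨A, Equiv.ext fun x => ?_⟩
    cases x with
    | none => rw [hA1, hγ]; rfl
    | some k => rw [hA2, hγ]; rfl
  have hR2 : ∀ (γ : Perm (Option K)) (σ : K), σ ≠ 0 → (∀ x, γ x = Option.map (σ * σ * ·) x) →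
      γ ∈ (mobHom (K := K)).range := by
    intro γ σ hσ0 hγ
    obtain ⟨A, hA1, hA2⟩ := mob_mul σ hσ0
    refine ⟨A, Equiv.ext fun x => ?_⟩
    cases x with
    | none => rw [hA1, hγ]; rfl
    | some k => rw [hA2, hγ]; rfl
  obtain ⟨t₁, u, σ₁, hσ₁0, hσ₁, ht₁inf, ht₁zero, ht₁⟩ := hT
  have hR3 : π t₁ ∈ (mobHom (K := K)).range := by
    obtain ⟨A, hA1, hA2, hA3⟩ := mob_swap u σ₁ hσ₁0 hσ₁
    refine ⟨A, Equiv.ext fun x => ?_⟩
    cases x with
    | none => rw [hA1, ht₁inf]
    | some k =>
      by_cases hk : k = 0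
      · rw [hk, hA2, ht₁zero]
      · rw [hA3 k hk, ht₁ k hk]
  choose a ha using hA
  -- elements fixing `∞`
  have hinf : ∀ g : G, π g none = none → π g ∈ (mobHom (K := K)).range := by
    intro g hg
    cases hg0 : π g (some 0) with
    | none =>
      have := (π g).injective (hg.trans hg0.symm)
      cases this
    | some c =>
      have h1 : π ((a c)⁻¹ * g) none = none := by
        rw [map_mul, Perm.mul_apply, hg, map_inv, Perm.inv_eq_iff_eq, ha]
        rfl
      have h2 : π ((a c)⁻¹ * g) (some 0) = some 0 := by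
        rw [map_mul, Perm.mul_apply, hg0, map_inv, Perm.inv_eq_iff_eq, ha]
        show some c = some (0 + c)
        rw [zero_add]
      obtain ⟨s, hs, hgs⟩ := hfix _ h1 h2
      have h3 : π g = π (a c) * π ((a c)⁻¹ * g) := by
        rw [← map_mul, mul_inv_cancel_left]
      rw [h3]
      exact Subgroup.mul_mem _ (hR1 _ c (ha c)) (hR2 _ s hs hgs)
  have hall : ∀ g : G, π g ∈ (mobHom (K := K)).range := by
    intro g
    cases hg : π g none with
    | none => exact hinf g hg
    | some c =>
      have h1 : π (t₁ * (a c)⁻¹ * g) none = none := by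
        rw [map_mul, map_mul, Perm.mul_apply, Perm.mul_apply, hg]
        have : (π (a c)⁻¹) (some c) = some 0 := by
          rw [map_inv, Perm.inv_eq_iff_eq, ha]
          show some c = some (0 + c)
          rw [zero_add]
        rw [this, ht₁zero]
      have h2 := hinf _ h1
      have h3 : π g = π (a c) * (π t₁)⁻¹ * π (t₁ * (a c)⁻¹ * g) := by
        rw [← map_inv, ← map_mul, ← map_mul]
        congr 1
        group
      rw [h3]
      exact Subgroup.mul_mem _ (Subgroup.mul_mem _ (hR1 _ c (ha c)) (Subgroup.inv_mem _ hR3)) h2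
  -- cardinalities
  have hSL : Nat.card (Matrix.SpecialLinearGroup (Fin 2) K) =
      Fintype.card K * (Fintype.card K ^ 2 - 1) := by
    have h1 := Cfsg.Agent.Lib.Helper6.card_sl (F := K) (q := Fintype.card K) rfl 2 (by norm_num)
    rw [Fin.prod_univ_two] at h1
    simp only [Fin.val_zero, pow_zero, Fin.val_one, pow_one] at h1
    have h2 : Fintype.card K ^ 2 - Fintype.card K = (Fintype.card K - 1) * Fintype.card K := by
      rw [Nat.sub_mul, one_mul, sq]
    rw [h2] at h1
    have h3 : (Fintype.card K - 1) * Nat.card (Matrix.SpecialLinearGroup (Fin 2) K) =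
        (Fintype.card K - 1) * (Fintype.card K * (Fintype.card K ^ 2 - 1)) := by
      rw [h1]
      ring
    exact Nat.eq_of_mul_eq_mul_left (by omega) h3
  have hcen : Nat.card (Subgroup.center (Matrix.SpecialLinearGroup (Fin 2) K)) = 2 := by
    rw [Cfsg.Agent.Lib.Helper6.card_center_sl (F := K) (q := Fintype.card K) rfl 2 (by norm_num)]
    obtain ⟨k, hk⟩ := hodd
    have : Fintype.card K - 1 = 2 * k := by omega
    rw [this]
    exact Nat.gcd_mul_right_right k 2
  have hrange_le : π.range ≤ (mobHom (K := K)).range := by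
    rintro _ ⟨g, rfl⟩
    exact hall g
  have hcπ : Nat.card π.range = Nat.card G :=
    (Nat.card_congr (MonoidHom.ofInjective hπ).toEquiv).symm
  have hkr : Nat.card (mobHom (K := K)).ker * Nat.card (mobHom (K := K)).range =
      Nat.card (Matrix.SpecialLinearGroup (Fin 2) K) := by
    rw [← Subgroup.index_ker]
    exact Subgroup.card_mul_index _
  have hck : 2 ≤ Nat.card (mobHom (K := K)).ker := by
    have h0 := Subgroup.card_le_of_le (center_le_ker_mobHom (K := K))
    rwa [hcen] at h0
  have hcr : Nat.card G ≤ Nat.card (mobHom (K := K)).range := by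
    rw [← hcπ]
    exact Subgroup.card_le_of_le hrange_le
  have hG0 : 0 < Nat.card G := Nat.card_pos
  rw [hSL, ← hcard] at hkr
  have hker2 : Nat.card (mobHom (K := K)).ker = 2 := by
    by_contra hne2
    have h3 : 3 ≤ Nat.card (mobHom (K := K)).ker := by omega
    nlinarith
  have hrangeG : Nat.card (mobHom (K := K)).range = Nat.card G := by
    rw [hker2] at hkr
    omega
  have hker : (mobHom (K := K)).ker =
      Subgroup.center (Matrix.SpecialLinearGroup (Fin 2) K) :=
    (Subgroup.eq_of_le_of_card_ge center_le_ker_mobHom (by rw [hker2, hcen])).symm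
  have hrange : π.range = (mobHom (K := K)).range :=
    Subgroup.eq_of_le_of_card_ge hrange_le (by rw [hrangeG, hcπ])
  exact ⟨(MonoidHom.ofInjective hπ).trans ((MulEquiv.subgroupCongr hrange).trans
    ((QuotientGroup.quotientKerEquivRange (mobHom (K := K))).symm.trans
      (QuotientGroup.quotientMulEquivOfEq hker)))⟩

end Cfsg.Agent.Lib.Helper23
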