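import Mathlib

/-!
# A field from a commutative group acting irreducibly

If a group `H` acts on a finite abelian group `V` by commuting automorphisms, irreducibly, then the
endomorphisms of `V` commuting with the action form a finite field `K`, and evaluation at a fixed
non-zero vector is an additive bijection `K → V` turning the action of `H` into multiplications.
-/

namespace Cfsg.Agent.Lib.Helper23

universe u v

section IrrField

variable {V : Type u} [AddCommGroup V] {H : Type v} [Group H]

theorem exists_field_of_irred [Finite V] (c : H →* AddMonoid.End V)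
    (hcomm : ∀ a b : H, c a * c b = c b * c a) (e : V) (he : e ≠ 0)
    (hirr : ∀ W : AddSubgroup V, (∀ h : H, ∀ w ∈ W, c h w ∈ W) → W = ⊥ ∨ W = ⊤) :
    ∃ (K : Type u) (_ : Field K) (_ : Fintype K) (ev : K → V),
      Function.Bijective ev ∧ ev 0 = 0 ∧ ev 1 = e ∧
      (∀ a b : K, ev (a + b) = ev a + ev b) ∧
      ∀ h : H, ∃ k : K, ∀ a : K, ev (k * a) = c h (ev a) := by
  classical
  set R : Subring (AddMonoid.End V) := Subring.centralizer (Set.range c) with hR
  have hcR : ∀ h : H, c h ∈ R := by
    intro h
    rw [hR, Subring.mem_centralizer_iff]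
    rintro _ ⟨g, rfl⟩
    exact hcomm g h
  have hRc : ∀ (f : R) (h : H) (w : V), (f : AddMonoid.End V) (c h w) =
      c h ((f : AddMonoid.End V) w) := by
    intro f h w
    have hf : (f : AddMonoid.End V) ∈ Subring.centralizer (Set.range c) := f.2
    rw [Subring.mem_centralizer_iff] at hf
    have := hf (c h) ⟨h, rfl⟩
    exact (congrArg (fun φ : AddMonoid.End V => φ w) this).symm
  -- a non-zero element of `R` is injective
  have hinj0 : ∀ f : R, f = 0 ∨ ∀ w : V, (f : AddMonoid.End V) w = 0 → w = 0 := by
    intro f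
    let W : AddSubgroup V :=
      { carrier := {w | (f : AddMonoid.End V) w = 0}
        zero_mem' := map_zero _
        add_mem' := by
          intro x y hx hy
          show (f : AddMonoid.End V) (x + y) = 0
          rw [map_add, hx, hy, add_zero]
        neg_mem' := by
          intro x hx
          show (f : AddMonoid.End V) (-x) = 0
          rw [map_neg, hx, neg_zero] }
    have hWmem : ∀ w : V, w ∈ W ↔ (f : AddMonoid.End V) w = 0 := fun w => Iff.rfl
    rcases hirr W (by
      intro h w hw
      rw [hWmem] at hw ⊢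
      rw [hRc, hw, map_zero]) with h0 | h0
    · right
      intro w hw
      have : w ∈ W := (hWmem w).mpr hw
      rw [h0] at this
      exact (AddSubgroup.mem_bot).mp this
    · left
      apply Subtype.ext
      refine DFunLike.ext _ _ (fun w => ?_)
      have : w ∈ W := by rw [h0]; exact AddSubgroup.mem_top w
      exact (hWmem w).mp this
  have hdet : ∀ f f' : R, (f : AddMonoid.End V) e = (f' : AddMonoid.End V) e → f = f' := by
    intro f f' h
    rcases hinj0 (f - f') with h0 | h0
    · exact sub_eq_zero.mp h0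
    · exfalso
      apply he
      apply h0
      show (f : AddMonoid.End V) e - (f' : AddMonoid.End V) e = 0
      rw [h, sub_self]
  have hone : (1 : R) ≠ 0 := by
    intro h
    apply he
    have := congrArg (fun φ : R => (φ : AddMonoid.End V) e) h
    exact this
  have : Nontrivial R := ⟨⟨1, 0, hone⟩⟩
  have : NoZeroDivisors R := by
    constructor
    intro f f' hff
    rcases hinj0 f with h0 | h0
    · exact Or.inl h0
    · right
      apply Subtype.ext
      refine DFunLike.ext _ _ (fun w => ?_)
      apply h0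
      have := congrArg (fun φ : R => (φ : AddMonoid.End V) w) hff
      exact this
  have : IsDomain R := NoZeroDivisors.to_isDomain R
  have hinj : Function.Injective (fun f : R => (f : AddMonoid.End V) e) := fun f f' h => hdet f f' h
  have : Finite R := Finite.of_injective _ hinj
  let instFin : Fintype R := Fintype.ofFinite R
  let instF : Field R := (Finite.isDomain_to_isField R).toField
  refine ⟨R, instF, instFin, fun f : R => (f : AddMonoid.End V) e, ⟨hinj, ?_⟩, rfl, rfl,
    fun a b => rfl, fun h => ⟨⟨c h, hcR h⟩, fun a => rfl⟩⟩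
  -- surjectivity: the image is an invariant subgroup
  let evh : R →+ V :=
    { toFun := fun f => (f : AddMonoid.End V) e
      map_zero' := rfl
      map_add' := fun _ _ => rfl }
  rcases hirr evh.range (by
    rintro h _ ⟨f, rfl⟩
    exact ⟨⟨c h, hcR h⟩ * f, rfl⟩) with h0 | h0
  · exfalso
    apply he
    have : e ∈ evh.range := ⟨1, rfl⟩
    rw [h0] at this
    exact (AddSubgroup.mem_bot).mp this
  · intro w
    have : w ∈ evh.range := by rw [h0]; exact AddSubgroup.mem_top w
    obtain ⟨f, hf⟩ := this
    exact ⟨f, hf⟩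

end IrrField

section IrrBridge

variable {G : Type u} [Group G]

/-- The group-theoretic version: `T` an abelian subgroup normalized by an abelian
subgroup `H` which acts irreducibly on `T`. -/
theorem exists_field_of_group_irred (T H : Subgroup G) [Finite T]
    (hTcomm : ∀ a ∈ T, ∀ b ∈ T, a * b = b * a)
    (hnorm : ∀ h ∈ H, ∀ t ∈ T, h * t * h⁻¹ ∈ T)
    (hHcomm : ∀ a ∈ H, ∀ b ∈ H, a * b = b * a) (ε : G) (hε : ε ∈ T) (hε1 : ε ≠ 1)
    (hirr : ∀ T' : Subgroup G, T' ≤ T → (∀ h ∈ H, ∀ t ∈ T', h * t * h⁻¹ ∈ T') →
      T' = ⊥ ∨ T' = T) :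
    ∃ (K : Type u) (_ : Field K) (_ : Fintype K) (τ : K → G),
      Fintype.card K = Nat.card T ∧ (∀ a, τ a ∈ T) ∧ Function.Injective τ ∧
      (∀ t ∈ T, ∃ a, τ a = t) ∧ τ 0 = 1 ∧ τ 1 = ε ∧ (∀ a b, τ (a + b) = τ a * τ b) ∧
      ∀ h ∈ H, ∃ k : K, ∀ a, τ (k * a) = h * τ a * h⁻¹ := by
  classical
  let instCG : CommGroup T :=
    { (inferInstance : Group T) with
      mul_comm := fun a b => Subtype.ext (hTcomm a a.2 b b.2) }
  -- conjugation as an additive endomorphism
  let cj : H → AddMonoid.End (Additive T) := fun h =>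
    AddMonoidHom.mk' (fun w => Additive.ofMul (⟨(h : G) * ((Additive.toMul w : T) : G) * (h : G)⁻¹,
      hnorm h h.2 _ (Additive.toMul w).2⟩ : T)) (by
        intro a b
        apply Additive.toMul.injective
        apply Subtype.ext
        show (h : G) * (((Additive.toMul a : T) : G) * ((Additive.toMul b : T) : G)) * (h : G)⁻¹ =
          (h : G) * ((Additive.toMul a : T) : G) * (h : G)⁻¹ *
            ((h : G) * ((Additive.toMul b : T) : G) * (h : G)⁻¹)
        group)
  have hcj : ∀ (h : H) (w : Additive T),
      ((Additive.toMul (cj h w) : T) : G) = (h : G) * ((Additive.toMul w : T) : G) * (h : G)⁻¹ :=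
    fun h w => rfl
  let c : H →* AddMonoid.End (Additive T) :=
    { toFun := cj
      map_one' := by
        refine DFunLike.ext _ _ (fun w => ?_)
        apply Additive.toMul.injective
        apply Subtype.ext
        rw [hcj]
        show (1 : G) * ((Additive.toMul w : T) : G) * (1 : G)⁻¹ = ((Additive.toMul w : T) : G)
        group
      map_mul' := by
        intro a b
        refine DFunLike.ext _ _ (fun w => ?_)
        apply Additive.toMul.injective
        apply Subtype.ext
        rw [hcj]
        show ((a : G) * (b : G)) * ((Additive.toMul w : T) : G) * ((a : G) * (b : G))⁻¹ =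
          (a : G) * ((b : G) * ((Additive.toMul w : T) : G) * (b : G)⁻¹) * (a : G)⁻¹
        group }
  have hc : ∀ (h : H) (w : Additive T),
      ((Additive.toMul (c h w) : T) : G) = (h : G) * ((Additive.toMul w : T) : G) * (h : G)⁻¹ :=
    fun h w => rfl
  have hcomm : ∀ a b : H, c a * c b = c b * c a := by
    intro a b
    rw [← map_mul, ← map_mul]
    congr 1
    exact Subtype.ext (hHcomm a a.2 b b.2)
  have he : (Additive.ofMul (⟨ε, hε⟩ : T) : Additive T) ≠ 0 := by
    intro h
    apply hε1
    have h1 : (⟨ε, hε⟩ : T) = 1 := Additive.ofMul.injective h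
    exact congrArg Subtype.val h1
  have hirr' : ∀ W : AddSubgroup (Additive T), (∀ h : H, ∀ w ∈ W, c h w ∈ W) →
      W = ⊥ ∨ W = ⊤ := by
    intro W hW
    let T' : Subgroup G :=
      { carrier := {g | ∃ hg : g ∈ T, Additive.ofMul (⟨g, hg⟩ : T) ∈ W}
        one_mem' := ⟨T.one_mem, W.zero_mem⟩
        mul_mem' := by
          rintro x y ⟨hx, hxW⟩ ⟨hy, hyW⟩
          exact ⟨T.mul_mem hx hy, W.add_mem hxW hyW⟩
        inv_mem' := by
          rintro x ⟨hx, hxW⟩
          exact ⟨T.inv_mem hx, W.neg_mem hxW⟩ }
    have hT'mem : ∀ g : G, g ∈ T' ↔ ∃ hg : g ∈ T, Additive.ofMul (⟨g, hg⟩ : T) ∈ W :=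
      fun g => Iff.rfl
    rcases hirr T' (fun g hg => ((hT'mem g).mp hg).1) (by
      intro h hh t ht
      obtain ⟨htT, htW⟩ := (hT'mem t).mp ht
      exact (hT'mem _).mpr ⟨hnorm h hh t htT, hW ⟨h, hh⟩ _ htW⟩) with h0 | h0
    · left
      rw [eq_bot_iff]
      intro w hw
      have h1 : ((Additive.toMul w : T) : G) ∈ T' := (hT'mem _).mpr ⟨(Additive.toMul w).2, hw⟩
      rw [h0, Subgroup.mem_bot] at h1
      rw [AddSubgroup.mem_bot]
      apply Additive.toMul.injective
      exact Subtype.ext h1
    · right
      rw [eq_top_iff]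
      intro w _
      have h1 : ((Additive.toMul w : T) : G) ∈ T' := by
        rw [h0]
        exact (Additive.toMul w).2
      obtain ⟨_, h2⟩ := (hT'mem _).mp h1
      exact h2
  obtain ⟨K, instF, instFin, ev, hbij, hev0, hev1, hadd, hmul⟩ :=
    exists_field_of_irred c hcomm _ he hirr'
  refine ⟨K, instF, instFin, fun a => ((Additive.toMul (ev a) : T) : G), ?_,
    fun a => (Additive.toMul (ev a)).2, ?_, ?_, ?_, ?_, ?_, ?_⟩
  · rw [← Nat.card_eq_fintype_card]
    exact Nat.card_congr ((Equiv.ofBijective ev hbij).trans Additive.toMul)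
  · intro a b h
    apply hbij.1
    apply Additive.toMul.injective
    exact Subtype.ext h
  · intro t ht
    obtain ⟨a, ha⟩ := hbij.2 (Additive.ofMul (⟨t, ht⟩ : T))
    refine ⟨a, ?_⟩
    show ((Additive.toMul (ev a) : T) : G) = t
    rw [ha]
    rfl
  · show ((Additive.toMul (ev 0) : T) : G) = 1
    rw [hev0]
    rfl
  · show ((Additive.toMul (ev 1) : T) : G) = ε
    rw [hev1]
    rfl
  · intro a b
    show ((Additive.toMul (ev (a + b)) : T) : G) = _
    rw [hadd]
    rfl
  · intro h hh
    obtain ⟨k, hk⟩ := hmul ⟨h, hh⟩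
    refine ⟨k, fun a => ?_⟩
    show ((Additive.toMul (ev (k * a)) : T) : G) = _
    rw [hk, hc]

end IrrBridge

end Cfsg.Agent.Lib.Helper23
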