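import Mathlib

/-!
# Sharply triply transitive groups of odd degree: the elementary abelian kernel

For a group `G` acting sharply 3-transitively on a finite set `α` of odd size `q + 1`, the
involutions fixing a point `∞`, together with `1`, form a subgroup of order `q` which is regular
on the remaining points.
-/

namespace Cfsg.Agent.Lib.Helper23

universe u v

/-- Elementary form of sharp triple transitivity. -/
structure Sharp3 (G : Type u) [Group G] (α : Type v) [MulAction G α] : Prop where
  trans : ∀ a b c a' b' c' : α, a ≠ b → a ≠ c → b ≠ c → a' ≠ b' → a' ≠ c' → b' ≠ c' →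
    ∃ g : G, g • a = a' ∧ g • b = b' ∧ g • c = c'
  sharp : ∀ (g : G) (a b c : α), a ≠ b → a ≠ c → b ≠ c → g • a = a → g • b = b → g • c = c →
    g = 1

namespace Sharp3

variable {G : Type u} [Group G] {α : Type v} [MulAction G α]

theorem eq_of_three (h : Sharp3 G α) {g g' : G} {a b c : α} (hab : a ≠ b) (hac : a ≠ c)
    (hbc : b ≠ c) (ha : g • a = g' • a) (hb : g • b = g' • b) (hc : g • c = g' • c) : g = g' := by
  have h1 : g'⁻¹ * g = 1 := by
    apply h.sharp _ a b c hab hac hbc
    · rw [mul_smul, ha, inv_smul_smul]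
    · rw [mul_smul, hb, inv_smul_smul]
    · rw [mul_smul, hc, inv_smul_smul]
  exact (inv_mul_eq_one.mp h1).symm

theorem exists_third [Fintype α] (hm : 3 ≤ Fintype.card α) (a b : α) :
    ∃ c : α, c ≠ a ∧ c ≠ b := by
  classical
  by_contra hcon
  push Not at hcon
  have h1 : (Finset.univ : Finset α) ⊆ {a, b} := by
    intro c _
    by_cases hca : c = a
    · simp [hca]
    · simp [hcon c hca]
  have h2 := Finset.card_le_card h1
  have h3 : ({a, b} : Finset α).card ≤ 2 := Finset.card_le_two
  rw [Finset.card_univ] at h2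
  omega

/-- An involution has at most one fixed point. -/
theorem inv_fix_unique [Fintype α] [DecidableEq α] (h : Sharp3 G α)
    (hodd : Odd (Fintype.card α)) {t : G} (ht : t * t = 1) (ht1 : t ≠ 1) {x y : α}
    (hx : t • x = x) (hy : t • y = y) : x = y := by
  by_contra hxy
  have hf : (MulAction.toEndHom t : Function.End α) ^ 2 ^ 1 = 1 := by
    rw [pow_one, ← map_pow, sq, ht, map_one]
  have : Fact (Nat.Prime 2) := ⟨Nat.prime_two⟩
  have hmod : Fintype.card α ≡ Fintype.card (Function.fixedPoints (fun z : α => t • z)) [MOD 2] :=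
    Equiv.Perm.card_fixedPoints_modEq (f := (MulAction.toEndHom t : Function.End α)) (p := 2)
      (n := 1) hf
  have hcard : Fintype.card (Function.fixedPoints (fun z : α => t • z)) =
      (Finset.univ.filter (fun z : α => t • z = z)).card := by
    rw [Fintype.card_subtype]
    congr 1
  rw [hcard] at hmod
  have hodd2 : Odd (Finset.univ.filter (fun z : α => t • z = z)).card := by
    rw [Nat.odd_iff] at hodd ⊢
    rw [← hmod]
    exact hodd
  have hsub : ({x, y} : Finset α) ⊆ Finset.univ.filter (fun z : α => t • z = z) := by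
    intro z hz
    rw [Finset.mem_insert, Finset.mem_singleton] at hz
    rw [Finset.mem_filter]
    rcases hz with rfl | rfl
    · exact ⟨Finset.mem_univ _, hx⟩
    · exact ⟨Finset.mem_univ _, hy⟩
  have hne : ({x, y} : Finset α) ≠ Finset.univ.filter (fun z : α => t • z = z) := by
    intro heq
    rw [← heq, Finset.card_pair hxy] at hodd2
    exact absurd hodd2 (by decide)
  obtain ⟨z, hz, hz'⟩ := Finset.exists_of_ssubset (lt_of_le_of_ne hsub hne)
  rw [Finset.mem_filter] at hz
  rw [Finset.mem_insert, Finset.mem_singleton] at hz'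
  push Not at hz'
  exact ht1 (h.sharp t x y z hxy (fun e => hz'.1 e.symm) (fun e => hz'.2 e.symm) hx hy hz.2)

/-- Two involutions fixing `∞` which agree at another point are equal. -/
theorem T_eq [Fintype α] [DecidableEq α] (h : Sharp3 G α) (hodd : Odd (Fintype.card α))
    {inf a : α} (ha : a ≠ inf) {s t : G} (hs : s • inf = inf) (hs2 : s * s = 1)
    (ht : t • inf = inf) (ht2 : t * t = 1) (hst : s • a = t • a) : s = t := by
  by_cases hb : s • a = a
  · have hs1 : s = 1 := by
      by_contra hs1
      exact ha (h.inv_fix_unique hodd hs2 hs1 hb hs)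
    have ht1 : t = 1 := by
      by_contra ht1
      exact ha (h.inv_fix_unique hodd ht2 ht1 (hst ▸ hb) ht)
    rw [hs1, ht1]
  · have hbi : s • a ≠ inf := by
      intro e
      apply ha
      have : s • a = s • inf := by rw [e, hs]
      exact MulAction.injective s this
    apply h.eq_of_three (a := inf) (b := a) (c := s • a) (fun e => ha e.symm)
      (fun e => hbi e.symm) (fun e => hb e.symm)
    · rw [hs, ht]
    · exact hst
    · rw [← mul_smul, hs2, one_smul]
      nth_rewrite 1 [hst]
      rw [← mul_smul, ht2, one_smul]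

/-- Existence of an involution (or `1`) fixing `∞` and moving `o` to a given point. -/
theorem T_exists (h : Sharp3 G α) {inf o : α} (ho : o ≠ inf) (b : α) (hb : b ≠ inf) :
    ∃ t : G, t • inf = inf ∧ t * t = 1 ∧ t • o = b := by
  by_cases hbo : b = o
  · exact ⟨1, one_smul _ _, mul_one 1, by rw [one_smul, hbo]⟩
  · obtain ⟨t, h1, h2, h3⟩ := h.trans inf o b inf b o (fun e => ho e.symm) (fun e => hb e.symm)
      (fun e => hbo e.symm) (fun e => hb e.symm) (fun e => ho e.symm) hbo
    refine ⟨t, h1, ?_, h2⟩
    apply h.sharp (t * t) inf o b (fun e => ho e.symm) (fun e => hb e.symm) (fun e => hbo e.symm)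
    · rw [mul_smul, h1, h1]
    · rw [mul_smul, h2, h3]
    · rw [mul_smul, h3, h2]

section Count

variable [Fintype α] [DecidableEq α]

theorem card_ne_one (a : α) : Fintype.card {x : α // x ≠ a} = Fintype.card α - 1 := by
  rw [Fintype.card_subtype]
  have h1 : Finset.univ.filter (fun x : α => x ≠ a) = Finset.univ.erase a := by
    ext x
    simp
  rw [h1, Finset.card_erase_of_mem (Finset.mem_univ _), Finset.card_univ]

theorem card_ne_two {a b : α} (hab : a ≠ b) :
    Fintype.card {x : α // x ≠ a ∧ x ≠ b} = Fintype.card α - 2 := by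
  rw [Fintype.card_subtype]
  have h1 : Finset.univ.filter (fun x : α => x ≠ a ∧ x ≠ b) = (Finset.univ.erase a).erase b := by
    ext x
    simp [and_comm]
  rw [h1, Finset.card_erase_of_mem (Finset.mem_erase.mpr ⟨hab.symm, Finset.mem_univ _⟩),
    Finset.card_erase_of_mem (Finset.mem_univ _), Finset.card_univ]
  omega

/-- The stabilizer of two points has `|α| - 2` elements. -/
theorem card_stab2 (h : Sharp3 G α) (hm : 3 ≤ Fintype.card α) {a b : α} (hab : a ≠ b) :
    Nat.card {g : G // g • a = a ∧ g • b = b} = Fintype.card α - 2 := by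
  obtain ⟨c, hca, hcb⟩ := exists_third hm a b
  let f : {g : G // g • a = a ∧ g • b = b} → {x : α // x ≠ a ∧ x ≠ b} := fun g =>
    ⟨(g : G) • c, fun e => hca (MulAction.injective (g : G) (e.trans g.2.1.symm)),
      fun e => hcb (MulAction.injective (g : G) (e.trans g.2.2.symm))⟩
  have hf : Function.Bijective f := by
    constructor
    · intro g g' hgg
      have h1 : (g : G) • c = (g' : G) • c := congrArg Subtype.val hgg
      exact Subtype.ext (h.eq_of_three hab (Ne.symm hca) (Ne.symm hcb)
        (g.2.1.trans g'.2.1.symm) (g.2.2.trans g'.2.2.symm) h1)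
    · rintro ⟨x, hxa, hxb⟩
      obtain ⟨g, h1, h2, h3⟩ := h.trans a b c a b x hab (Ne.symm hca) (Ne.symm hcb) hab
        (Ne.symm hxa) (Ne.symm hxb)
      exact ⟨⟨g, h1, h2⟩, Subtype.ext h3⟩
  rw [Nat.card_congr (Equiv.ofBijective f hf), Nat.card_eq_fintype_card, card_ne_two hab]

/-- The involutions fixing `∞`, with `1`, number `|α| - 1`. -/
theorem card_T (h : Sharp3 G α) (hodd : Odd (Fintype.card α)) {inf o : α} (ho : o ≠ inf) :
    Nat.card {t : G // t • inf = inf ∧ t * t = 1} = Fintype.card α - 1 := by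
  let f : {t : G // t • inf = inf ∧ t * t = 1} → {x : α // x ≠ inf} := fun t =>
    ⟨(t : G) • o, fun e => ho (MulAction.injective (t : G) (e.trans t.2.1.symm))⟩
  have hf : Function.Bijective f := by
    constructor
    · intro s t hst
      have h1 : (s : G) • o = (t : G) • o := congrArg Subtype.val hst
      exact Subtype.ext (h.T_eq hodd ho s.2.1 s.2.2 t.2.1 t.2.2 h1)
    · rintro ⟨x, hx⟩
      obtain ⟨t, h1, h2, h3⟩ := h.T_exists ho x hx
      exact ⟨⟨t, h1, h2⟩, Subtype.ext h3⟩
  rw [Nat.card_congr (Equiv.ofBijective f hf), Nat.card_eq_fintype_card, card_ne_one]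

/-- The stabilizer of a point has `(|α| - 1)(|α| - 2)` elements. -/
theorem card_stab1 (h : Sharp3 G α) (hodd : Odd (Fintype.card α)) (hm : 3 ≤ Fintype.card α)
    (inf : α) :
    Nat.card {g : G // g • inf = inf} = (Fintype.card α - 1) * (Fintype.card α - 2) := by
  obtain ⟨o, ho, -⟩ := exists_third hm inf inf
  let f : {t : G // t • inf = inf ∧ t * t = 1} × {g : G // g • inf = inf ∧ g • o = o} →
      {g : G // g • inf = inf} := fun p =>
    ⟨(p.1 : G) * (p.2 : G), by rw [mul_smul, p.2.2.1, p.1.2.1]⟩
  have hf : Function.Bijective f := by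
    constructor
    · rintro ⟨s, g⟩ ⟨t, g'⟩ hst
      have h1 : (s : G) * (g : G) = (t : G) * (g' : G) := congrArg Subtype.val hst
      have h2 : (s : G) • o = (t : G) • o := by
        have := congrArg (fun x : G => x • o) h1
        simp only [mul_smul] at this
        rwa [g.2.2, g'.2.2] at this
      have h3 : s = t := Subtype.ext (h.T_eq hodd ho s.2.1 s.2.2 t.2.1 t.2.2 h2)
      subst h3
      have h4 : g = g' := Subtype.ext (mul_left_cancel h1)
      rw [h4]
    · rintro ⟨g, hg⟩
      have hgo : g • o ≠ inf := fun e => ho (MulAction.injective g (e.trans hg.symm))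
      obtain ⟨t, h1, h2, h3⟩ := h.T_exists ho (g • o) hgo
      have h1' : t⁻¹ • inf = inf := inv_smul_eq_iff.mpr h1.symm
      refine ⟨⟨⟨t, h1, h2⟩, ⟨t⁻¹ * g, ?_, ?_⟩⟩, Subtype.ext ?_⟩
      · rw [mul_smul, hg, h1']
      · rw [mul_smul, ← h3, inv_smul_smul]
      · show t * (t⁻¹ * g) = g
        rw [mul_inv_cancel_left]
  rw [← Nat.card_congr (Equiv.ofBijective f hf), Nat.card_prod, h.card_T hodd ho,
    h.card_stab2 hm (Ne.symm ho)]

/-- The product of two involutions fixing `∞` is an involution or `1`. -/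
theorem T_mul [Finite G] (h : Sharp3 G α) (hodd : Odd (Fintype.card α))
    (hm : 3 ≤ Fintype.card α) {inf : α} {s t : G} (hs : s • inf = inf) (hs2 : s * s = 1)
    (ht : t • inf = inf) (ht2 : t * t = 1) : (s * t) * (s * t) = 1 := by
  classical
  have : Fintype G := Fintype.ofFinite G
  obtain ⟨o, ho, -⟩ := exists_third hm inf inf
  set q := Fintype.card α - 1 with hq
  have hq2 : 2 ≤ q := by omega
  let Tf : Finset G := Finset.univ.filter (fun g => g • inf = inf ∧ g * g = 1)
  let Sf : Finset G := Finset.univ.filter (fun g => g • inf = inf)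
  let Bf : Finset G := (Finset.univ.erase inf).biUnion
    (fun a => (Finset.univ.filter (fun g : G => g • inf = inf ∧ g • a = a)).erase 1)
  have hTf : Tf.card = q := by
    rw [hq, ← h.card_T (G := G) hodd ho, Nat.card_eq_fintype_card, Fintype.card_subtype]
  have hSf : Sf.card = q * (q - 1) := by
    have := h.card_stab1 (G := G) hodd hm inf
    rw [Nat.card_eq_fintype_card, Fintype.card_subtype] at this
    rw [hq, this]
    congr 1
  have hBf : Bf.card = q * (q - 2) := by
    rw [Finset.card_biUnion]
    · have h1 : ∀ a ∈ Finset.univ.erase inf,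
          ((Finset.univ.filter (fun g : G => g • inf = inf ∧ g • a = a)).erase 1).card = q - 2 := by
        intro a ha
        have ha' : a ≠ inf := (Finset.mem_erase.mp ha).1
        have h2 := h.card_stab2 (G := G) hm (Ne.symm ha')
        rw [Nat.card_eq_fintype_card, Fintype.card_subtype] at h2
        rw [Finset.card_erase_of_mem, h2]
        · omega
        · rw [Finset.mem_filter]
          exact ⟨Finset.mem_univ _, one_smul _ _, one_smul _ _⟩
      rw [Finset.sum_congr rfl h1, Finset.sum_const, Finset.card_erase_of_mem (Finset.mem_univ _),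
        Finset.card_univ, smul_eq_mul]
    · intro a ha b hb hab
      have ha' : a ≠ inf := (Finset.mem_erase.mp ha).1
      have hb' : b ≠ inf := (Finset.mem_erase.mp hb).1
      show Disjoint ((Finset.univ.filter (fun g : G => g • inf = inf ∧ g • a = a)).erase 1)
        ((Finset.univ.filter (fun g : G => g • inf = inf ∧ g • b = b)).erase 1)
      rw [Finset.disjoint_left]
      intro g hga hgb
      rw [Finset.mem_erase, Finset.mem_filter] at hga hgb
      exact hga.1 (h.sharp g inf a b (Ne.symm ha') (Ne.symm hb') hab hga.2.2.1 hga.2.2.2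
        hgb.2.2.2)
  have hdisj : Disjoint Tf Bf := by
    rw [Finset.disjoint_left]
    intro g hgT hgB
    rw [Finset.mem_filter] at hgT
    rw [Finset.mem_biUnion] at hgB
    obtain ⟨a, ha, hga⟩ := hgB
    have ha' : a ≠ inf := (Finset.mem_erase.mp ha).1
    rw [Finset.mem_erase, Finset.mem_filter] at hga
    exact ha' (h.inv_fix_unique hodd hgT.2.2 hga.1 hga.2.2.2 hga.2.2.1)
  have hsub : Tf ∪ Bf ⊆ Sf := by
    intro g hg
    rw [Finset.mem_union] at hg
    rw [Finset.mem_filter]
    rcases hg with hg | hg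
    · rw [Finset.mem_filter] at hg
      exact ⟨Finset.mem_univ _, hg.2.1⟩
    · rw [Finset.mem_biUnion] at hg
      obtain ⟨a, ha, hga⟩ := hg
      rw [Finset.mem_erase, Finset.mem_filter] at hga
      exact ⟨Finset.mem_univ _, hga.2.2.1⟩
  have heq : Tf ∪ Bf = Sf := by
    apply Finset.eq_of_subset_of_card_le hsub
    rw [Finset.card_union_of_disjoint hdisj, hTf, hBf, hSf]
    have key : ∀ n : ℕ, 2 ≤ n → n * (n - 1) ≤ n + n * (n - 2) := by
      intro n hn
      obtain ⟨k, rfl⟩ : ∃ k, n = k + 2 := ⟨n - 2, by omega⟩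
      have e1 : k + 2 - 1 = k + 1 := by omega
      have e2 : k + 2 - 2 = k := by omega
      rw [e1, e2]
      exact le_of_eq (by ring)
    exact key q hq2
  have hst : s * t ∈ Sf := by
    rw [Finset.mem_filter]
    exact ⟨Finset.mem_univ _, by rw [mul_smul, ht, hs]⟩
  rw [← heq, Finset.mem_union] at hst
  rcases hst with hst | hst
  · rw [Finset.mem_filter] at hst
    exact hst.2.2
  · exfalso
    rw [Finset.mem_biUnion] at hst
    obtain ⟨a, ha, hga⟩ := hst
    have ha' : a ≠ inf := (Finset.mem_erase.mp ha).1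
    rw [Finset.mem_erase, Finset.mem_filter] at hga
    have hsinv : s⁻¹ = s := inv_eq_of_mul_eq_one_left hs2
    have h1 : s • a = t • a := by
      have h2 : t • a = s⁻¹ • a := by
        rw [eq_inv_smul_iff, ← mul_smul]
        exact hga.2.2.2
      rw [h2, hsinv]
    have h3 : s = t := h.T_eq hodd ha' hs hs2 ht ht2 h1
    apply hga.1
    rw [← h3]
    exact hs2

/-- The elementary abelian kernel of the stabilizer of `inf`. -/
def kernelT [Finite G] (h : Sharp3 G α) (hodd : Odd (Fintype.card α))
    (hm : 3 ≤ Fintype.card α) (inf : α) : Subgroup G where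
  carrier := {t | t • inf = inf ∧ t * t = 1}
  mul_mem' := fun {s t} hs ht =>
    ⟨by rw [mul_smul, ht.1, hs.1], h.T_mul hodd hm hs.1 hs.2 ht.1 ht.2⟩
  one_mem' := ⟨one_smul _ _, mul_one 1⟩
  inv_mem' := fun {t} ht => by
    have h1 : t⁻¹ = t := inv_eq_of_mul_eq_one_left ht.2
    show t⁻¹ • inf = inf ∧ t⁻¹ * t⁻¹ = 1
    rw [h1]
    exact ht

theorem mem_kernelT [Finite G] (h : Sharp3 G α) (hodd : Odd (Fintype.card α))
    (hm : 3 ≤ Fintype.card α) (inf : α) (t : G) :
    t ∈ h.kernelT hodd hm inf ↔ t • inf = inf ∧ t * t = 1 := Iff.rfl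

theorem card_kernelT [Finite G] (h : Sharp3 G α) (hodd : Odd (Fintype.card α))
    (hm : 3 ≤ Fintype.card α) (inf : α) :
    Nat.card (h.kernelT hodd hm inf) = Fintype.card α - 1 := by
  obtain ⟨o, ho, -⟩ := exists_third hm inf inf
  exact h.card_T hodd ho

omit [DecidableEq α] in
theorem isPretransitive (h : Sharp3 G α) (hm : 3 ≤ Fintype.card α) :
    MulAction.IsPretransitive G α := by
  refine ⟨fun x y => ?_⟩
  obtain ⟨x', hx', -⟩ := exists_third hm x x
  obtain ⟨x'', hx1, hx2⟩ := exists_third hm x x'
  obtain ⟨y', hy', -⟩ := exists_third hm y y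
  obtain ⟨y'', hy1, hy2⟩ := exists_third hm y y'
  obtain ⟨g, hg, -, -⟩ := h.trans x x' x'' y y' y'' (Ne.symm hx') (Ne.symm hx1) (Ne.symm hx2)
    (Ne.symm hy') (Ne.symm hy1) (Ne.symm hy2)
  exact ⟨g, hg⟩

theorem card_group [Finite G] (h : Sharp3 G α) (hodd : Odd (Fintype.card α))
    (hm : 3 ≤ Fintype.card α) :
    Nat.card G = Fintype.card α * ((Fintype.card α - 1) * (Fintype.card α - 2)) := by
  obtain ⟨inf⟩ : Nonempty α := Fintype.card_pos_iff.mp (by omega)
  have := h.isPretransitive hm
  have h1 := MulAction.index_stabilizer_of_transitive G inf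
  have h2 := Subgroup.card_mul_index (MulAction.stabilizer G inf)
  have h3 : Nat.card (MulAction.stabilizer G inf) = Nat.card {g : G // g • inf = inf} := rfl
  rw [h3, h.card_stab1 hodd hm inf, h1, Nat.card_eq_fintype_card] at h2
  rw [← h2, mul_comm]

end Count

end Sharp3

end Cfsg.Agent.Lib.Helper23
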