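import Mathlib
import Cfsg.Agent.Lib.Helper9.Zassenhaus
import Cfsg.Agent.Lib.Helper21.Zass
import Cfsg.Agent.Lib.Helper23.Sharp3a
import Cfsg.Agent.S0738
import Cfsg.Agent.S0741

/-!
# The degree of a Zassenhaus group

The kernel of a point stabilizer packaged in the forms used by S0738 and S0885, and the
reduction of "the degree is a prime power plus one" to Feit's theorem (S0885, passed as a
hypothesis).
-/

namespace Cfsg.Agent.Lib.Helper23

open Cfsg MulAction

universe u v

/-- The kernel of a point stabilizer of a Zassenhaus group, with the properties used in the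
statements about it. -/
theorem zass_kernel_pack {G : Type u} [Group G] [Finite G] {Ω : Type v} [MulAction G Ω]
    [Fintype Ω] (hZ : IsZassenhausGroup G Ω) (a : Ω) :
    ∃ K : Subgroup G, K ≤ stabilizer G a ∧ (K.subgroupOf (stabilizer G a)).Normal ∧
      (∀ y z : Ω, y ≠ a → z ≠ a → ∃! u : K, (u : G) • y = z) ∧
      Nat.card K + 1 = Fintype.card Ω ∧
      (∀ u ∈ K, u ≠ 1 → ∀ c : Ω, u • c = c → c = a) := by
  classical
  obtain ⟨K, hKmem, hKtr, -⟩ := (Cfsg.Agent.Lib.Helper9.zdata_of_zassenhaus hZ).exists_kernel a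
  have hKfix : ∀ k ∈ K, k • a = a := fun k hk => ((hKmem k).mp hk).1
  have hKsemi : ∀ k ∈ K, ∀ y : Ω, y ≠ a → k • y = y → k = 1 := by
    intro k hk y hy hky
    rcases ((hKmem k).mp hk).2 with h1 | h1
    · exact h1
    · exact absurd hky (h1 y hy)
  have h3 : 3 ≤ Fintype.card Ω := Cfsg.Agent.Lib.Helper21.zass_three_le_card hZ
  refine ⟨K, ?_, ?_, ?_, ?_, ?_⟩
  · intro k hk
    exact mem_stabilizer_iff.mpr (hKfix k hk)
  · constructor
    intro n hn g
    rw [Subgroup.mem_subgroupOf] at hn ⊢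
    have hga : (g : G) • a = a := mem_stabilizer_iff.mp g.2
    have hga' : (g : G)⁻¹ • a = a := inv_smul_eq_iff.mpr hga.symm
    show (g : G) * (n : G) * (g : G)⁻¹ ∈ K
    rw [hKmem]
    constructor
    · rw [mul_smul, mul_smul, hga', hKfix _ hn, hga]
    · by_cases hn1 : (n : G) = 1
      · left
        rw [hn1, mul_one, mul_inv_cancel]
      · right
        intro ω hω hfix
        have h1 : (n : G) • ((g : G)⁻¹ • ω) = (g : G)⁻¹ • ω := by
          rw [mul_smul, mul_smul] at hfix
          exact (inv_smul_eq_iff.mpr hfix.symm).symm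
        have h2 : (g : G)⁻¹ • ω ≠ a := by
          intro e
          apply hω
          rw [inv_smul_eq_iff] at e
          rw [e, hga]
        exact hn1 (hKsemi _ hn _ h2 h1)
  · intro y z hy hz
    obtain ⟨k, hk, hky⟩ := hKtr y z hy hz
    refine ⟨⟨k, hk⟩, hky, ?_⟩
    intro k' hk'
    have h1 : ((k : G)⁻¹ * (k' : G)) • y = y := by
      rw [mul_smul, hk', ← hky, inv_smul_smul]
    have h2 := hKsemi _ (K.mul_mem (K.inv_mem hk) k'.2) y hy h1
    exact Subtype.ext (inv_mul_eq_one.mp h2).symm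
  · obtain ⟨b, hb⟩ : ∃ b : Ω, b ≠ a := by
      obtain ⟨c, hca, -⟩ := Sharp3.exists_third h3 a a
      exact ⟨c, hca⟩
    have hcard : Nat.card K = Fintype.card {x : Ω // x ≠ a} := by
      rw [← Nat.card_eq_fintype_card]
      apply Nat.card_congr
      refine Equiv.ofBijective (fun k : K => (⟨(k : G) • b, fun e =>
        hb (MulAction.injective (k : G) (e.trans (hKfix k k.2).symm))⟩ : {x : Ω // x ≠ a}))
        ⟨?_, ?_⟩
      · intro k k' hkk
        have h1 : (k : G) • b = (k' : G) • b := congrArg Subtype.val hkk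
        have h2 : ((k' : G)⁻¹ * (k : G)) • b = b := by
          rw [mul_smul, h1, inv_smul_smul]
        have h3 := hKsemi _ (K.mul_mem (K.inv_mem k'.2) k.2) b hb h2
        exact Subtype.ext (inv_mul_eq_one.mp h3).symm
      · intro y
        obtain ⟨k, hk, hky⟩ := hKtr b y.1 hb y.2
        exact ⟨⟨k, hk⟩, Subtype.ext hky⟩
    rw [hcard, Sharp3.card_ne_one a]
    omega
  · intro u hu hu1 c hc
    by_contra hca
    exact hu1 (hKsemi u hu c hca hc)

/-- The degree of a Zassenhaus group is a prime power plus one, given Feit's theorem (S0885). -/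
theorem zass_degree_primePow {G : Type u} [Group G] [Finite G] {Ω : Type v} [MulAction G Ω]
    [Fintype Ω] (hZ : IsZassenhausGroup G Ω) {a b : Ω} (hab : a ≠ b)
    (h885 : ∀ (h e : ℕ), Fintype.card Ω = h + 1 →
      Nat.card ↥(stabilizer G a ⊓ stabilizer G b : Subgroup G) = e → Odd e →
      ∀ H : Subgroup G, H ≤ stabilizer G a → Nat.card H + 1 = Fintype.card Ω →
      (∀ u ∈ H, u ≠ 1 → ∀ c : Ω, u • c = c → c = a) →
      h - 1 ≤ 2 * e ∨ (IsPGroup 2 H ∧ (∃ u v : H, u * v ≠ v * u) ∧
        (commutator H).index ≤ 4 * e ^ 2 + 1)) :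
    IsPrimePow (Fintype.card Ω - 1) := by
  obtain ⟨K, hKle, hKn, hKreg, hKcard, hKfix⟩ := zass_kernel_pack hZ a
  have h3 : 3 ≤ Fintype.card Ω := Cfsg.Agent.Lib.Helper21.zass_three_le_card hZ
  have hsmall : Fintype.card Ω - 2 ≤ 2 * Nat.card ↥(stabilizer G a ⊓ stabilizer G b) →
      IsPrimePow (Fintype.card Ω - 1) := by
    intro hd
    obtain ⟨-, p, f, hp, -, hΩ⟩ := Cfsg.Agent.S0738.result hZ hab hd K hKle hKn hKreg
    have hf : f ≠ 0 := by
      rintro rfl
      rw [pow_zero] at hΩ
      omega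
    rw [hΩ, Nat.add_sub_cancel]
    exact hp.isPrimePow.pow hf
  rcases Nat.even_or_odd (Nat.card ↥(stabilizer G a ⊓ stabilizer G b)) with heven | hodd
  · exact hsmall (Cfsg.Agent.S0741.result hZ hab heven)
  · rcases h885 (Fintype.card Ω - 1) _ (by omega) rfl hodd K hKle hKcard hKfix with h1 | ⟨h2, -, -⟩
    · exact hsmall (by omega)
    · obtain ⟨n, hn⟩ := h2.exists_card_eq
      have hn0 : n ≠ 0 := by
        rintro rfl
        rw [pow_zero] at hn
        omega
      have h4 : Fintype.card Ω - 1 = 2 ^ n := by omega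
      rw [h4]
      exact Nat.prime_two.isPrimePow.pow hn0

end Cfsg.Agent.Lib.Helper23
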