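import Mathlib
import Cfsg.Agent.Lib.Helper23.PSL2C

/-!
# Recognition of `PSL(2, K)` for a finite field `K` of characteristic 2

A group of order `q (q² - 1)` acting faithfully on the projective line over `K` (`q = |K|`) such
that all translations occur, the two-point stabilizer acts by multiplications and some element
acts as `x ↦ 1 / x`, is isomorphic to `PSL(2, K)`.
-/

namespace Cfsg.Agent.Lib.Helper23

open Matrix Equiv

theorem psl2_recog_even {K : Type*} [Field K] [Fintype K] [DecidableEq K] [CharP K 2]
    {G : Type*} [Group G] [Finite G]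
    (π : G →* Perm (Option K)) (hπ : Function.Injective π)
    (hcard : Nat.card G = Fintype.card K * (Fintype.card K ^ 2 - 1))
    (hA : ∀ c : K, ∃ a : G, ∀ x, π a x = Option.map (· + c) x)
    (hfix : ∀ g : G, π g none = none → π g (some 0) = some 0 →
      ∃ s : K, s ≠ 0 ∧ ∀ x, π g x = Option.map (s * ·) x)
    (hT : ∃ t : G, π t none = some 0 ∧ π t (some 0) = none ∧
      ∀ k : K, k ≠ 0 → π t (some k) = some k⁻¹) :
    Nonempty (G ≃* Matrix.ProjectiveSpecialLinearGroup (Fin 2) K) := by
  classical
  have hq1 : 1 < Fintype.card K := Fintype.one_lt_card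
  -- every element is a square
  have hsq : ∀ s : K, ∃ σ : K, σ * σ = s := by
    have hinj : Function.Injective (frobenius K 2) := frobenius_inj K 2
    have hsurj : Function.Surjective (frobenius K 2) := Finite.injective_iff_surjective.mp hinj
    intro s
    obtain ⟨σ, hσ⟩ := hsurj s
    refine ⟨σ, ?_⟩
    rw [← hσ, frobenius_def, sq]
  have hR1 : ∀ (γ : Perm (Option K)) (c : K), (∀ x, γ x = Option.map (· + c) x) →
      γ ∈ (mobHom (K := K)).range := by
    intro γ c hγ
    obtain ⟨A, hA1, hA2⟩ := mob_shift c
    refine ⟨A, Equiv.ext fun x => ?_⟩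
    cases x with
    | none => rw [hA1, hγ]; rfl
    | some k => rw [hA2, hγ]; rfl
  have hR2 : ∀ (γ : Perm (Option K)) (s : K), s ≠ 0 → (∀ x, γ x = Option.map (s * ·) x) →
      γ ∈ (mobHom (K := K)).range := by
    intro γ s hs hγ
    obtain ⟨σ, hσ⟩ := hsq s
    have hσ0 : σ ≠ 0 := by
      rintro rfl
      rw [mul_zero] at hσ
      exact hs hσ.symm
    obtain ⟨A, hA1, hA2⟩ := mob_mul σ hσ0
    refine ⟨A, Equiv.ext fun x => ?_⟩
    cases x with
    | none => rw [hA1, hγ]; rfl
    | some k => rw [hA2, hγ, hσ]; rfl
  obtain ⟨t₁, ht₁inf, ht₁zero, ht₁⟩ := hT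
  have hR3 : π t₁ ∈ (mobHom (K := K)).range := by
    obtain ⟨A, hA1, hA2, hA3⟩ := mob_swap (1 : K) 1 one_ne_zero (by
      rw [mul_one, CharTwo.neg_eq])
    refine ⟨A, Equiv.ext fun x => ?_⟩
    cases x with
    | none => rw [hA1, ht₁inf]
    | some k =>
      by_cases hk : k = 0
      · rw [hk, hA2, ht₁zero]
      · rw [hA3 k hk, ht₁ k hk, one_div]
  choose a ha using hA
  -- elements fixing `∞`
  have hinf : ∀ g : G, π g none = none → π g ∈ (mobHom (K := K)).range := by
    intro g hg
    cases hg0 : π g (some 0) with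
    | none =>
      have := (π g).injective (hg.trans hg0.symm)
      cases this
    | some c =>
      have h1 : π ((a c)⁻¹ * g) none = none := by
        rw [map_mul, Perm.mul_apply, hg, map_inv, Perm.inv_eq_iff_eq, ha]
        rfl
      have h2 : π ((a c)⁻¹ * g) (some 0) = some 0 := by
        rw [map_mul, Perm.mul_apply, hg0, map_inv, Perm.inv_eq_iff_eq, ha]
        show some c = some (0 + c)
        rw [zero_add]
      obtain ⟨s, hs, hgs⟩ := hfix _ h1 h2
      have h3 : π g = π (a c) * π ((a c)⁻¹ * g) := by
        rw [← map_mul, mul_inv_cancel_left]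
      rw [h3]
      exact Subgroup.mul_mem _ (hR1 _ c (ha c)) (hR2 _ s hs hgs)
  have hall : ∀ g : G, π g ∈ (mobHom (K := K)).range := by
    intro g
    cases hg : π g none with
    | none => exact hinf g hg
    | some c =>
      have h1 : π (t₁ * (a c)⁻¹ * g) none = none := by
        rw [map_mul, map_mul, Perm.mul_apply, Perm.mul_apply, hg]
        have : (π (a c)⁻¹) (some c) = some 0 := by
          rw [map_inv, Perm.inv_eq_iff_eq, ha]
          show some c = some (0 + c)
          rw [zero_add]
        rw [this, ht₁zero]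
      have h2 := hinf _ h1
      have h3 : π g = π (a c) * (π t₁)⁻¹ * π (t₁ * (a c)⁻¹ * g) := by
        rw [← map_inv, ← map_mul, ← map_mul]
        congr 1
        group
      rw [h3]
      exact Subgroup.mul_mem _ (Subgroup.mul_mem _ (hR1 _ c (ha c)) (Subgroup.inv_mem _ hR3)) h2
  -- cardinalities
  have hSL : Nat.card (Matrix.SpecialLinearGroup (Fin 2) K) =
      Fintype.card K * (Fintype.card K ^ 2 - 1) := by
    have h1 := Cfsg.Agent.Lib.Helper6.card_sl (F := K) (q := Fintype.card K) rfl 2 (by norm_num)
    rw [Fin.prod_univ_two] at h1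
    simp only [Fin.val_zero, pow_zero, Fin.val_one, pow_one] at h1
    have h2 : Fintype.card K ^ 2 - Fintype.card K = (Fintype.card K - 1) * Fintype.card K := by
      rw [Nat.sub_mul, one_mul, sq]
    rw [h2] at h1
    have h3 : (Fintype.card K - 1) * Nat.card (Matrix.SpecialLinearGroup (Fin 2) K) =
        (Fintype.card K - 1) * (Fintype.card K * (Fintype.card K ^ 2 - 1)) := by
      rw [h1]
      ring
    exact Nat.eq_of_mul_eq_mul_left (by omega) h3
  have hrange_le : π.range ≤ (mobHom (K := K)).range := by
    rintro _ ⟨g, rfl⟩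
    exact hall g
  have hcπ : Nat.card π.range = Nat.card G :=
    (Nat.card_congr (MonoidHom.ofInjective hπ).toEquiv).symm
  have hkr : Nat.card (mobHom (K := K)).ker * Nat.card (mobHom (K := K)).range =
      Nat.card (Matrix.SpecialLinearGroup (Fin 2) K) := by
    rw [← Subgroup.index_ker]
    exact Subgroup.card_mul_index _
  have hcr : Nat.card G ≤ Nat.card (mobHom (K := K)).range := by
    rw [← hcπ]
    exact Subgroup.card_le_of_le hrange_le
  have hG0 : 0 < Nat.card G := Nat.card_pos
  rw [hSL, ← hcard] at hkr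
  have hkpos : 0 < Nat.card (mobHom (K := K)).ker := Nat.card_pos
  have hker1 : Nat.card (mobHom (K := K)).ker = 1 := by
    by_contra hne1
    have h2 : 2 ≤ Nat.card (mobHom (K := K)).ker := by omega
    nlinarith
  have hrangeG : Nat.card (mobHom (K := K)).range = Nat.card G := by
    rw [hker1, one_mul] at hkr
    exact hkr
  have hker : (mobHom (K := K)).ker =
      Subgroup.center (Matrix.SpecialLinearGroup (Fin 2) K) := by
    refine (Subgroup.eq_of_le_of_card_ge center_le_ker_mobHom ?_).symm
    rw [hker1]
    exact Nat.card_pos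
  have hrange : π.range = (mobHom (K := K)).range :=
    Subgroup.eq_of_le_of_card_ge hrange_le (by rw [hrangeG, hcπ])
  exact ⟨(MonoidHom.ofInjective hπ).trans ((MulEquiv.subgroupCongr hrange).trans
    ((QuotientGroup.quotientKerEquivRange (mobHom (K := K))).symm.trans
      (QuotientGroup.quotientMulEquivOfEq hker)))⟩

end Cfsg.Agent.Lib.Helper23
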