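import Mathlib
import Cfsg.Agent.Lib.Helper23.Sharp3a
import Cfsg.Agent.Lib.Helper23.CitField
import Cfsg.Agent.Lib.Helper23.PSL2Even

/-!
# Sharply triply transitive groups of odd degree are `PSL(2, 2^f)`
-/

namespace Cfsg.Agent.Lib.Helper23

open Subgroup Equiv

universe u v

section Inverts

variable {G : Type u} [Group G]

/-- Conjugation by an involution `u` which is fixed-point-free on a finite subgroup `H` inverts
`H`. -/
theorem inverts_of_fpf (H : Subgroup G) [Finite H] (u : G) (hu : u * u = 1)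
    (hnorm : ∀ h ∈ H, u * h * u⁻¹ ∈ H) (hfpf : ∀ h ∈ H, u * h * u⁻¹ = h → h = 1) :
    ∀ h ∈ H, u * h * u⁻¹ = h⁻¹ := by
  have huinv : u⁻¹ = u := inv_eq_of_mul_eq_one_left hu
  let f : H → H := fun h =>
    ⟨(h : G)⁻¹ * (u * h * u⁻¹), H.mul_mem (H.inv_mem h.2) (hnorm h h.2)⟩
  have hinj : Function.Injective f := by
    intro a b hab
    have h1 : (a : G)⁻¹ * (u * a * u⁻¹) = (b : G)⁻¹ * (u * b * u⁻¹) := congrArg Subtype.val hab
    have h3 : (b : G) * (a : G)⁻¹ = (u * b * u⁻¹) * (u * a * u⁻¹)⁻¹ := by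
      rw [eq_mul_inv_iff_mul_eq, mul_assoc, h1, mul_inv_cancel_left]
    have h2 : u * ((b : G) * (a : G)⁻¹) * u⁻¹ = (b : G) * (a : G)⁻¹ := by
      have e : u * (b : G) * u⁻¹ * (u * (a : G) * u⁻¹)⁻¹ = u * ((b : G) * (a : G)⁻¹) * u⁻¹ := by
        group
      rw [← e]
      exact h3.symm
    have h4 := hfpf _ (H.mul_mem b.2 (H.inv_mem a.2)) h2
    exact Subtype.ext (mul_inv_eq_one.mp h4).symm
  have hsurj : Function.Surjective f := Finite.injective_iff_surjective.mp hinj
  intro x hx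
  obtain ⟨h, hh⟩ := hsurj ⟨x, hx⟩
  have h1 : x = (h : G)⁻¹ * (u * h * u⁻¹) := (congrArg Subtype.val hh).symm
  rw [h1, huinv]
  have e1 : u * ((h : G)⁻¹ * (u * h * u)) * u = u * (h : G)⁻¹ * u * h * (u * u) := by group
  have e2 : ((h : G)⁻¹ * (u * h * u))⁻¹ = u⁻¹ * (h : G)⁻¹ * u⁻¹ * h := by group
  rw [e1, hu, mul_one, e2, huinv]

/-- A subgroup inverted by conjugation is abelian. -/
theorem comm_of_inverts (H : Subgroup G) (u : G) (hinv : ∀ h ∈ H, u * h * u⁻¹ = h⁻¹) :
    ∀ a ∈ H, ∀ b ∈ H, a * b = b * a := by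
  intro a ha b hb
  have h1 := hinv (a * b) (H.mul_mem ha hb)
  have h2 : u * (a * b) * u⁻¹ = (u * a * u⁻¹) * (u * b * u⁻¹) := by group
  rw [h2, hinv a ha, hinv b hb] at h1
  have h3 := congrArg Inv.inv h1
  simpa [mul_inv_rev] using h3.symm

end Inverts

theorem sharp3_arith (q : ℕ) (hq : 1 ≤ q) :
    (q + 1) * ((q + 1 - 1) * (q + 1 - 2)) = q * (q ^ 2 - 1) := by
  obtain ⟨k, rfl⟩ : ∃ k, q = k + 1 := ⟨q - 1, by omega⟩
  have e1 : k + 1 + 1 - 1 = k + 1 := by omega
  have e2 : k + 1 + 1 - 2 = k := by omega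
  have e3 : (k + 1) ^ 2 - 1 = k ^ 2 + 2 * k := by
    have : (k + 1) ^ 2 = k ^ 2 + 2 * k + 1 := by ring
    omega
  rw [e1, e2, e3]
  ring

/-- A finite group acting sharply 3-transitively on a set of odd size `q + 1` is isomorphic to
`PSL(2, K)` for a field `K` with `q` elements (of characteristic 2). -/
theorem sharp3_psl2 {G : Type u} [Group G] [Finite G] {α : Type v} [Fintype α] [DecidableEq α]
    [MulAction G α] (h : Sharp3 G α) (hodd : Odd (Fintype.card α)) (hm : 3 ≤ Fintype.card α) :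
    ∃ (K : Type u) (_ : Field K) (_ : Fintype K), CharP K 2 ∧
      Fintype.card K + 1 = Fintype.card α ∧
      Nonempty (G ≃* Matrix.ProjectiveSpecialLinearGroup (Fin 2) K) := by
  classical
  obtain ⟨inf⟩ : Nonempty α := Fintype.card_pos_iff.mp (by omega)
  obtain ⟨o, ho, -⟩ := Sharp3.exists_third hm inf inf
  obtain ⟨c, hci, hco⟩ := Sharp3.exists_third hm inf o
  obtain ⟨T, hTmem⟩ : ∃ T : Subgroup G, ∀ t, t ∈ T ↔ t • inf = inf ∧ t * t = 1 :=
    ⟨h.kernelT hodd hm inf, fun t => Iff.rfl⟩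
  obtain ⟨H, hHmem⟩ : ∃ H : Subgroup G, ∀ g, g ∈ H ↔ g • inf = inf ∧ g • o = o :=
    ⟨MulAction.stabilizer G inf ⊓ MulAction.stabilizer G o, fun g => by
      rw [Subgroup.mem_inf, MulAction.mem_stabilizer_iff, MulAction.mem_stabilizer_iff]⟩
  have hcardT : Nat.card T = Fintype.card α - 1 := by
    have h1 : Nat.card T = Nat.card {t : G // t • inf = inf ∧ t * t = 1} :=
      Nat.card_congr (Equiv.subtypeEquivRight hTmem)
    rw [h1]
    exact h.card_T hodd ho
  have hTcomm : ∀ a ∈ T, ∀ b ∈ T, a * b = b * a := by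
    intro a ha b hb
    have h1 := ((hTmem _).mp (T.mul_mem ha hb)).2
    have h2 := ((hTmem _).mp ha).2
    have h3 := ((hTmem _).mp hb).2
    have h4 : a * b = (a * b)⁻¹ := eq_inv_of_mul_eq_one_left h1
    rw [h4, mul_inv_rev, inv_eq_of_mul_eq_one_left h2, inv_eq_of_mul_eq_one_left h3]
  have hT2 : ∀ a ∈ T, a ^ 2 = 1 := fun a ha => by
    rw [sq]
    exact ((hTmem a).mp ha).2
  have hnorm : ∀ g ∈ H, ∀ t ∈ T, g * t * g⁻¹ ∈ T := by
    intro g hg t ht
    rw [hHmem] at hg
    rw [hTmem] at ht ⊢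
    have hginv : g⁻¹ • inf = inf := inv_smul_eq_iff.mpr hg.1.symm
    refine ⟨by rw [mul_smul, mul_smul, hginv, ht.1, hg.1], ?_⟩
    have e1 : g * t * g⁻¹ * (g * t * g⁻¹) = g * (t * t) * g⁻¹ := by group
    rw [e1, ht.2, mul_one, mul_inv_cancel]
  -- the involution `u`
  obtain ⟨u, hu1, hu2, hu3⟩ := h.trans inf o c o inf c (Ne.symm ho) (Ne.symm hci) (Ne.symm hco)
    ho (Ne.symm hco) (Ne.symm hci)
  have huu : u * u = 1 := by
    apply h.sharp (u * u) inf o c (Ne.symm ho) (Ne.symm hci) (Ne.symm hco)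
    · rw [mul_smul, hu1, hu2]
    · rw [mul_smul, hu2, hu1]
    · rw [mul_smul, hu3, hu3]
  have hu_ne : u ≠ 1 := by
    rintro rfl
    rw [one_smul] at hu1
    exact ho hu1.symm
  have huinv' : u⁻¹ = u := inv_eq_of_mul_eq_one_left huu
  have hunorm : ∀ g ∈ H, u * g * u⁻¹ ∈ H := by
    intro g hg
    rw [hHmem] at hg ⊢
    rw [huinv']
    constructor
    · rw [mul_smul, mul_smul, hu1, hg.2, hu2]
    · rw [mul_smul, mul_smul, hu2, hg.1, hu1]
  have hufpf : ∀ g ∈ H, u * g * u⁻¹ = g → g = 1 := by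
    intro g hg hcomm
    rw [hHmem] at hg
    have h2 : u * g = g * u := mul_inv_eq_iff_eq_mul.mp hcomm
    have h1 : u • (g • c) = g • c := by
      rw [← mul_smul, h2, mul_smul, hu3]
    have h3 : g • c = c := h.inv_fix_unique hodd huu hu_ne h1 hu3
    exact h.sharp g inf o c (Ne.symm ho) (Ne.symm hci) (Ne.symm hco) hg.1 hg.2 h3
  have huinv : ∀ g ∈ H, u * g * u⁻¹ = g⁻¹ := inverts_of_fpf H u huu hunorm hufpf
  have hHcomm : ∀ a ∈ H, ∀ b ∈ H, a * b = b * a := comm_of_inverts H u huinv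
  -- the unit `ε`
  obtain ⟨ε, hε1, hε2, hε3⟩ := h.T_exists ho c hci
  have hεT : ε ∈ T := (hTmem ε).mpr ⟨hε1, hε2⟩
  have hεne : ε ≠ 1 := by
    rintro rfl
    rw [one_smul] at hε3
    exact hco hε3.symm
  have hreg : ∀ t ∈ T, t ≠ 1 → ∃ g ∈ H, g * ε * g⁻¹ = t := by
    intro t ht ht1
    have ht' := (hTmem t).mp ht
    have hb1 : t • o ≠ inf := fun e => ho (MulAction.injective t (e.trans ht'.1.symm))
    have hb2 : t • o ≠ o := by
      intro e
      exact ho (h.inv_fix_unique hodd ht'.2 ht1 e ht'.1)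
    obtain ⟨g, hg1, hg2, hg3⟩ := h.trans inf o c inf o (t • o) (Ne.symm ho) (Ne.symm hci)
      (Ne.symm hco) (Ne.symm ho) (Ne.symm hb1) (Ne.symm hb2)
    have hgH : g ∈ H := (hHmem g).mpr ⟨hg1, hg2⟩
    refine ⟨g, hgH, ?_⟩
    have hmem := (hTmem _).mp (hnorm g hgH ε hεT)
    apply h.T_eq hodd ho hmem.1 hmem.2 ht'.1 ht'.2
    rw [mul_smul, mul_smul, inv_smul_eq_iff.mpr hg2.symm, hε3, hg3]
  obtain ⟨K, instF, instFin, τ, hchar, hcardK, hτT, hτinj, hτsurj, hτ0, hτ1, hτadd, hτmul⟩ :=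
    exists_field_of_group T H hTcomm hT2 hnorm hHcomm ε hεT hεne hreg
  have hcardα : Fintype.card K + 1 = Fintype.card α := by
    rw [hcardK, hcardT]
    omega
  refine ⟨K, instF, instFin, hchar, hcardα, ?_⟩
  choose κ hκ using (fun g : H => hτmul g g.2)
  have hκ1 : ∀ g : H, τ (κ g) = (g : G) * ε * (g : G)⁻¹ := by
    intro g
    have := hκ g 1
    rwa [mul_one, hτ1] at this
  have hκmul : ∀ g g' : H, κ (g * g') = κ g * κ g' := by
    intro g g'
    apply hτinj
    rw [hκ1, hκ g (κ g'), hκ1]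
    show ((g : G) * (g' : G)) * ε * ((g : G) * (g' : G))⁻¹ =
      (g : G) * ((g' : G) * ε * (g' : G)⁻¹) * (g : G)⁻¹
    group
  have hκone : κ 1 = 1 := by
    apply hτinj
    rw [hκ1, hτ1]
    show (1 : G) * ε * (1 : G)⁻¹ = ε
    group
  have hκinv : ∀ g : H, κ g⁻¹ * κ g = 1 := by
    intro g
    rw [← hκmul, inv_mul_cancel, hκone]
  have hκne : ∀ g : H, κ g ≠ 0 := by
    intro g h0
    have := hκinv g
    rw [h0, mul_zero] at this
    exact zero_ne_one this
  have hκsurj : ∀ k : K, k ≠ 0 → ∃ g : H, κ g = k := by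
    intro k hk
    have hk1 : τ k ≠ 1 := by
      intro h'
      apply hk
      apply hτinj
      rw [h', hτ0]
    obtain ⟨g, hg, hge⟩ := hreg (τ k) (hτT k) hk1
    refine ⟨⟨g, hg⟩, ?_⟩
    apply hτinj
    rw [hκ1]
    exact hge
  -- the labelling
  obtain ⟨E, hEnone, hEsome⟩ : ∃ E : Option K → α, E none = inf ∧
      ∀ a : K, E (some a) = τ a • o :=
    ⟨fun x => match x with
      | none => inf
      | some a => τ a • o, rfl, fun _ => rfl⟩
  have hE0 : E (some 0) = o := by rw [hEsome, hτ0, one_smul]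
  have hτinf : ∀ a : K, τ a • inf = inf := fun a => ((hTmem _).mp (hτT a)).1
  have hEinj : Function.Injective E := by
    intro x y hxy
    cases x with
    | none =>
      cases y with
      | none => rfl
      | some b =>
        rw [hEnone, hEsome] at hxy
        exact absurd (MulAction.injective (τ b) ((hτinf b).trans hxy)) (Ne.symm ho)
    | some a =>
      cases y with
      | none =>
        rw [hEnone, hEsome] at hxy
        exact absurd (MulAction.injective (τ a) ((hτinf a).trans hxy.symm)) (Ne.symm ho)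
      | some b =>
        rw [hEsome, hEsome] at hxy
        have ha := (hTmem _).mp (hτT a)
        have hb := (hTmem _).mp (hτT b)
        exact congrArg some (hτinj (h.T_eq hodd ho ha.1 ha.2 hb.1 hb.2 hxy))
  have hEbij : Function.Bijective E := by
    apply Function.Injective.bijective_of_nat_card_le hEinj
    rw [Nat.card_eq_fintype_card, Nat.card_eq_fintype_card, Fintype.card_option, hcardα]
  obtain ⟨e, he⟩ : ∃ e : Option K ≃ α, ∀ x, e x = E x :=
    ⟨Equiv.ofBijective E hEbij, fun _ => rfl⟩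
  obtain ⟨π, hπ⟩ : ∃ π : G →* Perm (Option K), ∀ g x, π g x = e.symm (g • e x) :=
    ⟨(e.symm.permCongrHom).toMonoidHom.comp (MulAction.toPermHom G α),
      fun _ _ => rfl⟩
  have hπiff : ∀ g x y, π g x = y ↔ g • E x = E y := by
    intro g x y
    rw [hπ, Equiv.symm_apply_eq, he, he]
  have hπinj : Function.Injective π := by
    rw [injective_iff_map_eq_one]
    intro g hg
    have hfix : ∀ x : α, g • x = x := by
      intro x
      obtain ⟨y, rfl⟩ := hEbij.2 x
      have h1 : π g y = y := by rw [hg]; rfl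
      exact (hπiff g y y).mp h1
    exact h.sharp g inf o c (Ne.symm ho) (Ne.symm hci) (Ne.symm hco) (hfix _) (hfix _) (hfix _)
  have hactH : ∀ (g : H) (a : K), (g : G) • E (some a) = E (some (κ g * a)) := by
    intro g a
    rw [hEsome, hEsome, hκ]
    have h1 : (g : G) • τ a • o = ((g : G) * τ a * (g : G)⁻¹) • (g : G) • o := by
      rw [← mul_smul, ← mul_smul, inv_mul_cancel_right]
    rw [h1, ((hHmem _).mp g.2).2]
  have hcard : Nat.card G = Fintype.card K * (Fintype.card K ^ 2 - 1) := by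
    rw [h.card_group hodd hm, ← hcardα]
    exact sharp3_arith _ Fintype.card_pos
  apply psl2_recog_even π hπinj hcard
  · intro c'
    refine ⟨τ c', fun x => ?_⟩
    rw [hπiff]
    cases x with
    | none =>
      show τ c' • E none = E none
      rw [hEnone]
      exact hτinf c'
    | some b =>
      show τ c' • E (some b) = E (some (b + c'))
      rw [hEsome, hEsome, hτadd, ← mul_smul, hTcomm _ (hτT c') _ (hτT b)]
  · intro g hg1 hg2
    rw [hπiff, hEnone] at hg1
    rw [hπiff, hE0] at hg2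
    have hg : g ∈ H := (hHmem g).mpr ⟨hg1, hg2⟩
    refine ⟨κ ⟨g, hg⟩, hκne _, fun x => ?_⟩
    rw [hπiff]
    cases x with
    | none =>
      show g • E none = E none
      rw [hEnone]
      exact hg1
    | some a =>
      show g • E (some a) = E (some (κ ⟨g, hg⟩ * a))
      exact hactH ⟨g, hg⟩ a
  · have hu1' : u • E (some 1) ≠ inf := by
      intro h'
      have h1 : E (some 1) = E (some 0) := by
        rw [hE0]
        exact MulAction.injective u (h'.trans hu2.symm)
      exact one_ne_zero (Option.some.inj (hEinj h1))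
    have hu2' : u • E (some 1) ≠ o := by
      intro h'
      have h1 : E (some 1) = E none := by
        rw [hEnone]
        exact MulAction.injective u (h'.trans hu1.symm)
      cases hEinj h1
    obtain ⟨y, hy⟩ := hEbij.2 (u • E (some 1))
    cases y with
    | none =>
      rw [hEnone] at hy
      exact absurd hy.symm hu1'
    | some b₀ =>
      have hb₀ : b₀ ≠ 0 := by
        rintro rfl
        rw [hE0] at hy
        exact hu2' hy.symm
      obtain ⟨h₀, rfl⟩ := hκsurj b₀ hb₀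
      refine ⟨(h₀ : G)⁻¹ * u, ?_, ?_, ?_⟩
      · rw [hπiff, hEnone, hE0, mul_smul, hu1]
        exact inv_smul_eq_iff.mpr ((hHmem _).mp h₀.2).2.symm
      · rw [hπiff, hEnone, hE0, mul_smul, hu2]
        exact inv_smul_eq_iff.mpr ((hHmem _).mp h₀.2).1.symm
      · intro k hk
        obtain ⟨g, rfl⟩ := hκsurj k hk
        rw [hπiff]
        have h1 : E (some (κ g)) = (g : G) • E (some 1) := by rw [hactH, mul_one]
        have h2 : u • (g : G) • E (some 1) = (g : G)⁻¹ • u • E (some 1) := by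
          rw [← mul_smul, ← mul_smul]
          congr 1
          have := huinv g g.2
          rw [← this]
          group
        have h3 := hactH g⁻¹ (κ h₀)
        have h4 := hactH h₀⁻¹ (κ g⁻¹ * κ h₀)
        rw [Subgroup.coe_inv] at h3 h4
        rw [h1, mul_smul, h2, ← hy, h3, h4]
        congr 2
        have h5 : κ g⁻¹ = (κ g)⁻¹ := eq_inv_of_mul_eq_one_left (hκinv g)
        rw [h5, mul_comm (κ g)⁻¹, ← mul_assoc, hκinv h₀, one_mul]

end Cfsg.Agent.Lib.Helper23
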