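import Mathlib
import Cfsg.Agent.Lib.Helper9.Zassenhaus
import Cfsg.Agent.Lib.Helper21.Zass2
import Cfsg.Agent.Lib.Helper23.Sharp3b
import Cfsg.Agent.S0740
import Cfsg.Agent.S0741

/-!
# Zassenhaus groups with two-point stabilizers of even order `d`, `2 d = n - 1`: group structure

The kernel `N` of a point stabilizer is abelian and inverted by the involution `z` of the two-point
stabilizer `H`; an involution `w` swapping the two points inverts `H`, and `H` acts irreducibly
on `N`.
-/

namespace Cfsg.Agent.Lib.Helper23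

open Cfsg MulAction

universe u v

/-- The data extracted from a Zassenhaus group with `2 d = n - 1`, `d` even. -/
structure ZEv (G : Type u) [Group G] (Ω : Type v) [MulAction G Ω] (a b : Ω) (N : Subgroup G)
    (z w : G) : Prop where
  three : ∀ g : G, ∀ x y t : Ω, x ≠ y → y ≠ t → x ≠ t → g • x = x → g • y = y → g • t = t → g = 1
  hab : a ≠ b
  N_fix : ∀ k ∈ N, k • a = a
  N_reg : ∀ k ∈ N, k • b = b → k = 1
  N_trans : ∀ y : Ω, y ≠ a → ∃ k ∈ N, k • b = y
  N_norm : ∀ s : G, s • a = a → ∀ k ∈ N, s * k * s⁻¹ ∈ N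
  z_a : z • a = a
  z_b : z • b = b
  z_sq : z * z = 1
  z_inv : ∀ k ∈ N, z * k * z⁻¹ = k⁻¹
  w_a : w • a = b
  w_b : w • b = a
  w_sq : w * w = 1
  w_z : w * z = z * w
  w_inv : ∀ h : G, h • a = a → h • b = b → w * h * w⁻¹ = h⁻¹
  key : ∀ x : Ω, x ≠ a → x ≠ b → ∃ m : G, m • a = a ∧ m • b = b ∧ (m * w) • x = x
  irr : ∀ T' : Subgroup G, T' ≤ N →
    (∀ h : G, h • a = a → h • b = b → ∀ t ∈ T', h * t * h⁻¹ ∈ T') → T' = ⊥ ∨ T' = N

section Basic

variable {G : Type u} [Group G] {Ω : Type v} [MulAction G Ω]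

/-- An element fixing `a` and `b` and commuting with an element of the kernel moving `b` is
trivial. -/
theorem ze_comm_trivial
    (three : ∀ g : G, ∀ x y t : Ω, x ≠ y → y ≠ t → x ≠ t → g • x = x → g • y = y → g • t = t →
      g = 1)
    {a b : Ω} (hab : a ≠ b) {g k : G} (hga : g • a = a) (hgb : g • b = b) (hka : k • a = a)
    (hkb : k • b ≠ b) (hcomm : g * k * g⁻¹ = k) : g = 1 := by
  have h0 : g * k = k * g := mul_inv_eq_iff_eq_mul.mp hcomm
  have h1 : g • (k • b) = k • b := by
    rw [← mul_smul, h0, mul_smul, hgb]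
  have h2 : k • b ≠ a := by
    intro h
    exact hab (MulAction.injective k (hka.trans h.symm))
  exact three g a b (k • b) hab (Ne.symm hkb) (Ne.symm h2) hga hgb h1

end Basic

theorem zass_even_data {G : Type u} [Group G] [Finite G] {Ω : Type v} [MulAction G Ω] [Fintype Ω]
    (hZ : IsZassenhausGroup G Ω) {a b : Ω} (hab : a ≠ b)
    (heven : Even (Nat.card ↥(stabilizer G a ⊓ stabilizer G b)))
    (hd : 2 * Nat.card ↥(stabilizer G a ⊓ stabilizer G b) ≤ Fintype.card Ω - 2) :
    ∃ (N : Subgroup G) (z w : G), ZEv G Ω a b N z w ∧ Nat.card N + 1 = Fintype.card Ω ∧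
      2 * Nat.card ↥(stabilizer G a ⊓ stabilizer G b) + 2 = Fintype.card Ω := by
  classical
  have three := hZ.2.2.1
  have h3card : 3 ≤ Fintype.card Ω := Cfsg.Agent.Lib.Helper21.zass_three_le_card hZ
  have hle := Cfsg.Agent.S0741.result hZ hab heven
  have hcardH : 2 * Nat.card ↥(stabilizer G a ⊓ stabilizer G b) + 2 = Fintype.card Ω := by omega
  -- the kernel
  obtain ⟨N, hNmem, hNtr, -⟩ := (Cfsg.Agent.Lib.Helper9.zdata_of_zassenhaus hZ).exists_kernel a
  have hNfix : ∀ k ∈ N, k • a = a := fun k hk => ((hNmem k).mp hk).1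
  have hNsemi : ∀ k ∈ N, ∀ y : Ω, y ≠ a → k • y = y → k = 1 := by
    intro k hk y hy hky
    rcases ((hNmem k).mp hk).2 with h | h
    · exact h
    · exact absurd hky (h y hy)
  have hNreg : ∀ k ∈ N, k • b = b → k = 1 := fun k hk h => hNsemi k hk b (Ne.symm hab) h
  have hNtrans : ∀ y : Ω, y ≠ a → ∃ k ∈ N, k • b = y := fun y hy => hNtr b y (Ne.symm hab) hy
  have hNnorm : ∀ s : G, s • a = a → ∀ k ∈ N, s * k * s⁻¹ ∈ N := by
    intro s hs k hk
    have hsinv : s⁻¹ • a = a := inv_smul_eq_iff.mpr hs.symm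
    rw [hNmem]
    refine ⟨by rw [mul_smul, mul_smul, hsinv, hNfix k hk, hs], ?_⟩
    by_cases hk1 : k = 1
    · left
      rw [hk1]
      group
    · right
      intro ω hω hfix
      apply hk1
      apply hNsemi k hk (s⁻¹ • ω)
      · intro h
        apply hω
        rw [← hs, ← h, smul_inv_smul]
      · rw [mul_smul, mul_smul] at hfix
        exact eq_inv_smul_iff.mpr hfix
  have hNb : ∀ k ∈ N, k • b ≠ a := by
    intro k hk h
    exact hab (MulAction.injective k ((hNfix k hk).trans h.symm))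
  have hcardN : Nat.card N + 1 = Fintype.card Ω := by
    have hbij : Function.Bijective
        (fun k : N => (⟨(k : G) • b, hNb k k.2⟩ : {y : Ω // y ≠ a})) := by
      constructor
      · intro k k' hkk
        have h1 : (k : G) • b = (k' : G) • b := congrArg Subtype.val hkk
        have h2 : ((k' : G)⁻¹ * (k : G)) • b = b := by
          rw [mul_smul, h1, inv_smul_smul]
        have h3 := hNreg _ (N.mul_mem (N.inv_mem k'.2) k.2) h2
        exact Subtype.ext (inv_mul_eq_one.mp h3).symm
      · rintro ⟨y, hy⟩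
        obtain ⟨k, hk, hky⟩ := hNtrans y hy
        exact ⟨⟨k, hk⟩, Subtype.ext hky⟩
    rw [Nat.card_congr (Equiv.ofBijective _ hbij), Nat.card_eq_fintype_card, Sharp3.card_ne_one]
    omega
  -- the involution `z`
  have := Fintype.ofFinite G
  have : Fact (Nat.Prime 2) := ⟨Nat.prime_two⟩
  obtain ⟨z', hz'⟩ := exists_prime_orderOf_dvd_card' 2 (even_iff_two_dvd.mp heven)
  have hzmem := z'.2
  rw [Subgroup.mem_inf, MulAction.mem_stabilizer_iff, MulAction.mem_stabilizer_iff] at hzmem
  obtain ⟨z, hzdef⟩ : ∃ z : G, z = (z' : G) := ⟨_, rfl⟩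
  rw [← hzdef] at hzmem
  obtain ⟨hza, hzb⟩ := hzmem
  have hzz : z * z = 1 := by
    have h : z' ^ 2 = 1 := by rw [← hz']; exact pow_orderOf_eq_one z'
    have := congrArg Subtype.val h
    rw [pow_two] at this
    rw [hzdef]
    exact_mod_cast this
  have hz1 : z ≠ 1 := by
    intro h
    have : z' = 1 := Subtype.ext (hzdef ▸ h)
    rw [this, orderOf_one] at hz'
    omega
  -- involutions of `H` invert `N`
  have hINV : ∀ t : G, t • a = a → t • b = b → t * t = 1 → t ≠ 1 →
      ∀ k ∈ N, t * k * t⁻¹ = k⁻¹ := by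
    intro t hta htb htt ht1
    apply inverts_of_fpf N t htt (fun k hk => hNnorm t hta k hk)
    intro k hk hcomm
    by_contra hk1
    apply ht1
    exact ze_comm_trivial three hab hta htb (hNfix k hk) (fun h => hk1 (hNreg k hk h)) hcomm
  obtain ⟨c, hca, hcb⟩ := Cfsg.Agent.Lib.Helper21.zass_exists_third hZ hab
  obtain ⟨ε, hεN, hεb⟩ := hNtrans c hca
  have hεb' : ε • b ≠ b := by rw [hεb]; exact hcb
  have hU : ∀ t t' : G, t • a = a → t • b = b → t' • a = a → t' • b = b →
      (∀ k ∈ N, t * k * t⁻¹ = k⁻¹) → (∀ k ∈ N, t' * k * t'⁻¹ = k⁻¹) → t = t' := by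
    intro t t' hta htb ht'a ht'b hinv hinv'
    have h1 : t'⁻¹ * t = 1 := by
      apply ze_comm_trivial three hab (g := t'⁻¹ * t) (k := ε) ?_ ?_ (hNfix ε hεN) hεb' ?_
      · rw [mul_smul, hta]
        exact inv_smul_eq_iff.mpr ht'a.symm
      · rw [mul_smul, htb]
        exact inv_smul_eq_iff.mpr ht'b.symm
      · have e1 := hinv ε hεN
        have e2 := hinv' ε hεN
        calc t'⁻¹ * t * ε * (t'⁻¹ * t)⁻¹ = t'⁻¹ * (t * ε * t⁻¹) * t' := by group
          _ = t'⁻¹ * ε⁻¹ * t' := by rw [e1]
          _ = t'⁻¹ * (t' * ε * t'⁻¹) * t' := by rw [e2]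
          _ = ε := by group
    exact (inv_mul_eq_one.mp h1).symm
  have hzinv : ∀ k ∈ N, z * k * z⁻¹ = k⁻¹ := hINV z hza hzb hzz hz1
  have hzinv' : z⁻¹ = z := inv_eq_of_mul_eq_one_left hzz
  -- the involution `w`
  obtain ⟨⟨w, hw2, hwa, hwb⟩, -, -⟩ := Cfsg.Agent.S0740.result hZ hab
  have hww : w * w = 1 := by
    have h : w ^ 2 = 1 := by rw [← hw2]; exact pow_orderOf_eq_one w
    rwa [pow_two] at h
  have hwinv : w⁻¹ = w := inv_eq_of_mul_eq_one_left hww
  have hwz' : w * z = z * w := by
    have hta : (w * z * w⁻¹) • a = a := by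
      rw [hwinv, mul_smul, mul_smul, hwa, hzb, hwb]
    have htb : (w * z * w⁻¹) • b = b := by
      rw [hwinv, mul_smul, mul_smul, hwb, hza, hwa]
    have htt : (w * z * w⁻¹) * (w * z * w⁻¹) = 1 := by
      have : (w * z * w⁻¹) * (w * z * w⁻¹) = w * (z * z) * w⁻¹ := by group
      rw [this, hzz, mul_one, mul_inv_cancel]
    have ht1 : w * z * w⁻¹ ≠ 1 := Cfsg.Agent.Lib.Helper21.conj_ne_one hz1
    have := hU _ _ hta htb hza hzb (hINV _ hta htb htt ht1) hzinv
    exact mul_inv_eq_iff_eq_mul.mp this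
  have hwz : ∀ y : Ω, w • (z • y) = z • (w • y) := by
    intro y
    rw [← mul_smul, ← mul_smul, hwz']
  -- the key lemma
  have hzpt : ∀ u ∈ N, u⁻¹ • b = z • (u • b) := by
    intro u hu
    have h1 := hzinv u hu
    rw [← h1, mul_smul, mul_smul, inv_smul_eq_iff.mpr hzb.symm]
  have key : ∀ x : Ω, x ≠ a → x ≠ b → ∃ m : G, m • a = a ∧ m • b = b ∧ (m * w) • x = x := by
    intro x hxa hxb
    obtain ⟨u, hu, hux⟩ := hNtrans x hxa
    have hya : w • x ≠ a := by
      intro h
      apply hxb
      exact MulAction.injective w (h.trans hwb.symm)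
    obtain ⟨v, hv, hvy⟩ := hNtrans (w • x) hya
    have hua := hNfix u hu
    have hva := hNfix v hv
    have hvinva : v⁻¹ • a = a := inv_smul_eq_iff.mpr hva.symm
    have hzx : z • x = u⁻¹ • b := by rw [hzpt u hu, hux]
    have hzy : z • (w • x) = v⁻¹ • b := by rw [hzpt v hv, hvy]
    refine ⟨u * w * v⁻¹ * w * u * w * z, ?_, ?_, ?_⟩
    · simp only [mul_smul]
      rw [hza, hwa, hux, ← hvy, inv_smul_smul, hwb, hua]
    · simp only [mul_smul]
      rw [hzb, hwb, hua, hwa, ← hzy, hwz, ← mul_smul w w, hww, one_smul, hzx, smul_inv_smul]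
    · simp only [mul_smul]
      rw [hwz, ← mul_smul w w, hww, one_smul, hzx, smul_inv_smul, hwb, hvinva, hwa, hux]
  -- counting: every element of `H w` is an involution
  obtain ⟨HF, hHF⟩ : ∃ HF : Finset G, ∀ g, g ∈ HF ↔ g • a = a ∧ g • b = b :=
    ⟨Finset.univ.filter (fun g : G => g • a = a ∧ g • b = b), by simp⟩
  have hcardHF : HF.card = Nat.card ↥(stabilizer G a ⊓ stabilizer G b) := by
    rw [Nat.card_eq_fintype_card, Fintype.card_subtype]
    congr 1
    ext g
    simp [hHF, Subgroup.mem_inf, MulAction.mem_stabilizer_iff]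
  obtain ⟨X, hX, hcardX⟩ : ∃ X : Finset Ω, (∀ x, x ∈ X ↔ x ≠ a ∧ x ≠ b) ∧
      X.card = Fintype.card Ω - 2 :=
    ⟨(Finset.univ : Finset Ω) \ {a, b}, by simp, by
      rw [Finset.card_univ_sdiff, Finset.card_pair hab]⟩
  choose! f hf using key
  have himg : X.image f = HF := by
    apply Finset.eq_of_subset_of_card_le
    · intro m hm
      obtain ⟨x, hx, rfl⟩ := Finset.mem_image.mp hm
      rw [hX] at hx
      exact (hHF _).mpr ⟨(hf x hx.1 hx.2).1, (hf x hx.1 hx.2).2.1⟩
    · have h1 := Finset.card_le_mul_card_image (f := f) X 2 (by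
        intro m _
        by_contra hlt
        push Not at hlt
        obtain ⟨x1, x2, x3, h1, h2, h3, h12, h13, h23⟩ := Finset.two_lt_card_iff.mp hlt
        simp only [Finset.mem_filter, hX] at h1 h2 h3
        have e1 := (hf x1 h1.1.1 h1.1.2).2.2
        have e2 := (hf x2 h2.1.1 h2.1.2).2.2
        have e3 := (hf x3 h3.1.1 h3.1.2).2.2
        have eb := (hf x1 h1.1.1 h1.1.2).2.1
        rw [h1.2] at e1 eb
        rw [h2.2] at e2
        rw [h3.2] at e3
        have h1' := three (m * w) x1 x2 x3 h12 h23 h13 e1 e2 e3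
        have h2' : (m * w) • a = b := by rw [mul_smul, hwa, eb]
        rw [h1', one_smul] at h2'
        exact hab h2')
      rw [hcardX] at h1
      omega
  have hwinvH : ∀ m : G, m • a = a → m • b = b → w * m * w⁻¹ = m⁻¹ := by
    intro m hma hmb
    have hm : m ∈ X.image f := by
      rw [himg]
      exact (hHF m).mpr ⟨hma, hmb⟩
    obtain ⟨x, hx, rfl⟩ := Finset.mem_image.mp hm
    rw [hX] at hx
    have hfx := (hf x hx.1 hx.2).2.2
    simp only [mul_smul] at hfx
    have hsq : (f x * w) * (f x * w) = 1 := by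
      apply three _ a b x hab (Ne.symm hx.2) (Ne.symm hx.1)
      · simp only [mul_smul]
        rw [hwa, hmb, hwb, hma]
      · simp only [mul_smul]
        rw [hwb, hma, hwa, hmb]
      · simp only [mul_smul]
        rw [hfx, hfx]
    rw [hwinv]
    calc w * f x * w = (f x)⁻¹ * ((f x * w) * (f x * w)) := by group
      _ = (f x)⁻¹ := by rw [hsq, mul_one]
  -- irreducibility
  have hirr : ∀ T' : Subgroup G, T' ≤ N →
      (∀ h : G, h • a = a → h • b = b → ∀ t ∈ T', h * t * h⁻¹ ∈ T') → T' = ⊥ ∨ T' = N := by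
    intro T' hT'N hT'inv
    by_cases hbot : T' = ⊥
    · exact Or.inl hbot
    · right
      obtain ⟨⟨u, hu⟩, hu1⟩ := (Subgroup.ne_bot_iff_exists_ne_one).mp hbot
      have hu1' : u ≠ 1 := fun h => hu1 (Subtype.ext h)
      have huN : u ∈ N := hT'N hu
      have hub : u • b ≠ b := fun h => hu1' (hNreg u huN h)
      have hstab : ∀ g : ↥(stabilizer G a ⊓ stabilizer G b), (g : G) • a = a ∧ (g : G) • b = b := by
        intro g
        have := g.2
        rwa [Subgroup.mem_inf, MulAction.mem_stabilizer_iff, MulAction.mem_stabilizer_iff] at this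
      let φ : Option ↥(stabilizer G a ⊓ stabilizer G b) → T' := fun o =>
        match o with
        | none => 1
        | some g => ⟨(g : G) * u * (g : G)⁻¹, hT'inv g (hstab g).1 (hstab g).2 u hu⟩
      have hφ : Function.Injective φ := by
        intro o o' hoo
        cases o with
        | none =>
          cases o' with
          | none => rfl
          | some g' =>
            exfalso
            have h1 : (1 : G) = (g' : G) * u * (g' : G)⁻¹ := congrArg Subtype.val hoo
            exact Cfsg.Agent.Lib.Helper21.conj_ne_one hu1' h1.symm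
        | some g =>
          cases o' with
          | none =>
            exfalso
            have h1 : (g : G) * u * (g : G)⁻¹ = 1 := congrArg Subtype.val hoo
            exact Cfsg.Agent.Lib.Helper21.conj_ne_one hu1' h1
          | some g' =>
            have h1 : (g : G) * u * (g : G)⁻¹ = (g' : G) * u * (g' : G)⁻¹ :=
              congrArg Subtype.val hoo
            have h2 : (g' : G)⁻¹ * (g : G) = 1 := by
              apply ze_comm_trivial three hab (g := (g' : G)⁻¹ * (g : G)) (k := u) ?_ ?_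
                (hNfix u huN) hub ?_
              · rw [mul_smul, (hstab g).1]
                exact inv_smul_eq_iff.mpr (hstab g').1.symm
              · rw [mul_smul, (hstab g).2]
                exact inv_smul_eq_iff.mpr (hstab g').2.symm
              · calc (g' : G)⁻¹ * (g : G) * u * ((g' : G)⁻¹ * (g : G))⁻¹
                    = (g' : G)⁻¹ * ((g : G) * u * (g : G)⁻¹) * (g' : G) := by group
                  _ = (g' : G)⁻¹ * ((g' : G) * u * (g' : G)⁻¹) * (g' : G) := by rw [h1]
                  _ = u := by group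
            congr 1
            exact Subtype.ext (inv_mul_eq_one.mp h2).symm
      have hc1 := Nat.card_le_card_of_injective φ hφ
      rw [Finite.card_option] at hc1
      obtain ⟨j, hj⟩ := Subgroup.card_dvd_of_le hT'N
      have hT'pos : 0 < Nat.card T' := Nat.card_pos
      have hj0 : j ≠ 0 := by
        rintro rfl
        rw [mul_zero] at hj
        have : 0 < Nat.card N := Nat.card_pos
        omega
      by_cases hj1 : j = 1
      · rw [hj1, mul_one] at hj
        exact Subgroup.eq_of_le_of_card_ge hT'N (le_of_eq hj)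
      · exfalso
        have hj2 : 2 ≤ j := by omega
        have : 2 * Nat.card T' ≤ Nat.card N := by
          rw [hj, mul_comm]
          exact Nat.mul_le_mul_left _ hj2
        omega
  exact ⟨N, z, w, ⟨three, hab, hNfix, hNreg, hNtrans, hNnorm, hza, hzb, hzz, hzinv, hwa, hwb, hww,
    hwz', hwinvH, fun x hxa hxb => ⟨f x, hf x hxa hxb⟩, hirr⟩, hcardN, hcardH⟩

end Cfsg.Agent.Lib.Helper23
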