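import Mathlib
import Cfsg.Agent.Lib.Helper21.Zass4
import Cfsg.Agent.Lib.Helper23.ZassEvenA
import Cfsg.Agent.Lib.Helper23.ZassDegree
import Cfsg.Agent.S0738
import Cfsg.Agent.S0740

/-!
# Zassenhaus groups with two-point stabilizers of odd order `d`, `2 d = n - 1`: group structure

Given an involution `w` interchanging the two points and inverting the two-point stabilizer `H`,
the kernel `N` of a point stabilizer is abelian, `H` acts irreducibly on it, and no element of
the coset `H w` has a fixed point.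
-/

namespace Cfsg.Agent.Lib.Helper23

open Cfsg MulAction

universe u v

/-- The data extracted from a Zassenhaus group with `2 d = n - 1`, `d` odd. -/
structure ZOd (G : Type u) [Group G] (Ω : Type v) [MulAction G Ω] (a b : Ω) (N : Subgroup G)
    (w : G) : Prop where
  three : ∀ g : G, ∀ x y t : Ω, x ≠ y → y ≠ t → x ≠ t → g • x = x → g • y = y → g • t = t → g = 1
  hab : a ≠ b
  N_fix : ∀ k ∈ N, k • a = a
  N_reg : ∀ k ∈ N, k • b = b → k = 1
  N_trans : ∀ y : Ω, y ≠ a → ∃ k ∈ N, k • b = y
  N_norm : ∀ s : G, s • a = a → ∀ k ∈ N, s * k * s⁻¹ ∈ N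
  N_comm : ∀ x ∈ N, ∀ y ∈ N, x * y = y * x
  w_a : w • a = b
  w_b : w • b = a
  w_sq : w * w = 1
  w_inv : ∀ h : G, h • a = a → h • b = b → w * h * w⁻¹ = h⁻¹
  nofix : ∀ m : G, m • a = a → m • b = b → ∀ x : Ω, (m * w) • x ≠ x
  irr : ∀ T' : Subgroup G, T' ≤ N →
    (∀ h : G, h • a = a → h • b = b → ∀ t ∈ T', h * t * h⁻¹ ∈ T') → T' = ⊥ ∨ T' = N

theorem zass_odd_data {G : Type u} [Group G] [Finite G] {Ω : Type v} [MulAction G Ω] [Fintype Ω]
    (hZ : IsZassenhausGroup G Ω) {a b : Ω} (hab : a ≠ b)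
    (hodd : Odd (Nat.card ↥(stabilizer G a ⊓ stabilizer G b)))
    (hd : 2 * Nat.card ↥(stabilizer G a ⊓ stabilizer G b) + 2 = Fintype.card Ω)
    (hw : ∃ v : G, orderOf v = 2 ∧ v • a = b ∧ v • b = a ∧
      ∀ h ∈ stabilizer G a ⊓ stabilizer G b, v * h * v⁻¹ = h⁻¹) :
    ∃ (N : Subgroup G) (w : G), ZOd G Ω a b N w ∧ Nat.card N + 1 = Fintype.card Ω := by
  classical
  have three := hZ.2.2.1
  obtain ⟨N, hNle, hNn, hNreg', hNcard, hNfix'⟩ := zass_kernel_pack hZ a
  have hNfix : ∀ k ∈ N, k • a = a := fun k hk => mem_stabilizer_iff.mp (hNle hk)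
  have hNreg : ∀ k ∈ N, k • b = b → k = 1 := by
    intro k hk hkb
    by_contra hk1
    exact hab (hNfix' k hk hk1 b hkb).symm
  have hNtrans : ∀ y : Ω, y ≠ a → ∃ k ∈ N, k • b = y := by
    intro y hy
    obtain ⟨k, hk, -⟩ := hNreg' b y (Ne.symm hab) hy
    exact ⟨k, k.2, hk⟩
  have hNnorm : ∀ s : G, s • a = a → ∀ k ∈ N, s * k * s⁻¹ ∈ N := by
    intro s hs k hk
    have hs' : s ∈ stabilizer G a := mem_stabilizer_iff.mpr hs
    have h1 := hNn.conj_mem ⟨k, hNle hk⟩ (Subgroup.mem_subgroupOf.mpr hk) ⟨s, hs'⟩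
    exact Subgroup.mem_subgroupOf.mp h1
  obtain ⟨hcomm, -⟩ := Cfsg.Agent.S0738.result hZ hab (by omega) N hNle hNn hNreg'
  have hNcomm : ∀ x ∈ N, ∀ y ∈ N, x * y = y * x := by
    intro x hx y hy
    have h1 := hcomm.is_comm.comm (⟨x, hx⟩ : N) ⟨y, hy⟩
    exact congrArg Subtype.val h1
  obtain ⟨w, hw2, hwa, hwb, hwinv⟩ := hw
  have hww : w * w = 1 := by
    have h : w ^ 2 = 1 := by rw [← hw2]; exact pow_orderOf_eq_one w
    rwa [pow_two] at h
  have hwinv' : w⁻¹ = w := inv_eq_of_mul_eq_one_left hww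
  have hwinvH : ∀ m : G, m • a = a → m • b = b → w * m * w⁻¹ = m⁻¹ := by
    intro m hma hmb
    apply hwinv
    rw [Subgroup.mem_inf, mem_stabilizer_iff, mem_stabilizer_iff]
    exact ⟨hma, hmb⟩
  have hnofix : ∀ m : G, m • a = a → m • b = b → ∀ x : Ω, (m * w) • x ≠ x := by
    intro m hma hmb x hx
    have hta : (m * w) • a = b := by rw [mul_smul, hwa, hmb]
    have htb : (m * w) • b = a := by rw [mul_smul, hwb, hma]
    have htt : (m * w) * (m * w) = 1 := by
      have h1 := hwinvH m hma hmb
      rw [hwinv'] at h1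
      calc (m * w) * (m * w) = m * (w * m * w) := by group
        _ = 1 := by rw [h1, mul_inv_cancel]
    have ht1 : m * w ≠ 1 := by
      intro h1
      rw [h1, one_smul] at hta
      exact hab hta
    have : Fact (Nat.Prime 2) := ⟨Nat.prime_two⟩
    have ht2 : orderOf (m * w) = 2 := orderOf_eq_prime (by rw [pow_two]; exact htt) ht1
    have hev : Even (Fintype.card Ω) := ⟨Nat.card ↥(stabilizer G a ⊓ stabilizer G b) + 1, by omega⟩
    have h2 := ((Cfsg.Agent.S0740.result hZ hab).2.1 (m * w) ht2 hta htb).2 hev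
    have hxmem : x ∈ fixedBy Ω (m * w) := hx
    rcases h2 with h0 | h2
    · have : Nonempty (fixedBy Ω (m * w)) := ⟨⟨x, hxmem⟩⟩
      have := Nat.card_pos (α := fixedBy Ω (m * w))
      omega
    · obtain ⟨⟨p, hp⟩, ⟨q, hq⟩, hpq, -⟩ := Nat.card_eq_two_iff.mp h2
      have hpq' : p ≠ q := fun e => hpq (Subtype.ext e)
      exact hpq' (Cfsg.Agent.Lib.Helper21.zass_invol_fix_le_one hZ hab hodd ht2 hp hq)
  -- irreducibility
  have hirr : ∀ T' : Subgroup G, T' ≤ N →
      (∀ h : G, h • a = a → h • b = b → ∀ t ∈ T', h * t * h⁻¹ ∈ T') → T' = ⊥ ∨ T' = N := by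
    intro T' hT'N hT'inv
    by_cases hbot : T' = ⊥
    · exact Or.inl hbot
    · right
      obtain ⟨⟨u, hu⟩, hu1⟩ := (Subgroup.ne_bot_iff_exists_ne_one).mp hbot
      have hu1' : u ≠ 1 := fun h => hu1 (Subtype.ext h)
      have huN : u ∈ N := hT'N hu
      have hub : u • b ≠ b := fun h => hu1' (hNreg u huN h)
      have hstab : ∀ g : ↥(stabilizer G a ⊓ stabilizer G b), (g : G) • a = a ∧ (g : G) • b = b := by
        intro g
        have := g.2
        rwa [Subgroup.mem_inf, MulAction.mem_stabilizer_iff, MulAction.mem_stabilizer_iff] at this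
      let φ : Option ↥(stabilizer G a ⊓ stabilizer G b) → T' := fun o =>
        match o with
        | none => 1
        | some g => ⟨(g : G) * u * (g : G)⁻¹, hT'inv g (hstab g).1 (hstab g).2 u hu⟩
      have hφ : Function.Injective φ := by
        intro o o' hoo
        cases o with
        | none =>
          cases o' with
          | none => rfl
          | some g' =>
            exfalso
            have h1 : (1 : G) = (g' : G) * u * (g' : G)⁻¹ := congrArg Subtype.val hoo
            exact Cfsg.Agent.Lib.Helper21.conj_ne_one hu1' h1.symm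
        | some g =>
          cases o' with
          | none =>
            exfalso
            have h1 : (g : G) * u * (g : G)⁻¹ = 1 := congrArg Subtype.val hoo
            exact Cfsg.Agent.Lib.Helper21.conj_ne_one hu1' h1
          | some g' =>
            have h1 : (g : G) * u * (g : G)⁻¹ = (g' : G) * u * (g' : G)⁻¹ :=
              congrArg Subtype.val hoo
            have h2 : (g' : G)⁻¹ * (g : G) = 1 := by
              apply ze_comm_trivial three hab (g := (g' : G)⁻¹ * (g : G)) (k := u) ?_ ?_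
                (hNfix u huN) hub ?_
              · rw [mul_smul, (hstab g).1]
                exact inv_smul_eq_iff.mpr (hstab g').1.symm
              · rw [mul_smul, (hstab g).2]
                exact inv_smul_eq_iff.mpr (hstab g').2.symm
              · calc (g' : G)⁻¹ * (g : G) * u * ((g' : G)⁻¹ * (g : G))⁻¹
                    = (g' : G)⁻¹ * ((g : G) * u * (g : G)⁻¹) * (g' : G) := by group
                  _ = (g' : G)⁻¹ * ((g' : G) * u * (g' : G)⁻¹) * (g' : G) := by rw [h1]
                  _ = u := by group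
            congr 1
            exact Subtype.ext (inv_mul_eq_one.mp h2).symm
      have hc1 := Nat.card_le_card_of_injective φ hφ
      rw [Finite.card_option] at hc1
      obtain ⟨j, hj⟩ := Subgroup.card_dvd_of_le hT'N
      have hT'pos : 0 < Nat.card T' := Nat.card_pos
      have hj0 : j ≠ 0 := by
        rintro rfl
        rw [mul_zero] at hj
        have : 0 < Nat.card N := Nat.card_pos
        omega
      by_cases hj1 : j = 1
      · rw [hj1, mul_one] at hj
        exact Subgroup.eq_of_le_of_card_ge hT'N (le_of_eq hj)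
      · exfalso
        have hj2 : 2 ≤ j := by omega
        have : 2 * Nat.card T' ≤ Nat.card N := by
          rw [hj, mul_comm]
          exact Nat.mul_le_mul_left _ hj2
        omega
  exact ⟨N, w, ⟨three, hab, hNfix, hNreg, hNtrans, hNnorm, hNcomm, hwa, hwb, hww, hwinvH,
    hnofix, hirr⟩, hNcard⟩

end Cfsg.Agent.Lib.Helper23
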