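import Mathlib
import Cfsg.Agent.Lib.Helper23.ZassEvenA

/-!
# Sharply triply transitive Zassenhaus groups of even degree are not simple (conditionally)

If the two-point stabilizer `H` of a sharply triply transitive Zassenhaus group of even degree has
a normal subgroup `H₁` of index 2 normalized by an involution `s` interchanging the two points and
fixing a third one, then `N H₁ ∪ N w N H₁` (`N` the kernel of a point stabilizer, `w = s` or
`w = z s`) is a proper subgroup containing the normal closure of `N`.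
-/

namespace Cfsg.Agent.Lib.Helper23

open Cfsg MulAction

universe u v

set_option linter.unusedSimpArgs false

/-- The kernel `N` of a point stabilizer and the involution `z` of the two-point stabilizer. -/
theorem zass_even_kernel {G : Type u} [Group G] [Finite G] {Ω : Type v} [MulAction G Ω]
    [Fintype Ω] (hZ : IsZassenhausGroup G Ω) {a b : Ω} (hab : a ≠ b)
    (heven : Even (Nat.card ↥(stabilizer G a ⊓ stabilizer G b))) :
    ∃ (N : Subgroup G) (z : G),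
      (∀ k ∈ N, k • a = a) ∧ (∀ k ∈ N, k • b = b → k = 1) ∧
      (∀ y : Ω, y ≠ a → ∃ k ∈ N, k • b = y) ∧
      (∀ s : G, s • a = a → ∀ k ∈ N, s * k * s⁻¹ ∈ N) ∧
      z • a = a ∧ z • b = b ∧ z * z = 1 ∧ z ≠ 1 ∧ (∀ k ∈ N, z * k * z⁻¹ = k⁻¹) ∧
      (∀ t : G, t • a = a → t • b = b → t * t = 1 → t ≠ 1 → t = z) := by
  classical
  have three := hZ.2.2.1
  obtain ⟨N, hNmem, hNtr, -⟩ := (Cfsg.Agent.Lib.Helper9.zdata_of_zassenhaus hZ).exists_kernel a
  have hNfix : ∀ k ∈ N, k • a = a := fun k hk => ((hNmem k).mp hk).1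
  have hNsemi : ∀ k ∈ N, ∀ y : Ω, y ≠ a → k • y = y → k = 1 := by
    intro k hk y hy hky
    rcases ((hNmem k).mp hk).2 with h | h
    · exact h
    · exact absurd hky (h y hy)
  have hNreg : ∀ k ∈ N, k • b = b → k = 1 := fun k hk h => hNsemi k hk b (Ne.symm hab) h
  have hNtrans : ∀ y : Ω, y ≠ a → ∃ k ∈ N, k • b = y := fun y hy => hNtr b y (Ne.symm hab) hy
  have hNnorm : ∀ s : G, s • a = a → ∀ k ∈ N, s * k * s⁻¹ ∈ N := by
    intro s hs k hk
    have hsinv : s⁻¹ • a = a := inv_smul_eq_iff.mpr hs.symm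
    rw [hNmem]
    refine ⟨by rw [mul_smul, mul_smul, hsinv, hNfix k hk, hs], ?_⟩
    by_cases hk1 : k = 1
    · left
      rw [hk1]
      group
    · right
      intro ω hω hfix
      apply hk1
      apply hNsemi k hk (s⁻¹ • ω)
      · intro h
        apply hω
        rw [← hs, ← h, smul_inv_smul]
      · rw [mul_smul, mul_smul] at hfix
        exact eq_inv_smul_iff.mpr hfix
  have := Fintype.ofFinite G
  have : Fact (Nat.Prime 2) := ⟨Nat.prime_two⟩
  obtain ⟨z', hz'⟩ := exists_prime_orderOf_dvd_card' 2 (even_iff_two_dvd.mp heven)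
  have hzmem := z'.2
  rw [Subgroup.mem_inf, MulAction.mem_stabilizer_iff, MulAction.mem_stabilizer_iff] at hzmem
  obtain ⟨z, hzdef⟩ : ∃ z : G, z = (z' : G) := ⟨_, rfl⟩
  rw [← hzdef] at hzmem
  obtain ⟨hza, hzb⟩ := hzmem
  have hzz : z * z = 1 := by
    have h : z' ^ 2 = 1 := by rw [← hz']; exact pow_orderOf_eq_one z'
    have := congrArg Subtype.val h
    rw [pow_two] at this
    rw [hzdef]
    exact_mod_cast this
  have hz1 : z ≠ 1 := by
    intro h
    have : z' = 1 := Subtype.ext (hzdef ▸ h)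
    rw [this, orderOf_one] at hz'
    omega
  have hINV : ∀ t : G, t • a = a → t • b = b → t * t = 1 → t ≠ 1 →
      ∀ k ∈ N, t * k * t⁻¹ = k⁻¹ := by
    intro t hta htb htt ht1
    apply inverts_of_fpf N t htt (fun k hk => hNnorm t hta k hk)
    intro k hk hcomm
    by_contra hk1
    apply ht1
    exact ze_comm_trivial three hab hta htb (hNfix k hk) (fun h => hk1 (hNreg k hk h)) hcomm
  obtain ⟨c, hca, hcb⟩ := Cfsg.Agent.Lib.Helper21.zass_exists_third hZ hab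
  obtain ⟨ε, hεN, hεb⟩ := hNtrans c hca
  have hεb' : ε • b ≠ b := by rw [hεb]; exact hcb
  have hU : ∀ t t' : G, t • a = a → t • b = b → t' • a = a → t' • b = b →
      (∀ k ∈ N, t * k * t⁻¹ = k⁻¹) → (∀ k ∈ N, t' * k * t'⁻¹ = k⁻¹) → t = t' := by
    intro t t' hta htb ht'a ht'b hinv hinv'
    have h1 : t'⁻¹ * t = 1 := by
      apply ze_comm_trivial three hab (g := t'⁻¹ * t) (k := ε) ?_ ?_ (hNfix ε hεN) hεb' ?_
      · rw [mul_smul, hta]
        exact inv_smul_eq_iff.mpr ht'a.symm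
      · rw [mul_smul, htb]
        exact inv_smul_eq_iff.mpr ht'b.symm
      · have e1 := hinv ε hεN
        have e2 := hinv' ε hεN
        calc t'⁻¹ * t * ε * (t'⁻¹ * t)⁻¹ = t'⁻¹ * (t * ε * t⁻¹) * t' := by group
          _ = t'⁻¹ * ε⁻¹ * t' := by rw [e1]
          _ = t'⁻¹ * (t' * ε * t'⁻¹) * t' := by rw [e2]
          _ = ε := by group
    exact (inv_mul_eq_one.mp h1).symm
  have hzinv : ∀ k ∈ N, z * k * z⁻¹ = k⁻¹ := hINV z hza hzb hzz hz1
  exact ⟨N, z, hNfix, hNreg, hNtrans, hNnorm, hza, hzb, hzz, hz1, hzinv,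
    fun t hta htb htt ht1 => hU t z hta htb hza hzb (hINV t hta htb htt ht1) hzinv⟩

/-- The basic relation: `u w v⁻¹ w u w z` fixes `a`, `b` and, multiplied by `w`, the point
`u • b`. -/
theorem ze_key_explicit {G : Type u} [Group G] {Ω : Type v} [MulAction G Ω] {a b x : Ω}
    {N : Subgroup G} (hNfix : ∀ k ∈ N, k • a = a) {z w : G} (hza : z • a = a) (hzb : z • b = b)
    (hzinv : ∀ k ∈ N, z * k * z⁻¹ = k⁻¹) (hwa : w • a = b) (hwb : w • b = a) (hww : w * w = 1)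
    (hwz' : w * z = z * w) {u v : G} (hu : u ∈ N) (hv : v ∈ N) (hux : u • b = x)
    (hvy : v • b = w • x) :
    (u * w * v⁻¹ * w * u * w * z) • a = a ∧ (u * w * v⁻¹ * w * u * w * z) • b = b ∧
      (u * w * v⁻¹ * w * u * w * z * w) • x = x := by
  have hwz : ∀ y : Ω, w • (z • y) = z • (w • y) := by
    intro y
    rw [← mul_smul, ← mul_smul, hwz']
  have hzpt : ∀ u ∈ N, u⁻¹ • b = z • (u • b) := by
    intro u hu
    have h1 := hzinv u hu
    rw [← h1, mul_smul, mul_smul, inv_smul_eq_iff.mpr hzb.symm]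
  have hua := hNfix u hu
  have hva := hNfix v hv
  have hvinva : v⁻¹ • a = a := inv_smul_eq_iff.mpr hva.symm
  have hzx : z • x = u⁻¹ • b := by rw [hzpt u hu, hux]
  have hzy : z • (w • x) = v⁻¹ • b := by rw [hzpt v hv, hvy]
  refine ⟨?_, ?_, ?_⟩
  · simp only [mul_smul]
    rw [hza, hwa, hux, ← hvy, inv_smul_smul, hwb, hua]
  · simp only [mul_smul]
    rw [hzb, hwb, hua, hwa, ← hzy, hwz, ← mul_smul w w, hww, one_smul, hzx, smul_inv_smul]
  · simp only [mul_smul]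
    rw [hwz, ← mul_smul w w, hww, one_smul, hzx, smul_inv_smul, hwb, hvinva, hwa, hux]

theorem sharp3_not_simple_aux {G : Type u} [Group G] [Finite G] {Ω : Type v} [MulAction G Ω]
    [Fintype Ω] (hZ : IsZassenhausGroup G Ω) {a b c : Ω} (hab : a ≠ b) (hca : c ≠ a)
    (hcb : c ≠ b) (heven : Even (Nat.card ↥(stabilizer G a ⊓ stabilizer G b)))
    (htr : ∀ x : Ω, x ≠ a → x ≠ b → ∃ g : G, g • a = a ∧ g • b = b ∧ g • c = x)
    (s : G) (hsa : s • a = b) (hsb : s • b = a) (hsc : s • c = c)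
    (H₁ : Subgroup G) (hH₁le : ∀ k ∈ H₁, k • a = a ∧ k • b = b)
    (hH₁n : ∀ h : G, h • a = a → h • b = b → ∀ k ∈ H₁, h * k * h⁻¹ ∈ H₁)
    (hH₁2 : ∀ h h' : G, h • a = a → h • b = b → h' • a = a → h' • b = b → h ∉ H₁ → h' ∉ H₁ →
      h * h'⁻¹ ∈ H₁)
    (hH₁ne : ∃ h₀ : G, h₀ • a = a ∧ h₀ • b = b ∧ h₀ ∉ H₁)
    (hH₁s : ∀ k ∈ H₁, s * k * s⁻¹ ∈ H₁) :
    ∃ M : Subgroup G, M.Normal ∧ M ≠ ⊥ ∧ M ≠ ⊤ := by
  classical
  have three := hZ.2.2.1
  obtain ⟨N, z, hNfix, hNreg, hNtrans, hNnorm, hza, hzb, hzz, hz1, hzinv, hzuniq⟩ :=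
    zass_even_kernel hZ hab heven
  have hzinv' : z⁻¹ = z := inv_eq_of_mul_eq_one_left hzz
  have hss : s * s = 1 := by
    apply three _ a b c hab (Ne.symm hcb) (Ne.symm hca)
    · rw [mul_smul, hsa, hsb]
    · rw [mul_smul, hsb, hsa]
    · rw [mul_smul, hsc, hsc]
  have hsinv : s⁻¹ = s := inv_eq_of_mul_eq_one_left hss
  have hsz : s * z = z * s := by
    have hta : (s * z * s⁻¹) • a = a := by rw [hsinv, mul_smul, mul_smul, hsa, hzb, hsb]
    have htb : (s * z * s⁻¹) • b = b := by rw [hsinv, mul_smul, mul_smul, hsb, hza, hsa]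
    have htt : (s * z * s⁻¹) * (s * z * s⁻¹) = 1 := by
      have : (s * z * s⁻¹) * (s * z * s⁻¹) = s * (z * z) * s⁻¹ := by group
      rw [this, hzz, mul_one, mul_inv_cancel]
    have ht1 : s * z * s⁻¹ ≠ 1 := Cfsg.Agent.Lib.Helper21.conj_ne_one hz1
    exact mul_inv_eq_iff_eq_mul.mp (hzuniq _ hta htb htt ht1)
  -- commutators with `s` lie in `H₁`
  have hcomm : ∀ g : G, g • a = a → g • b = b → g * (s * g * s⁻¹)⁻¹ ∈ H₁ := by
    intro g hga hgb
    have hσa : (s * g * s⁻¹) • a = a := by rw [hsinv, mul_smul, mul_smul, hsa, hgb, hsb]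
    have hσb : (s * g * s⁻¹) • b = b := by rw [hsinv, mul_smul, mul_smul, hsb, hga, hsa]
    by_cases hg : g ∈ H₁
    · exact H₁.mul_mem hg (H₁.inv_mem (hH₁s g hg))
    · apply hH₁2 g (s * g * s⁻¹) hga hgb hσa hσb hg
      intro hσ
      apply hg
      have h1 := hH₁s _ hσ
      have e : s * (s * g * s⁻¹) * s⁻¹ = (s * s) * g * (s * s)⁻¹ := by group
      rwa [e, hss, one_mul, inv_one, mul_one] at h1
  -- the relation
  have hrel : ∀ u ∈ N, u ≠ 1 → ∃ v ∈ N, ∃ m ∈ H₁, u * s * v⁻¹ * s * u * s * z = m := by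
    intro u hu hu1
    have hxb : u • b ≠ b := fun h => hu1 (hNreg u hu h)
    have hxa : u • b ≠ a := fun h => hab (MulAction.injective u ((hNfix u hu).trans h.symm))
    have hya : s • (u • b) ≠ a := by
      intro h
      exact hxb (MulAction.injective s (h.trans hsb.symm))
    obtain ⟨v, hv, hvy⟩ := hNtrans _ hya
    obtain ⟨hma, hmb, hmx⟩ := ze_key_explicit hNfix hza hzb hzinv hsa hsb hss hsz hu hv rfl hvy
    refine ⟨v, hv, _, ?_, rfl⟩
    obtain ⟨g, hga, hgb, hgc⟩ := htr (u • b) hxa hxb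
    obtain ⟨m, hm⟩ : ∃ m : G, m = u * s * v⁻¹ * s * u * s * z := ⟨_, rfl⟩
    rw [← hm] at hma hmb hmx ⊢
    rw [mul_smul] at hmx
    have hginva : g⁻¹ • a = a := inv_smul_eq_iff.mpr hga.symm
    have hginvb : g⁻¹ • b = b := inv_smul_eq_iff.mpr hgb.symm
    have h2 : g⁻¹ * m * (s * g * s⁻¹) = 1 := by
      apply three _ a b c hab (Ne.symm hcb) (Ne.symm hca)
      · simp only [mul_smul]
        rw [hsinv, hsa, hgb, hsb, hma, hginva]
      · simp only [mul_smul]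
        rw [hsinv, hsb, hga, hsa, hmb, hginvb]
      · simp only [mul_smul]
        rw [hsinv, hsc, hgc, hmx, ← hgc, inv_smul_smul]
    have h3 : m = g * (s * g * s⁻¹)⁻¹ := by
      have e : m = g * (g⁻¹ * m * (s * g * s⁻¹)) * (s * g * s⁻¹)⁻¹ := by group
      rw [e, h2, mul_one]
    rw [h3]
    exact hcomm g hga hgb
  -- the element `w₁`
  obtain ⟨w₁, hw₁a, hw₁b, hw₁w₁, hw₁H, hw₁rel⟩ : ∃ w₁ : G, w₁ • a = b ∧ w₁ • b = a ∧
      w₁ * w₁ = 1 ∧ (∀ k ∈ H₁, w₁ * k * w₁ ∈ H₁) ∧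
      (∀ u ∈ N, u ≠ 1 → ∃ n₁ ∈ N, ∃ n₂ ∈ N, ∃ k ∈ H₁, w₁ * u * w₁ = n₁ * w₁ * n₂ * k) := by
    by_cases hzH : z ∈ H₁
    · refine ⟨s, hsa, hsb, hss, ?_, ?_⟩
      · intro k hk
        have := hH₁s k hk
        rwa [hsinv] at this
      · intro u hu hu1
        obtain ⟨v, hv, m, hm, hum⟩ := hrel u hu hu1
        refine ⟨v, hv, u⁻¹, N.inv_mem hu, m * z, H₁.mul_mem hm hzH, ?_⟩
        rw [← hum]
        have e : v * s * u⁻¹ * (u * s * v⁻¹ * s * u * s * z * z) =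
            v * (s * s) * v⁻¹ * (s * u * s) * (z * z) := by group
        rw [e, hss, hzz]
        simp only [mul_one, mul_inv_cancel, one_mul]
    · refine ⟨z * s, ?_, ?_, ?_, ?_, ?_⟩
      · rw [mul_smul, hsa, hzb]
      · rw [mul_smul, hsb, hza]
      · have e : z * s * (z * s) = z * (s * z) * s := by group
        rw [e, hsz]
        have e2 : z * (z * s) * s = (z * z) * (s * s) := by group
        rw [e2, hzz, hss, one_mul]
      · intro k hk
        have h1 := hH₁n z hza hzb _ (hH₁s k hk)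
        rw [hsinv, hzinv'] at h1
        have e : z * s * k * (z * s) = z * (s * k * s) * z := by
          calc z * s * k * (z * s) = z * s * k * (s * z) := by rw [hsz]
            _ = z * (s * k * s) * z := by group
        rw [e]
        exact h1
      · intro u hu hu1
        obtain ⟨v, hv, m, hm, hum⟩ := hrel u hu hu1
        refine ⟨v⁻¹, N.inv_mem hv, u⁻¹, N.inv_mem hu, m, hm, ?_⟩
        rw [← hum]
        have hzv : z * v⁻¹ = v * z := by
          have h := hzinv v hv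
          rw [← h]
          have e : z * (z * v * z⁻¹) = (z * z) * v * z⁻¹ := by group
          rw [e, hzz, one_mul, hzinv']
        calc z * s * u * (z * s) = z * s * u * (s * z) := by rw [hsz]
          _ = v⁻¹ * (v * z) * (s * u * s * z) := by group
          _ = v⁻¹ * (z * v⁻¹) * (s * u * s * z) := by rw [hzv]
          _ = v⁻¹ * z * (s * s) * v⁻¹ * s * u * s * z := by rw [hss]; group
          _ = v⁻¹ * (z * s) * u⁻¹ * (u * s * v⁻¹ * s * u * s * z) := by group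
  have hH₁N : ∀ k ∈ H₁, ∀ n ∈ N, k * n * k⁻¹ ∈ N :=
    fun k hk n hn => hNnorm k (hH₁le k hk).1 n hn
  have hw₁inv : w₁⁻¹ = w₁ := inv_eq_of_mul_eq_one_left hw₁w₁
  have hw' : ∀ y : G, w₁ * (w₁ * y) = y := fun y => by rw [← mul_assoc, hw₁w₁, one_mul]
  -- the subgroup `N H₁ ∪ N w₁ N H₁`
  let G₁ : Subgroup G :=
    { carrier := {g | (∃ n ∈ N, ∃ k ∈ H₁, g = n * k) ∨
        (∃ n ∈ N, ∃ n' ∈ N, ∃ k ∈ H₁, g = n * w₁ * n' * k)}
      one_mem' := Or.inl ⟨1, N.one_mem, 1, H₁.one_mem, (mul_one 1).symm⟩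
      mul_mem' := by
        rintro x y (⟨n, hn, k, hk, rfl⟩ | ⟨n, hn, n', hn', k, hk, rfl⟩)
          (⟨m, hm, l, hl, rfl⟩ | ⟨m, hm, m', hm', l, hl, rfl⟩)
        · exact Or.inl ⟨n * (k * m * k⁻¹), N.mul_mem hn (hH₁N k hk m hm), k * l,
            H₁.mul_mem hk hl, by group⟩
        · refine Or.inr ⟨n * (k * m * k⁻¹), N.mul_mem hn (hH₁N k hk m hm),
            (w₁ * k * w₁) * m' * (w₁ * k * w₁)⁻¹, hH₁N _ (hw₁H k hk) m' hm',
            (w₁ * k * w₁) * l, H₁.mul_mem (hw₁H k hk) hl, ?_⟩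
          simp only [mul_assoc, mul_inv_rev, inv_inv, hw₁inv, hw', hw₁w₁, inv_mul_cancel_left,
            mul_inv_cancel_left, mul_inv_cancel, inv_mul_cancel, mul_one, one_mul]
        · exact Or.inr ⟨n, hn, n' * (k * m * k⁻¹), N.mul_mem hn' (hH₁N k hk m hm), k * l,
            H₁.mul_mem hk hl, by group⟩
        · by_cases hμ : n' * (k * m * k⁻¹) = 1
          · refine Or.inl ⟨n * ((w₁ * k * w₁) * m' * (w₁ * k * w₁)⁻¹),
              N.mul_mem hn (hH₁N _ (hw₁H k hk) m' hm'), (w₁ * k * w₁) * l,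
              H₁.mul_mem (hw₁H k hk) hl, ?_⟩
            have e : n * w₁ * n' * k * (m * w₁ * m' * l) =
                n * w₁ * (n' * (k * m * k⁻¹)) * k * w₁ * m' * l := by group
            rw [e, hμ]
            simp only [mul_assoc, mul_inv_rev, inv_inv, hw₁inv, hw', hw₁w₁, inv_mul_cancel_left,
              mul_inv_cancel_left, mul_inv_cancel, inv_mul_cancel, mul_one, one_mul]
          · obtain ⟨n₁, hn₁, n₂, hn₂, k₂, hk₂, hrel'⟩ :=
              hw₁rel _ (N.mul_mem hn' (hH₁N k hk m hm)) hμ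
            refine Or.inr ⟨n * n₁, N.mul_mem hn hn₁,
              n₂ * ((k₂ * (w₁ * k * w₁)) * m' * (k₂ * (w₁ * k * w₁))⁻¹),
              N.mul_mem hn₂ (hH₁N _ (H₁.mul_mem hk₂ (hw₁H k hk)) m' hm'),
              k₂ * (w₁ * k * w₁) * l, H₁.mul_mem (H₁.mul_mem hk₂ (hw₁H k hk)) hl, ?_⟩
            have e : n * w₁ * n' * k * (m * w₁ * m' * l) =
                n * (w₁ * (n' * (k * m * k⁻¹)) * w₁) * (w₁ * k * w₁) * m' * l := by
              simp only [mul_assoc, mul_inv_rev, inv_inv, hw₁inv, hw', hw₁w₁,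
                inv_mul_cancel_left, mul_inv_cancel_left, mul_inv_cancel, inv_mul_cancel, mul_one,
                one_mul]
            rw [e, hrel']
            simp only [mul_assoc, mul_inv_rev, inv_inv, hw₁inv, hw', hw₁w₁, inv_mul_cancel_left,
              mul_inv_cancel_left, mul_inv_cancel, inv_mul_cancel, mul_one, one_mul]
      inv_mem' := by
        rintro x (⟨n, hn, k, hk, rfl⟩ | ⟨n, hn, n', hn', k, hk, rfl⟩)
        · exact Or.inl ⟨k⁻¹ * n⁻¹ * k⁻¹⁻¹, hH₁N _ (H₁.inv_mem hk) _ (N.inv_mem hn), k⁻¹,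
            H₁.inv_mem hk, by group⟩
        · refine Or.inr ⟨k⁻¹ * n'⁻¹ * k⁻¹⁻¹, hH₁N _ (H₁.inv_mem hk) _ (N.inv_mem hn'),
            (w₁ * k⁻¹ * w₁) * n⁻¹ * (w₁ * k⁻¹ * w₁)⁻¹,
            hH₁N _ (hw₁H _ (H₁.inv_mem hk)) _ (N.inv_mem hn), w₁ * k⁻¹ * w₁,
            hw₁H _ (H₁.inv_mem hk), ?_⟩
          simp only [mul_assoc, mul_inv_rev, inv_inv, hw₁inv, hw', hw₁w₁, inv_mul_cancel_left,
            mul_inv_cancel_left, mul_inv_cancel, inv_mul_cancel, mul_one, one_mul] }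
  have hG₁mem : ∀ g : G, g ∈ G₁ ↔ ((∃ n ∈ N, ∃ k ∈ H₁, g = n * k) ∨
      (∃ n ∈ N, ∃ n' ∈ N, ∃ k ∈ H₁, g = n * w₁ * n' * k)) := fun g => Iff.rfl
  have hNG₁ : N ≤ G₁ := fun n hn =>
    (hG₁mem n).mpr (Or.inl ⟨n, hn, 1, H₁.one_mem, (mul_one n).symm⟩)
  have hw₁G₁ : w₁ ∈ G₁ :=
    (hG₁mem w₁).mpr (Or.inr ⟨1, N.one_mem, 1, N.one_mem, 1, H₁.one_mem, by group⟩)
  -- Bruhat decomposition
  have hbr1 : ∀ g : G, g • a = a → ∃ n ∈ N, ∃ h : G, h • a = a ∧ h • b = b ∧ g = n * h := by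
    intro g hga
    have hgb : g • b ≠ a := fun h => hab (MulAction.injective g (hga.trans h.symm))
    obtain ⟨n, hn, hnb⟩ := hNtrans (g • b) hgb
    refine ⟨n, hn, n⁻¹ * g, ?_, ?_, by group⟩
    · rw [mul_smul, hga]
      exact inv_smul_eq_iff.mpr (hNfix n hn).symm
    · rw [mul_smul, ← hnb, inv_smul_smul]
  have hbr : ∀ g : G, (∃ n ∈ N, ∃ h : G, h • a = a ∧ h • b = b ∧ g = n * h) ∨
      (∃ n ∈ N, ∃ n' ∈ N, ∃ h : G, h • a = a ∧ h • b = b ∧ g = n * w₁ * n' * h) := by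
    intro g
    by_cases hga : g • a = a
    · exact Or.inl (hbr1 g hga)
    · right
      obtain ⟨n, hn, hnb⟩ := hNtrans (g • a) hga
      have h1 : (w₁ * n⁻¹ * g) • a = a := by
        rw [mul_smul, mul_smul, ← hnb, inv_smul_smul, hw₁b]
      obtain ⟨n', hn', h, hha, hhb, hg'⟩ := hbr1 _ h1
      refine ⟨n, hn, n', hn', h, hha, hhb, ?_⟩
      calc g = n * w₁ * (w₁ * n⁻¹ * g) := by
            simp only [mul_assoc, hw', mul_inv_cancel_left]
        _ = n * w₁ * (n' * h) := by rw [hg']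
        _ = n * w₁ * n' * h := by group
  obtain ⟨h₀, hh₀a, hh₀b, hh₀⟩ := hH₁ne
  have hh₀G₁ : h₀ ∉ G₁ := by
    rw [hG₁mem]
    rintro (⟨n, hn, k, hk, he⟩ | ⟨n, hn, n', hn', k, hk, he⟩)
    · have hnb : n • b = b := by
        have e : n = h₀ * k⁻¹ := by rw [he]; group
        rw [e, mul_smul, inv_smul_eq_iff.mpr (hH₁le k hk).2.symm, hh₀b]
      have hn1 := hNreg n hn hnb
      rw [hn1, one_mul] at he
      exact hh₀ (he ▸ hk)
    · have h1 : h₀ • a = n • b := by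
        rw [he]
        simp only [mul_smul]
        rw [(hH₁le k hk).1, hNfix n' hn', hw₁a]
      rw [hh₀a] at h1
      exact hab (MulAction.injective n ((hNfix n hn).trans h1))
  refine ⟨Subgroup.normalClosure (N : Set G), Subgroup.normalClosure_normal, ?_, ?_⟩
  · obtain ⟨ε, hεN, hεc⟩ := hNtrans c hca
    intro hbot
    have h1 : ε ∈ Subgroup.normalClosure (N : Set G) := Subgroup.subset_normalClosure hεN
    rw [hbot, Subgroup.mem_bot] at h1
    rw [h1, one_smul] at hεc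
    exact hcb hεc.symm
  · intro htop
    have hle : Subgroup.normalClosure (N : Set G) ≤ G₁ := by
      rw [Subgroup.normalClosure, Subgroup.closure_le]
      intro x hx
      rw [Group.mem_conjugatesOfSet_iff] at hx
      obtain ⟨n, hn, hconj⟩ := hx
      obtain ⟨g, rfl⟩ := isConj_iff.mp hconj
      rcases hbr g with ⟨n₀, hn₀, h, hha, hhb, rfl⟩ | ⟨n₀, hn₀, n₁, hn₁, h, hha, hhb, rfl⟩
      · apply hNG₁
        have e : n₀ * h * n * (n₀ * h)⁻¹ = n₀ * (h * n * h⁻¹) * n₀⁻¹ := by group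
        rw [e]
        exact N.mul_mem (N.mul_mem hn₀ (hNnorm h hha n hn)) (N.inv_mem hn₀)
      · have e : n₀ * w₁ * n₁ * h * n * (n₀ * w₁ * n₁ * h)⁻¹ =
            n₀ * w₁ * (n₁ * (h * n * h⁻¹) * n₁⁻¹) * w₁⁻¹ * n₀⁻¹ := by group
        rw [e]
        exact G₁.mul_mem (G₁.mul_mem (G₁.mul_mem (G₁.mul_mem (hNG₁ hn₀) hw₁G₁)
          (hNG₁ (N.mul_mem (N.mul_mem hn₁ (hNnorm h hha n hn)) (N.inv_mem hn₁))))
          (G₁.inv_mem hw₁G₁)) (G₁.inv_mem (hNG₁ hn₀))
    have h1 : h₀ ∈ G₁ := hle (by rw [htop]; exact Subgroup.mem_top h₀)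
    exact hh₀G₁ h1

end Cfsg.Agent.Lib.Helper23
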