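import Mathlib
import Cfsg.Agent.Lib.Helper23.ZassSharp3A

/-!
# Sharply triply transitive Zassenhaus groups of even degree are not simple (conditionally), II

Transport between an abstract Zassenhaus group and its image in `Equiv.Perm Ω`, so that the
statement "the two-point stabilizer of a sharply triply transitive group of even degree has an
index-2 normal subgroup normalized by `s`" (S0729) can be plugged in as a hypothesis.
-/

namespace Cfsg.Agent.Lib.Helper23

open Cfsg MulAction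

universe u v

theorem zass_sharp_trans {G : Type u} [Group G] [Finite G] {Ω : Type v} [MulAction G Ω]
    [Fintype Ω] (hZ : IsZassenhausGroup G Ω) {a b c : Ω} (hab : a ≠ b) (hca : c ≠ a)
    (hcb : c ≠ b)
    (hsharp : Nat.card ↥(stabilizer G a ⊓ stabilizer G b) = Fintype.card Ω - 2) :
    ∀ x : Ω, x ≠ a → x ≠ b → ∃ g : G, g • a = a ∧ g • b = b ∧ g • c = x := by
  classical
  have three := hZ.2.2.1
  have hmem : ∀ g : ↥(stabilizer G a ⊓ stabilizer G b), (g : G) • a = a ∧ (g : G) • b = b := by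
    intro g
    have := g.2
    rwa [Subgroup.mem_inf, mem_stabilizer_iff, mem_stabilizer_iff] at this
  let f : ↥(stabilizer G a ⊓ stabilizer G b) → {x : Ω // x ≠ a ∧ x ≠ b} := fun g =>
    ⟨(g : G) • c, fun h => hca (MulAction.injective (g : G) (h.trans (hmem g).1.symm)),
      fun h => hcb (MulAction.injective (g : G) (h.trans (hmem g).2.symm))⟩
  have hf : Function.Injective f := by
    intro g g' h
    have h1 : (g : G) • c = (g' : G) • c := congrArg Subtype.val h
    have h2 : (g' : G)⁻¹ * (g : G) = 1 := by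
      apply three _ a b c hab (Ne.symm hcb) (Ne.symm hca)
      · rw [mul_smul, (hmem g).1]
        exact inv_smul_eq_iff.mpr (hmem g').1.symm
      · rw [mul_smul, (hmem g).2]
        exact inv_smul_eq_iff.mpr (hmem g').2.symm
      · rw [mul_smul, h1, inv_smul_smul]
    exact Subtype.ext (inv_mul_eq_one.mp h2).symm
  have hbij : Function.Bijective f := by
    apply Function.Injective.bijective_of_nat_card_le hf
    rw [hsharp, Nat.card_eq_fintype_card, Sharp3.card_ne_two hab]
  intro x hxa hxb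
  obtain ⟨g, hg⟩ := hbij.2 ⟨x, hxa, hxb⟩
  exact ⟨g, (hmem g).1, (hmem g).2, congrArg Subtype.val hg⟩

theorem zass_sharp_three_trans {G : Type u} [Group G] [Finite G] {Ω : Type v} [MulAction G Ω]
    [Fintype Ω] (hZ : IsZassenhausGroup G Ω) {a b : Ω} (hab : a ≠ b)
    (hsharp : Nat.card ↥(stabilizer G a ⊓ stabilizer G b) = Fintype.card Ω - 2) :
    ∀ x₀ x₁ x₂ y₀ y₁ y₂ : Ω, x₀ ≠ x₁ → x₀ ≠ x₂ → x₁ ≠ x₂ → y₀ ≠ y₁ → y₀ ≠ y₂ → y₁ ≠ y₂ →
      ∃ g : G, g • x₀ = y₀ ∧ g • x₁ = y₁ ∧ g • x₂ = y₂ := by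
  intro x₀ x₁ x₂ y₀ y₁ y₂ hx01 hx02 hx12 hy01 hy02 hy12
  obtain ⟨c, hca, hcb⟩ := Cfsg.Agent.Lib.Helper21.zass_exists_third hZ hab
  have htr := zass_sharp_trans hZ hab hca hcb hsharp
  obtain ⟨g₁, hg₁a, hg₁b⟩ := Cfsg.Agent.Lib.Helper21.zass_two_trans hZ hx01 hab
  obtain ⟨g₂, hg₂a, hg₂b⟩ := Cfsg.Agent.Lib.Helper21.zass_two_trans hZ hy01 hab
  have h1a : g₁ • x₂ ≠ a := fun h => hx02 (MulAction.injective g₁ (hg₁a.trans h.symm))
  have h1b : g₁ • x₂ ≠ b := fun h => hx12 (MulAction.injective g₁ (hg₁b.trans h.symm))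
  have h2a : g₂ • y₂ ≠ a := fun h => hy02 (MulAction.injective g₂ (hg₂a.trans h.symm))
  have h2b : g₂ • y₂ ≠ b := fun h => hy12 (MulAction.injective g₂ (hg₂b.trans h.symm))
  obtain ⟨h, hha, hhb, hhc⟩ := htr _ h1a h1b
  obtain ⟨h', hh'a, hh'b, hh'c⟩ := htr _ h2a h2b
  refine ⟨g₂⁻¹ * h' * h⁻¹ * g₁, ?_, ?_, ?_⟩
  · simp only [mul_smul]
    rw [hg₁a, inv_smul_eq_iff.mpr hha.symm, hh'a, ← hg₂a, inv_smul_smul]
  · simp only [mul_smul]
    rw [hg₁b, inv_smul_eq_iff.mpr hhb.symm, hh'b, ← hg₂b, inv_smul_smul]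
  · simp only [mul_smul]
    rw [← hhc, inv_smul_smul, hh'c, inv_smul_smul]

/-- A sharply triply transitive Zassenhaus group of even degree is not simple, provided the
two-point stabilizers of sharply triply transitive permutation groups of even degree at least 6
have `s`-invariant normal subgroups of index 2 (this is statement S0729). -/
theorem zass_sharp3_not_simple {G : Type u} [Group G] [Finite G] {Ω : Type v} [MulAction G Ω]
    [Fintype Ω] (hZ : IsZassenhausGroup G Ω) {a b : Ω} (hab : a ≠ b)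
    (heven : Even (Nat.card ↥(stabilizer G a ⊓ stabilizer G b)))
    (hsharp : Nat.card ↥(stabilizer G a ⊓ stabilizer G b) = Fintype.card Ω - 2)
    (h729 : 6 ≤ Fintype.card Ω → ∀ (G' : Subgroup (Equiv.Perm Ω)),
      IsMultiplyPretransitive G' Ω 3 → (∀ x : Fin 3 ↪ Ω, stabilizer G' x = ⊥) →
      ∀ {a b c : Ω}, a ≠ b → a ≠ c → b ≠ c → ∀ s : G', s • a = b → s • b = a → s • c = c →
      ∃ N : Subgroup G', N ≤ stabilizer G' a ⊓ stabilizer G' b ∧
        (N.subgroupOf (stabilizer G' a ⊓ stabilizer G' b)).Normal ∧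
        N.relIndex (stabilizer G' a ⊓ stabilizer G' b) = 2 ∧ ∀ n ∈ N, s * n * s⁻¹ ∈ N) :
    ∃ M : Subgroup G, M.Normal ∧ M ≠ ⊥ ∧ M ≠ ⊤ := by
  classical
  have three := hZ.2.2.1
  obtain ⟨c, hca, hcb⟩ := Cfsg.Agent.Lib.Helper21.zass_exists_third hZ hab
  have htr := zass_sharp_trans hZ hab hca hcb hsharp
  have h3t := zass_sharp_three_trans hZ hab hsharp
  obtain ⟨s, hsa, hsb, hsc⟩ := h3t a b c b a c hab (Ne.symm hca) (Ne.symm hcb) (Ne.symm hab)
    (Ne.symm hcb) (Ne.symm hca)
  by_cases h6 : 6 ≤ Fintype.card Ω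
  · obtain ⟨φ, hφdef⟩ : ∃ φ : G →* Equiv.Perm Ω, φ = MulAction.toPermHom G Ω := ⟨_, rfl⟩
    obtain ⟨φ', hφ'⟩ : ∃ φ' : G →* φ.range, φ' = φ.rangeRestrict := ⟨_, rfl⟩
    have hφ : ∀ (g : G) (x : Ω), (φ' g) • x = g • x := by
      intro g x
      rw [hφ', hφdef]
      rfl
    have hφsurj : Function.Surjective φ' := by
      rw [hφ']
      exact φ.rangeRestrict_surjective
    have h3 : IsMultiplyPretransitive φ.range Ω 3 := by
      refine ⟨fun x y => ?_⟩
      obtain ⟨g, h0, h1, h2⟩ := h3t (x 0) (x 1) (x 2) (y 0) (y 1) (y 2)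
        (x.injective.ne (by decide)) (x.injective.ne (by decide)) (x.injective.ne (by decide))
        (y.injective.ne (by decide)) (y.injective.ne (by decide)) (y.injective.ne (by decide))
      refine ⟨φ' g, ?_⟩
      ext i
      rw [Function.Embedding.smul_apply, hφ]
      fin_cases i
      · exact h0
      · exact h1
      · exact h2
    have hs' : ∀ x : Fin 3 ↪ Ω, stabilizer φ.range x = ⊥ := by
      intro x
      rw [Subgroup.eq_bot_iff_forall]
      intro g' hg'
      obtain ⟨g, rfl⟩ := hφsurj g'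
      rw [mem_stabilizer_iff] at hg'
      have hfix : ∀ i, g • x i = x i := by
        intro i
        have h1 : (φ' g • x) i = x i := DFunLike.congr_fun hg' i
        exact (hφ g (x i)).symm.trans h1
      have h1 : g = 1 := three g (x 0) (x 1) (x 2) (x.injective.ne (by decide))
        (x.injective.ne (by decide)) (x.injective.ne (by decide)) (hfix 0) (hfix 1) (hfix 2)
      rw [h1, map_one]
    obtain ⟨N', hN'le, hN'n, hN'2, hN's⟩ := h729 h6 φ.range h3 hs' hab (Ne.symm hca)
      (Ne.symm hcb) (φ' s) (by rw [hφ]; exact hsa) (by rw [hφ]; exact hsb)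
      (by rw [hφ]; exact hsc)
    have hK : ∀ g : G, φ' g ∈ stabilizer φ.range a ⊓ stabilizer φ.range b ↔
        (g • a = a ∧ g • b = b) := by
      intro g
      rw [Subgroup.mem_inf, mem_stabilizer_iff, mem_stabilizer_iff, hφ, hφ]
    apply sharp3_not_simple_aux hZ hab hca hcb heven htr s hsa hsb hsc (N'.comap φ')
    · intro k hk
      exact (hK k).mp (hN'le (Subgroup.mem_comap.mp hk))
    · intro h hha hhb k hk
      rw [Subgroup.mem_comap] at hk ⊢
      have hh' : φ' h ∈ stabilizer φ.range a ⊓ stabilizer φ.range b := (hK h).mpr ⟨hha, hhb⟩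
      have hk' : φ' k ∈ stabilizer φ.range a ⊓ stabilizer φ.range b := hN'le hk
      have h1 := hN'n.conj_mem ⟨φ' k, hk'⟩ (Subgroup.mem_subgroupOf.mpr hk) ⟨φ' h, hh'⟩
      rw [Subgroup.mem_subgroupOf] at h1
      rw [map_mul, map_mul, map_inv]
      exact h1
    · intro h h' hha hhb hh'a hh'b hh hh'
      rw [Subgroup.mem_comap] at hh hh' ⊢
      have hx : φ' h ∈ stabilizer φ.range a ⊓ stabilizer φ.range b := (hK h).mpr ⟨hha, hhb⟩
      have hy : φ' h' ∈ stabilizer φ.range a ⊓ stabilizer φ.range b := (hK h').mpr ⟨hh'a, hh'b⟩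
      have key := Subgroup.mul_mem_iff_of_index_two hN'2
        (a := (⟨φ' h, hx⟩ : ↥(stabilizer φ.range a ⊓ stabilizer φ.range b)))
        (b := (⟨φ' h', hy⟩ : ↥(stabilizer φ.range a ⊓ stabilizer φ.range b))⁻¹)
      have h1 : (⟨φ' h, hx⟩ : ↥(stabilizer φ.range a ⊓ stabilizer φ.range b)) *
          (⟨φ' h', hy⟩ : ↥(stabilizer φ.range a ⊓ stabilizer φ.range b))⁻¹ ∈
          N'.subgroupOf (stabilizer φ.range a ⊓ stabilizer φ.range b) :=
        key.mpr ⟨fun h1 => absurd (Subgroup.mem_subgroupOf.mp h1) hh,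
          fun h1 => absurd (Subgroup.mem_subgroupOf.mp ((Subgroup.inv_mem_iff _).mp h1)) hh'⟩
      rw [map_mul, map_inv]
      exact Subgroup.mem_subgroupOf.mp h1
    · have hne : N'.subgroupOf (stabilizer φ.range a ⊓ stabilizer φ.range b) ≠ ⊤ := by
        intro htop
        have h1 := Subgroup.index_eq_one.mpr htop
        have h2 : (N'.subgroupOf (stabilizer φ.range a ⊓ stabilizer φ.range b)).index = 2 := hN'2
        omega
      obtain ⟨⟨x, hx⟩, hxN⟩ : ∃ x : ↥(stabilizer φ.range a ⊓ stabilizer φ.range b),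
          x ∉ N'.subgroupOf (stabilizer φ.range a ⊓ stabilizer φ.range b) := by
        by_contra hcon
        push Not at hcon
        exact hne (eq_top_iff.mpr (fun x _ => hcon x))
      obtain ⟨g, rfl⟩ := hφsurj x
      exact ⟨g, ((hK g).mp hx).1, ((hK g).mp hx).2,
        fun hg => hxN (Subgroup.mem_subgroupOf.mpr (Subgroup.mem_comap.mp hg))⟩
    · intro k hk
      rw [Subgroup.mem_comap] at hk ⊢
      rw [map_mul, map_mul, map_inv]
      exact hN's _ hk
  · have h3card : 3 ≤ Fintype.card Ω := Cfsg.Agent.Lib.Helper21.zass_three_le_card hZ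
    obtain ⟨k, hk⟩ := heven
    have hcardH : Nat.card ↥(stabilizer G a ⊓ stabilizer G b) = 2 := by
      have hpos : 0 < Nat.card ↥(stabilizer G a ⊓ stabilizer G b) := Nat.card_pos
      omega
    have hmemH : ∀ g : G, g ∈ stabilizer G a ⊓ stabilizer G b ↔ (g • a = a ∧ g • b = b) := by
      intro g
      rw [Subgroup.mem_inf, mem_stabilizer_iff, mem_stabilizer_iff]
    apply sharp3_not_simple_aux hZ hab hca hcb ⟨k, hk⟩ htr s hsa hsb hsc ⊥
    · intro k hk
      rw [Subgroup.mem_bot] at hk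
      rw [hk]
      exact ⟨one_smul _ _, one_smul _ _⟩
    · intro h _ _ k hk
      rw [Subgroup.mem_bot] at hk ⊢
      rw [hk]
      group
    · intro h h' hha hhb hh'a hh'b hh hh'
      rw [Subgroup.mem_bot] at hh hh' ⊢
      by_contra hne
      have hne' : h ≠ h' := fun e => hne (by rw [e, mul_inv_cancel])
      have : Fintype ↥(stabilizer G a ⊓ stabilizer G b) := Fintype.ofFinite _
      have h3 : 2 < Fintype.card ↥(stabilizer G a ⊓ stabilizer G b) := by
        rw [Fintype.two_lt_card_iff]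
        refine ⟨1, ⟨h, (hmemH h).mpr ⟨hha, hhb⟩⟩, ⟨h', (hmemH h').mpr ⟨hh'a, hh'b⟩⟩, ?_, ?_, ?_⟩
        · intro e
          exact hh (congrArg Subtype.val e).symm
        · intro e
          exact hh' (congrArg Subtype.val e).symm
        · intro e
          exact hne' (congrArg Subtype.val e)
      rw [← Nat.card_eq_fintype_card, hcardH] at h3
      omega
    · have : Nontrivial ↥(stabilizer G a ⊓ stabilizer G b) :=
        (Finite.one_lt_card_iff_nontrivial).mp (by rw [hcardH]; norm_num)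
      obtain ⟨x, hx⟩ := exists_ne (1 : ↥(stabilizer G a ⊓ stabilizer G b))
      refine ⟨x, ((hmemH _).mp x.2).1, ((hmemH _).mp x.2).2, ?_⟩
      intro h1
      rw [Subgroup.mem_bot] at h1
      exact hx (Subtype.ext h1)
    · intro k hk
      rw [Subgroup.mem_bot] at hk ⊢
      rw [hk]
      group

end Cfsg.Agent.Lib.Helper23
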