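import Mathlib
import Cfsg.Agent.Lib.Helper23.ZassEvenA
import Cfsg.Agent.Lib.Helper23.ZassField
import Cfsg.Agent.Lib.Helper23.PSL2Odd

/-!
# Zassenhaus groups with two-point stabilizers of even order `d`, `2 d = n - 1`, are `PSL(2, q)`

From the data `ZEv` we coordinatize the points by the projective line over a finite field `K` and
show that the group consists of Möbius transformations.
-/

namespace Cfsg.Agent.Lib.Helper23

open Cfsg MulAction Equiv

universe u v

theorem zass_even_psl {G : Type u} [Group G] [Finite G] {Ω : Type v} [MulAction G Ω] [Fintype Ω]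
    {a b : Ω} {N : Subgroup G} {z w : G} (h : ZEv G Ω a b N z w)
    (hN : Nat.card N + 1 = Fintype.card Ω)
    (hH : 2 * Nat.card ↥(stabilizer G a ⊓ stabilizer G b) + 2 = Fintype.card Ω)
    (hG : Nat.card G = Fintype.card Ω * (Fintype.card Ω - 1) *
      Nat.card ↥(stabilizer G a ⊓ stabilizer G b)) :
    ∃ (K : Type u) (_ : Field K) (_ : Fintype K), Fintype.card K + 1 = Fintype.card Ω ∧
      Nonempty (G ≃* Matrix.ProjectiveSpecialLinearGroup (Fin 2) K) := by
  classical
  obtain ⟨H, hHmem, hHcard⟩ : ∃ H : Subgroup G, (∀ g, g ∈ H ↔ g • a = a ∧ g • b = b) ∧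
      Nat.card H = Nat.card ↥(stabilizer G a ⊓ stabilizer G b) :=
    ⟨stabilizer G a ⊓ stabilizer G b, fun g => by
      rw [Subgroup.mem_inf, mem_stabilizer_iff, mem_stabilizer_iff], rfl⟩
  rw [← hHcard] at hH hG
  obtain ⟨d, hd⟩ : ∃ d : ℕ, d = Nat.card H := ⟨_, rfl⟩
  rw [← hd] at hH hG
  have hdpos : 0 < d := by rw [hd]; exact Nat.card_pos
  have hab := h.hab
  have hNcomm : ∀ x ∈ N, ∀ y ∈ N, x * y = y * x := comm_of_inverts N z h.z_inv
  have hHcomm : ∀ x ∈ H, ∀ y ∈ H, x * y = y * x :=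
    comm_of_inverts H w (fun g hg => h.w_inv g ((hHmem g).mp hg).1 ((hHmem g).mp hg).2)
  have hnorm : ∀ g ∈ H, ∀ t ∈ N, g * t * g⁻¹ ∈ N :=
    fun g hg t ht => h.N_norm g ((hHmem g).mp hg).1 t ht
  have h3card : 3 ≤ Fintype.card Ω := by omega
  obtain ⟨c, hca, hcb⟩ := Sharp3.exists_third h3card a b
  obtain ⟨ε, hεN, hεb⟩ := h.N_trans c hca
  have hε1 : ε ≠ 1 := by
    rintro rfl
    rw [one_smul] at hεb
    exact hcb hεb.symm
  have hεb' : ε • b ≠ b := by rw [hεb]; exact hcb
  obtain ⟨K, instF, instFin, τ, hcardK, hτN, hτinj, hτsurj, hτ0, hτ1, hτadd, hτmul⟩ :=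
    exists_field_of_group_irred N H hNcomm hnorm hHcomm ε hεN hε1
      (fun T' hT' hinv => h.irr T' hT' (fun g hga hgb t ht =>
        hinv g ((hHmem g).mpr ⟨hga, hgb⟩) t ht))
  have hcardΩ : Fintype.card K + 1 = Fintype.card Ω := by rw [hcardK, hN]
  refine ⟨K, instF, instFin, hcardΩ, ?_⟩
  have hq : Fintype.card K = 2 * d + 1 := by omega
  -- the multiplier character
  choose κ hκ using (fun g : H => hτmul g g.2)
  have hκ1 : ∀ g : H, τ (κ g) = (g : G) * ε * (g : G)⁻¹ := by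
    intro g
    have := hκ g 1
    rwa [mul_one, hτ1] at this
  have hκmul : ∀ g g' : H, κ (g * g') = κ g * κ g' := by
    intro g g'
    apply hτinj
    rw [hκ1, hκ g (κ g'), hκ1]
    show ((g : G) * (g' : G)) * ε * ((g : G) * (g' : G))⁻¹ =
      (g : G) * ((g' : G) * ε * (g' : G)⁻¹) * (g : G)⁻¹
    group
  have hκone : κ 1 = 1 := by
    apply hτinj
    rw [hκ1, hτ1]
    show (1 : G) * ε * (1 : G)⁻¹ = ε
    group
  have hκinv : ∀ g : H, κ g⁻¹ * κ g = 1 := by
    intro g
    rw [← hκmul, inv_mul_cancel, hκone]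
  have hκne : ∀ g : H, κ g ≠ 0 := by
    intro g h0
    have := hκinv g
    rw [h0, mul_zero] at this
    exact zero_ne_one this
  have hκinv' : ∀ g : H, κ g⁻¹ = (κ g)⁻¹ := fun g => eq_inv_of_mul_eq_one_left (hκinv g)
  have hκinj : Function.Injective κ := by
    intro g g' hgg
    have h1 : (g : G) * ε * (g : G)⁻¹ = (g' : G) * ε * (g' : G)⁻¹ := by
      rw [← hκ1, ← hκ1, hgg]
    have hg := (hHmem _).mp g.2
    have hg' := (hHmem _).mp g'.2
    have h2 : (g' : G)⁻¹ * (g : G) = 1 := by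
      apply ze_comm_trivial h.three hab (g := (g' : G)⁻¹ * (g : G)) (k := ε) ?_ ?_
        (h.N_fix ε hεN) hεb' ?_
      · rw [mul_smul, hg.1]
        exact inv_smul_eq_iff.mpr hg'.1.symm
      · rw [mul_smul, hg.2]
        exact inv_smul_eq_iff.mpr hg'.2.symm
      · calc (g' : G)⁻¹ * (g : G) * ε * ((g' : G)⁻¹ * (g : G))⁻¹
            = (g' : G)⁻¹ * ((g : G) * ε * (g : G)⁻¹) * (g' : G) := by group
          _ = (g' : G)⁻¹ * ((g' : G) * ε * (g' : G)⁻¹) * (g' : G) := by rw [h1]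
          _ = ε := by group
    exact Subtype.ext (inv_mul_eq_one.mp h2).symm
  -- the labelling
  obtain ⟨E, hEnone, hEsome⟩ : ∃ E : Option K → Ω, E none = a ∧ ∀ k : K, E (some k) = τ k • b :=
    ⟨fun x => match x with
      | none => a
      | some k => τ k • b, rfl, fun _ => rfl⟩
  have hE0 : E (some 0) = b := by rw [hEsome, hτ0, one_smul]
  have hτa : ∀ k : K, τ k • a = a := fun k => h.N_fix _ (hτN k)
  have hτneg : ∀ k : K, τ (-k) = (τ k)⁻¹ := by
    intro k
    apply eq_inv_of_mul_eq_one_left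
    rw [← hτadd, neg_add_cancel, hτ0]
  have hEinj : Function.Injective E := by
    intro x y hxy
    cases x with
    | none =>
      cases y with
      | none => rfl
      | some k =>
        rw [hEnone, hEsome] at hxy
        exact absurd (MulAction.injective (τ k) ((hτa k).trans hxy)) hab
    | some k =>
      cases y with
      | none =>
        rw [hEnone, hEsome] at hxy
        exact absurd (MulAction.injective (τ k) ((hτa k).trans hxy.symm)) hab
      | some k' =>
        rw [hEsome, hEsome] at hxy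
        have h1 : ((τ k')⁻¹ * τ k) • b = b := by rw [mul_smul, hxy, inv_smul_smul]
        have h2 := h.N_reg _ (N.mul_mem (N.inv_mem (hτN k')) (hτN k)) h1
        exact congrArg some (hτinj (inv_mul_eq_one.mp h2).symm)
  have hEbij : Function.Bijective E := by
    apply Function.Injective.bijective_of_nat_card_le hEinj
    rw [Nat.card_eq_fintype_card, Nat.card_eq_fintype_card, Fintype.card_option, hcardΩ]
  obtain ⟨e, he⟩ : ∃ e : Option K ≃ Ω, ∀ x, e x = E x :=
    ⟨Equiv.ofBijective E hEbij, fun _ => rfl⟩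
  obtain ⟨π, hπ⟩ : ∃ π : G →* Perm (Option K), ∀ g x, π g x = e.symm (g • e x) :=
    ⟨(e.symm.permCongrHom).toMonoidHom.comp (MulAction.toPermHom G Ω),
      fun _ _ => rfl⟩
  have hπiff : ∀ g x y, π g x = y ↔ g • E x = E y := by
    intro g x y
    rw [hπ, Equiv.symm_apply_eq, he, he]
  have hπinj : Function.Injective π := by
    rw [injective_iff_map_eq_one]
    intro g hg
    have hfix : ∀ x : Ω, g • x = x := by
      intro x
      obtain ⟨y, rfl⟩ := hEbij.2 x
      have h1 : π g y = y := by rw [hg]; rfl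
      exact (hπiff g y y).mp h1
    exact h.three g a b c hab (Ne.symm hcb) (Ne.symm hca) (hfix _) (hfix _) (hfix _)
  -- the action of the translations and of `H`
  have hτsome : ∀ (c' k : K), π (τ c') (some k) = some (k + c') := by
    intro c' k
    rw [hπiff, hEsome, hEsome, hτadd, ← mul_smul, hNcomm _ (hτN c') _ (hτN k)]
  have hτnone : ∀ c' : K, π (τ c') none = none := by
    intro c'
    rw [hπiff, hEnone]
    exact hτa c'
  have hactH : ∀ (g : H) (k : K), (g : G) • E (some k) = E (some (κ g * k)) := by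
    intro g k
    rw [hEsome, hEsome, hκ]
    have h1 : (g : G) • τ k • b = ((g : G) * τ k * (g : G)⁻¹) • (g : G) • b := by
      rw [← mul_smul, ← mul_smul, inv_mul_cancel_right]
    rw [h1, ((hHmem _).mp g.2).2]
  have hπHnone : ∀ g : H, π (g : G) none = none := by
    intro g
    rw [hπiff, hEnone]
    exact ((hHmem _).mp g.2).1
  have hπH : ∀ (g : H) (k : K), π (g : G) (some k) = some (κ g * k) := by
    intro g k
    rw [hπiff]
    exact hactH g k
  have hzH : z ∈ H := (hHmem z).mpr ⟨h.z_a, h.z_b⟩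
  have hκz : κ ⟨z, hzH⟩ = -1 := by
    apply hτinj
    rw [hκ1, hτneg, hτ1]
    exact h.z_inv ε hεN
  -- `d`-th powers
  have hκd : ∀ g : H, κ g ^ d = 1 := by
    intro g
    have h2 : g ^ d = 1 := by rw [hd]; exact pow_card_eq_one'
    have h3 : ∀ n : ℕ, κ (g ^ n) = κ g ^ n := by
      intro n
      induction n with
      | zero => rw [pow_zero, pow_zero, hκone]
      | succ n ih => rw [pow_succ, pow_succ, hκmul, ih]
    rw [← h3, h2, hκone]
  have := Fintype.ofFinite H
  obtain ⟨R, hRmem⟩ : ∃ R : Finset K, ∀ k, k ∈ R ↔ k ^ d = 1 :=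
    ⟨Finset.univ.filter (fun k : K => k ^ d = 1), by simp⟩
  have hIR : Finset.univ.image κ = R := by
    apply Finset.eq_of_subset_of_card_le
    · intro k hk
      obtain ⟨g, -, rfl⟩ := Finset.mem_image.mp hk
      exact (hRmem _).mpr (hκd g)
    · rw [Finset.card_image_of_injective _ hκinj, Finset.card_univ, ← Nat.card_eq_fintype_card,
        ← hd]
      have h1 : R ⊆ (Polynomial.nthRoots d (1 : K)).toFinset := by
        intro k hk
        rw [Multiset.mem_toFinset, Polynomial.mem_nthRoots hdpos]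
        exact (hRmem k).mp hk
      calc R.card ≤ (Polynomial.nthRoots d (1 : K)).toFinset.card := Finset.card_le_card h1
        _ ≤ Multiset.card (Polynomial.nthRoots d (1 : K)) := Multiset.toFinset_card_le _
        _ ≤ d := Polynomial.card_nthRoots d 1
  have hRcard : R.card = d := by
    rw [← hIR, Finset.card_image_of_injective _ hκinj, Finset.card_univ,
      ← Nat.card_eq_fintype_card, hd]
  have hroots : ∀ k : K, k ^ d = 1 → ∃ g : H, κ g = k := by
    intro k hk
    have : k ∈ Finset.univ.image κ := by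
      rw [hIR]
      exact (hRmem k).mpr hk
    obtain ⟨g, -, hg⟩ := Finset.mem_image.mp this
    exact ⟨g, hg⟩
  have hpow : ∀ k : K, k ≠ 0 → k ^ d = 1 ∨ k ^ d = -1 := by
    intro k hk
    have h1 : k ^ (Fintype.card K - 1) = 1 := FiniteField.pow_card_sub_one_eq_one k hk
    have h2 : Fintype.card K - 1 = d * 2 := by omega
    rw [h2, pow_mul] at h1
    exact sq_eq_one_iff.mp h1
  have hcoset : ∀ k k' : K, k ≠ 0 → k' ≠ 0 → k ^ d ≠ 1 → k' ^ d ≠ 1 →
      ∃ g : H, k' = κ g * k := by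
    intro k k' hk hk' hkd hk'd
    have e1 : k ^ d = -1 := (hpow k hk).resolve_left hkd
    have e2 : k' ^ d = -1 := (hpow k' hk').resolve_left hk'd
    obtain ⟨g, hg⟩ := hroots (k' / k) (by rw [div_pow, e1, e2, neg_div_neg_eq, div_one])
    exact ⟨g, by rw [hg, div_mul_cancel₀ _ hk]⟩
  have hchar : ringChar K ≠ 2 := by
    intro h2
    have := FiniteField.even_card_iff_char_two.mp h2
    omega
  have hsq : ∀ g : H, ∃ σ : K, σ ≠ 0 ∧ κ g = σ * σ := by
    intro g
    have h1 : IsSquare (κ g) := by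
      rw [FiniteField.isSquare_iff hchar (hκne g)]
      have : Fintype.card K / 2 = d := by omega
      rw [this]
      exact hκd g
    obtain ⟨σ, hσ⟩ := h1
    refine ⟨σ, ?_, hσ⟩
    rintro rfl
    rw [mul_zero] at hσ
    exact hκne g hσ
  -- the involution `w` in coordinates
  have hw_none : π w none = some 0 := by
    rw [hπiff, hEnone, hE0]
    exact h.w_a
  have hw_zero : π w (some 0) = none := by
    rw [hπiff, hEnone, hE0]
    exact h.w_b
  have hww : ∀ x, π w (π w x) = x := by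
    intro x
    have h1 : π w * π w = 1 := by rw [← map_mul, h.w_sq, map_one]
    exact congrArg (fun p : Perm (Option K) => p x) h1
  have hωex : ∀ k : K, k ≠ 0 → ∃ k' : K, k' ≠ 0 ∧ π w (some k) = some k' := by
    intro k hk
    cases hx : π w (some k) with
    | none =>
      exfalso
      have := (π w).injective (hx.trans hw_zero.symm)
      exact hk (Option.some.inj this)
    | some k' =>
      refine ⟨k', ?_, rfl⟩
      rintro rfl
      have := (π w).injective (hx.trans hw_none.symm)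
      cases this
  choose! ω hω0 hω using hωex
  have hωω : ∀ k : K, k ≠ 0 → ω (ω k) = k := by
    intro k hk
    have h1 := hww (some k)
    rw [hω k hk, hω _ (hω0 k hk)] at h1
    exact Option.some.inj h1
  have hωκ : ∀ (g : H) (k : K), k ≠ 0 → ω (κ g * k) = (κ g)⁻¹ * ω k := by
    intro g k hk
    have hgm := (hHmem _).mp g.2
    have h1 : w * (g : G) = ((g⁻¹ : H) : G) * w := by
      have := h.w_inv g hgm.1 hgm.2
      rw [Subgroup.coe_inv, ← this]
      group
    have h2 : π w (π (g : G) (some k)) = π ((g⁻¹ : H) : G) (π w (some k)) := by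
      rw [← Perm.mul_apply, ← Perm.mul_apply, ← map_mul, ← map_mul, h1]
    rw [hπH, hω _ (mul_ne_zero (hκne g) hk), hω k hk, hπH, hκinv'] at h2
    exact Option.some.inj h2
  have hωneg : ∀ k : K, k ≠ 0 → ω (-k) = -ω k := by
    intro k hk
    have := hωκ ⟨z, hzH⟩ k hk
    rw [hκz, neg_one_mul, inv_neg_one, neg_one_mul] at this
    exact this
  have hE1a : E (some 1) ≠ a := by
    intro h1
    rw [← hEnone] at h1
    cases hEinj h1
  have hE1b : E (some 1) ≠ b := by
    intro h1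
    rw [← hE0] at h1
    exact one_ne_zero (Option.some.inj (hEinj h1))
  obtain ⟨m, hma, hmb, hmx⟩ := h.key (E (some 1)) hE1a hE1b
  have hmH : m ∈ H := (hHmem m).mpr ⟨hma, hmb⟩
  obtain ⟨c₀, hc₀⟩ : ∃ c₀ : K, c₀ = ω 1 := ⟨_, rfl⟩
  have hc₀ne : c₀ ≠ 0 := by rw [hc₀]; exact hω0 1 one_ne_zero
  obtain ⟨g₁, hg₁⟩ : ∃ g₁ : H, κ g₁ = c₀ := by
    refine ⟨(⟨m, hmH⟩ : H)⁻¹, ?_⟩
    have h1 : π (m * w) (some 1) = some 1 := (hπiff _ _ _).mpr hmx
    rw [map_mul, Perm.mul_apply, hω 1 one_ne_zero] at h1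
    have h2 := hπH ⟨m, hmH⟩ (ω 1)
    have h3 : κ ⟨m, hmH⟩ * ω 1 = 1 := Option.some.inj (h2.symm.trans h1)
    rw [hκinv', hc₀]
    exact (eq_inv_of_mul_eq_one_right h3).symm
  have hωS : ∀ g : H, ω (κ g) = c₀ / κ g := by
    intro g
    have := hωκ g 1 one_ne_zero
    rw [mul_one, ← hc₀] at this
    rw [this, div_eq_inv_mul]
  have hωc₀ : ω c₀ = 1 := by rw [hc₀]; exact hωω 1 one_ne_zero
  -- the relation `(τ₁ w τ₋c₀ w τ₁ w) ∈ H`
  obtain ⟨g₀, hg₀⟩ : ∃ g₀ : G, g₀ = τ 1 * w * τ (-c₀) * w * τ 1 * w := ⟨_, rfl⟩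
  have hπg₀ : ∀ x, π g₀ x = π (τ 1) (π w (π (τ (-c₀)) (π w (π (τ 1) (π w x))))) := by
    intro x
    rw [hg₀]
    simp only [map_mul, Perm.mul_apply]
  have hg₀none : π g₀ none = none := by
    rw [hπg₀, hw_none, hτsome, zero_add, hω 1 one_ne_zero, ← hc₀, hτsome, add_neg_cancel,
      hw_zero, hτnone]
  have hg₀zero : π g₀ (some 0) = some 0 := by
    rw [hπg₀, hw_zero, hτnone, hw_none, hτsome, zero_add, hω _ (neg_ne_zero.mpr hc₀ne),
      hωneg c₀ hc₀ne, hωc₀, hτsome, neg_add_cancel]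
  have hg₀H : g₀ ∈ H := by
    rw [hHmem]
    constructor
    · have := (hπiff g₀ none none).mp hg₀none
      rwa [hEnone] at this
    · have := (hπiff g₀ (some 0) (some 0)).mp hg₀zero
      rwa [hE0] at this
  obtain ⟨s₀, hs₀⟩ : ∃ s₀ : K, s₀ = κ ⟨g₀, hg₀H⟩ := ⟨_, rfl⟩
  have hg₀act : ∀ t : K, π g₀ (some t) = some (s₀ * t) := by
    intro t
    rw [hs₀]
    exact hπH ⟨g₀, hg₀H⟩ t
  have hs₀c : s₀ * (-c₀) = 1 := by
    have h1 := hg₀act (-c₀)
    rw [hπg₀, hω _ (neg_ne_zero.mpr hc₀ne), hωneg c₀ hc₀ne, hωc₀, hτsome, neg_add_cancel,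
      hw_zero, hτnone, hw_none, hτsome, zero_add] at h1
    exact (Option.some.inj h1).symm
  have hSE : ∀ t : K, t ≠ 0 → ω t + 1 ≠ 0 →
      ω (ω t + 1) + -c₀ ≠ 0 ∧ s₀ * t = ω (ω (ω t + 1) + -c₀) + 1 := by
    intro t ht ht1
    have hne : ω (ω t + 1) + -c₀ ≠ 0 := by
      intro h0
      have h1 : ω (ω t + 1) = ω 1 := by
        rw [← hc₀]
        linear_combination h0
      have h2 := congrArg ω h1
      rw [hωω _ ht1, hωω 1 one_ne_zero] at h2
      exact hω0 t ht (by linear_combination h2)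
    refine ⟨hne, ?_⟩
    have h1 := hg₀act t
    rw [hπg₀, hω t ht, hτsome, hω _ ht1, hτsome, hω _ hne, hτsome] at h1
    exact (Option.some.inj h1).symm
  have hSE' : ∀ g : H, κ g + c₀ ≠ 0 → ω (κ g + c₀) = c₀ / (κ g + c₀) := by
    intro g hA
    obtain ⟨t, ht⟩ : ∃ t : K, t = κ g := ⟨_, rfl⟩
    rw [← ht] at hA ⊢
    have ht0 : t ≠ 0 := by rw [ht]; exact hκne g
    have hωt : ω t = c₀ / t := by rw [ht]; exact hωS g
    have e1 : ω t + 1 = κ g⁻¹ * (t + c₀) := by
      rw [hωt, hκinv', ← ht]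
      field_simp
      ring
    have ht1 : ω t + 1 ≠ 0 := by
      rw [e1]
      exact mul_ne_zero (hκne _) hA
    obtain ⟨hne, hse⟩ := hSE t ht0 ht1
    have e2 : ω (ω t + 1) = t * ω (t + c₀) := by
      rw [e1, hωκ g⁻¹ _ hA, hκinv', inv_inv, ← ht]
    rw [e2] at hse hne
    have e3 : c₀ * ω (t * ω (t + c₀) + -c₀) = -(t + c₀) := by
      linear_combination (-c₀) * hse - t * hs₀c
    have e4 : ω (t * ω (t + c₀) + -c₀) = -((t + c₀) / c₀) := by
      have : ω (t * ω (t + c₀) + -c₀) = (c₀ * ω (t * ω (t + c₀) + -c₀)) / c₀ := by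
        field_simp
      rw [this, e3, neg_div]
    have e5 := congrArg ω e4
    rw [hωω _ hne] at e5
    have e6 : ω (-((t + c₀) / c₀)) = -(c₀ * ω (t + c₀)) := by
      rw [hωneg _ (div_ne_zero hA hc₀ne)]
      have e7 : (t + c₀) / c₀ = κ g₁⁻¹ * (t + c₀) := by
        rw [hκinv', hg₁]
        field_simp
      rw [e7, hωκ g₁⁻¹ _ hA, hκinv', inv_inv, hg₁]
    rw [e6] at e5
    rw [eq_div_iff hA]
    linear_combination e5
  -- a square `y` with `y + 1` a non-square
  have hex : ∃ g : H, κ g + 1 ≠ 0 ∧ (κ g + 1) ^ d ≠ 1 := by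
    by_contra hcon
    push Not at hcon
    have h0R : (0 : K) ∉ R := by
      rw [hRmem, zero_pow hdpos.ne']
      exact zero_ne_one
    obtain ⟨Q, hQ⟩ : ∃ Q : Finset K, Q = insert 0 R := ⟨_, rfl⟩
    have hQmem : ∀ k, k ∈ Q ↔ k = 0 ∨ k ^ d = 1 := by
      intro k
      rw [hQ, Finset.mem_insert, hRmem]
    have hQcard : Q.card = d + 1 := by
      rw [hQ, Finset.card_insert_of_notMem h0R, hRcard]
    have hQadd : ∀ k ∈ Q, k + 1 ∈ Q := by
      intro k hk
      rw [hQmem] at hk ⊢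
      rcases hk with rfl | hk
      · right
        rw [zero_add, one_pow]
      · obtain ⟨g, rfl⟩ := hroots k hk
        by_cases h0 : κ g + 1 = 0
        · exact Or.inl h0
        · exact Or.inr (hcon g h0)
    have himg : Q.image (· + 1) = Q := by
      apply Finset.eq_of_subset_of_card_le
      · intro k hk
        obtain ⟨k', hk', rfl⟩ := Finset.mem_image.mp hk
        exact hQadd k' hk'
      · rw [Finset.card_image_of_injective _ (add_left_injective (1 : K))]
    have hsum : ∑ k ∈ Q, (k + 1) = ∑ k ∈ Q, k := by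
      conv_rhs => rw [← himg]
      rw [Finset.sum_image (fun x _ y _ hxy => add_left_injective (1 : K) hxy)]
    rw [Finset.sum_add_distrib, Finset.sum_const, hQcard] at hsum
    have h1 : ((d + 1 : ℕ) : K) = 0 := by
      have : (d + 1) • (1 : K) = 0 := by
        have := hsum
        exact add_eq_left.mp this
      rwa [nsmul_one] at this
    have h2 : ((2 * d + 1 : ℕ) : K) = 0 := by
      rw [← hq]
      exact Nat.cast_card_eq_zero K
    push_cast at h1 h2
    exact one_ne_zero (by linear_combination 2 * h1 - h2 : (1 : K) = 0)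
  obtain ⟨g₂, hg₂ne, hg₂d⟩ := hex
  have hAeq : κ (g₁ * g₂) + c₀ = κ g₁ * (κ g₂ + 1) := by
    rw [hκmul, hg₁]
    ring
  have hA0 : κ (g₁ * g₂) + c₀ ≠ 0 := by
    rw [hAeq]
    exact mul_ne_zero (hκne g₁) hg₂ne
  have hAd : (κ (g₁ * g₂) + c₀) ^ d ≠ 1 := by
    rw [hAeq, mul_pow, hκd, one_mul]
    exact hg₂d
  have hωA := hSE' (g₁ * g₂) hA0
  have hωall : ∀ k : K, k ≠ 0 → ω k = c₀ / k := by
    intro k hk
    by_cases hkd : k ^ d = 1
    · obtain ⟨g, rfl⟩ := hroots k hkd
      exact hωS g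
    · obtain ⟨g, hg⟩ := hcoset _ k hA0 hk hAd hkd
      have hg0 := hκne g
      rw [hg, hωκ g _ hA0, hωA]
      field_simp
  -- conclusion
  have hoddK : Odd (Fintype.card K) := by
    rw [hq]
    exact ⟨d, rfl⟩
  apply psl2_recog_odd (K := K) hoddK π hπinj
  · rw [hG, ← hcardΩ, hq]
    have e1 : 2 * d + 1 + 1 - 1 = 2 * d + 1 := by omega
    have e2 : (2 * d + 1) ^ 2 - 1 = (2 * d) * (2 * d + 2) := by
      have : (2 * d + 1) ^ 2 = (2 * d) * (2 * d + 2) + 1 := by ring
      omega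
    rw [e1, e2]
    ring
  · intro c'
    refine ⟨τ c', fun x => ?_⟩
    cases x with
    | none => exact hτnone c'
    | some k => exact hτsome c' k
  · intro g hg1 hg2
    rw [hπiff, hEnone] at hg1
    rw [hπiff, hE0] at hg2
    have hg : g ∈ H := (hHmem g).mpr ⟨hg1, hg2⟩
    obtain ⟨σ, hσ0, hσ⟩ := hsq ⟨g, hg⟩
    refine ⟨σ, hσ0, fun x => ?_⟩
    cases x with
    | none => exact hπHnone ⟨g, hg⟩
    | some k =>
      rw [← hσ]
      exact hπH ⟨g, hg⟩ k
  · obtain ⟨σ, hσ0, hσ⟩ := hsq (⟨z, hzH⟩ * g₁)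
    rw [hκmul, hκz, hg₁, neg_one_mul] at hσ
    exact ⟨w, c₀, σ, hσ0, hσ.symm, hw_none, hw_zero, fun k hk => by rw [hω k hk, hωall k hk]⟩

end Cfsg.Agent.Lib.Helper23
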