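import Mathlib
import Cfsg.Agent.Lib.Helper23.ZassSharp3B
import Cfsg.Agent.S0738
import Cfsg.Agent.S0739
import Cfsg.Agent.S0740
import Cfsg.Agent.S0742

/-!
# Simple Zassenhaus groups with two-point stabilizers of even order

Conditionally on the statement S0729 (passed as a hypothesis), a simple Zassenhaus group whose
two-point stabilizer has even order `d` has degree `2 d + 2`, hence is `PSL(2, K)`; and in any
simple Zassenhaus group the two-point stabilizer is cyclic and inverted by an involution.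
-/

namespace Cfsg.Agent.Lib.Helper23

open Cfsg MulAction

universe u v

/-- The order of the two-point stabilizer divides `n - 2`. -/
theorem zass_twoStab_dvd {G : Type u} [Group G] [Finite G] {Ω : Type v} [MulAction G Ω]
    [Fintype Ω] (hZ : IsZassenhausGroup G Ω) {a b : Ω} (hab : a ≠ b) :
    Nat.card ↥(stabilizer G a ⊓ stabilizer G b) ∣ Fintype.card Ω - 2 := by
  classical
  have three := hZ.2.2.1
  have hmem : ∀ g : G, g ∈ stabilizer G a ⊓ stabilizer G b ↔ (g • a = a ∧ g • b = b) := by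
    intro g
    rw [Subgroup.mem_inf, mem_stabilizer_iff, mem_stabilizer_iff]
  obtain ⟨M, hM⟩ : ∃ M : Finset Ω, M = Finset.univ.filter (fun x : Ω => x ≠ a ∧ x ≠ b) :=
    ⟨_, rfl⟩
  have hMmem : ∀ x, x ∈ M ↔ (x ≠ a ∧ x ≠ b) := by
    intro x
    rw [hM, Finset.mem_filter]
    simp
  have hMcard : M.card = Fintype.card Ω - 2 := by
    rw [hM, ← Sharp3.card_ne_two hab, Fintype.card_subtype]
  rw [← hMcard]
  apply Cfsg.Agent.S0738.dvd_card_of_orbit_card
    (A := ↥(stabilizer G a ⊓ stabilizer G b)) (X := Ω) _ M.card M rfl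
  · intro g x hx
    rw [hMmem] at hx ⊢
    have hg := (hmem _).mp g.2
    constructor
    · intro h
      exact hx.1 (MulAction.injective (g : G) (h.trans hg.1.symm))
    · intro h
      exact hx.2 (MulAction.injective (g : G) (h.trans hg.2.symm))
  · intro x hx
    rw [hMmem] at hx
    have h1 := Cfsg.Agent.Lib.Helper9.card_eq_orbit_mul_stab_gen
      (stabilizer G a ⊓ stabilizer G b) x
    have h2 : (stabilizer G a ⊓ stabilizer G b) ⊓ stabilizer G x = ⊥ := by
      rw [Subgroup.eq_bot_iff_forall]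
      intro g hg
      rw [Subgroup.mem_inf, hmem, mem_stabilizer_iff] at hg
      exact three g a b x hab (Ne.symm hx.2) (Ne.symm hx.1) hg.1.1 hg.1.2 hg.2
    rw [h2, Subgroup.card_bot, mul_one] at h1
    exact h1.symm

/-- In a simple Zassenhaus group with two-point stabilizers of even order `d`, the degree is
`2 d + 2` (given S0729). -/
theorem zass_simple_even_half {G : Type u} [Group G] [Finite G] {Ω : Type v} [MulAction G Ω]
    [Fintype Ω] (hZ : IsZassenhausGroup G Ω) [IsSimpleGroup G] {a b : Ω} (hab : a ≠ b)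
    (heven : Even (Nat.card ↥(stabilizer G a ⊓ stabilizer G b)))
    (h729 : Even (Fintype.card Ω) → 6 ≤ Fintype.card Ω → ∀ (G' : Subgroup (Equiv.Perm Ω)),
      IsMultiplyPretransitive G' Ω 3 → (∀ x : Fin 3 ↪ Ω, stabilizer G' x = ⊥) →
      ∀ {a b c : Ω}, a ≠ b → a ≠ c → b ≠ c → ∀ s : G', s • a = b → s • b = a → s • c = c →
      ∃ N : Subgroup G', N ≤ stabilizer G' a ⊓ stabilizer G' b ∧
        (N.subgroupOf (stabilizer G' a ⊓ stabilizer G' b)).Normal ∧
        N.relIndex (stabilizer G' a ⊓ stabilizer G' b) = 2 ∧ ∀ n ∈ N, s * n * s⁻¹ ∈ N) :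
    2 * Nat.card ↥(stabilizer G a ⊓ stabilizer G b) ≤ Fintype.card Ω - 2 := by
  have hle := Cfsg.Agent.S0741.result hZ hab heven
  obtain ⟨k, hk⟩ := zass_twoStab_dvd hZ hab
  have h3 : 3 ≤ Fintype.card Ω := Cfsg.Agent.Lib.Helper21.zass_three_le_card hZ
  have hdpos : 0 < Nat.card ↥(stabilizer G a ⊓ stabilizer G b) := Nat.card_pos
  rcases k with _ | _ | k
  · rw [mul_zero] at hk
    omega
  · exfalso
    rw [zero_add, mul_one] at hk
    have hevn : Even (Fintype.card Ω) := by
      obtain ⟨j, hj⟩ := heven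
      exact ⟨j + 1, by omega⟩
    obtain ⟨M, hMn, hMb, hMt⟩ := zass_sharp3_not_simple hZ hab heven hk.symm (h729 hevn)
    rcases hMn.eq_bot_or_eq_top with h | h
    · exact hMb h
    · exact hMt h
  · rw [hk]
    calc 2 * Nat.card ↥(stabilizer G a ⊓ stabilizer G b)
        = Nat.card ↥(stabilizer G a ⊓ stabilizer G b) * 2 := mul_comm _ _
      _ ≤ Nat.card ↥(stabilizer G a ⊓ stabilizer G b) * (k + 1 + 1) :=
          Nat.mul_le_mul_left _ (by omega)

/-- S0344, given S0729. -/
theorem zass_simple_even_psl {G : Type u} [Group G] [Finite G] {Ω : Type v} [MulAction G Ω]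
    [Fintype Ω] (hZ : IsZassenhausGroup G Ω) [IsSimpleGroup G] {a b : Ω} (hab : a ≠ b)
    (heven : Even (Nat.card ↥(stabilizer G a ⊓ stabilizer G b)))
    (h729 : Even (Fintype.card Ω) → 6 ≤ Fintype.card Ω → ∀ (G' : Subgroup (Equiv.Perm Ω)),
      IsMultiplyPretransitive G' Ω 3 → (∀ x : Fin 3 ↪ Ω, stabilizer G' x = ⊥) →
      ∀ {a b c : Ω}, a ≠ b → a ≠ c → b ≠ c → ∀ s : G', s • a = b → s • b = a → s • c = c →
      ∃ N : Subgroup G', N ≤ stabilizer G' a ⊓ stabilizer G' b ∧
        (N.subgroupOf (stabilizer G' a ⊓ stabilizer G' b)).Normal ∧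
        N.relIndex (stabilizer G' a ⊓ stabilizer G' b) = 2 ∧ ∀ n ∈ N, s * n * s⁻¹ ∈ N) :
    ∃ (F : Type) (_ : Field F) (_ : Fintype F), 3 < Fintype.card F ∧
      Nonempty (G ≃* Matrix.ProjectiveSpecialLinearGroup (Fin 2) F) := by
  have hd := zass_simple_even_half hZ hab heven h729
  obtain ⟨p, f, K, instF, instFin, hp, hp2, hK, hΩ, hiso⟩ :=
    Cfsg.Agent.S0742.result hZ hab heven hd
  refine ⟨K, instF, instFin, ?_, hiso⟩
  obtain ⟨k, hk⟩ := heven
  have hdpos : 0 < Nat.card ↥(stabilizer G a ⊓ stabilizer G b) := Nat.card_pos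
  rw [hK]
  generalize p ^ f = q at hΩ
  omega

/-- The two-point stabilizer in the situation `ZEv` is cyclic. -/
theorem ze_twoStab_cyclic {G : Type u} [Group G] [Finite G] {Ω : Type v} [MulAction G Ω]
    [Fintype Ω] {a b : Ω} {N : Subgroup G} {z w : G} (h : ZEv G Ω a b N z w)
    (h3card : 3 ≤ Fintype.card Ω) :
    IsCyclic ↥(stabilizer G a ⊓ stabilizer G b) := by
  classical
  obtain ⟨H, hHdef⟩ : ∃ H : Subgroup G, H = stabilizer G a ⊓ stabilizer G b := ⟨_, rfl⟩
  have hHmem : ∀ g, g ∈ H ↔ g • a = a ∧ g • b = b := fun g => by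
    rw [hHdef, Subgroup.mem_inf, mem_stabilizer_iff, mem_stabilizer_iff]
  rw [← hHdef]
  have hab := h.hab
  have hNcomm : ∀ x ∈ N, ∀ y ∈ N, x * y = y * x := comm_of_inverts N z h.z_inv
  have hHcomm : ∀ x ∈ H, ∀ y ∈ H, x * y = y * x :=
    comm_of_inverts H w (fun g hg => h.w_inv g ((hHmem g).mp hg).1 ((hHmem g).mp hg).2)
  have hnorm : ∀ g ∈ H, ∀ t ∈ N, g * t * g⁻¹ ∈ N :=
    fun g hg t ht => h.N_norm g ((hHmem g).mp hg).1 t ht
  obtain ⟨c, hca, hcb⟩ := Sharp3.exists_third h3card a b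
  obtain ⟨ε, hεN, hεb⟩ := h.N_trans c hca
  have hε1 : ε ≠ 1 := by
    rintro rfl
    rw [one_smul] at hεb
    exact hcb hεb.symm
  have hεb' : ε • b ≠ b := by rw [hεb]; exact hcb
  obtain ⟨K, instF, instFin, τ, hcardK, hτN, hτinj, hτsurj, hτ0, hτ1, hτadd, hτmul⟩ :=
    exists_field_of_group_irred N H hNcomm hnorm hHcomm ε hεN hε1
      (fun T' hT' hinv => h.irr T' hT' (fun g hga hgb t ht =>
        hinv g ((hHmem g).mpr ⟨hga, hgb⟩) t ht))
  choose κ hκ using (fun g : H => hτmul g g.2)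
  have hκ1 : ∀ g : H, τ (κ g) = (g : G) * ε * (g : G)⁻¹ := by
    intro g
    have := hκ g 1
    rwa [mul_one, hτ1] at this
  have hκmul : ∀ g g' : H, κ (g * g') = κ g * κ g' := by
    intro g g'
    apply hτinj
    rw [hκ1, hκ g (κ g'), hκ1]
    show ((g : G) * (g' : G)) * ε * ((g : G) * (g' : G))⁻¹ =
      (g : G) * ((g' : G) * ε * (g' : G)⁻¹) * (g : G)⁻¹
    group
  have hκone : κ 1 = 1 := by
    apply hτinj
    rw [hκ1, hτ1]
    show (1 : G) * ε * (1 : G)⁻¹ = ε
    group
  have hκinj : Function.Injective κ := by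
    intro g g' hgg
    have h1 : (g : G) * ε * (g : G)⁻¹ = (g' : G) * ε * (g' : G)⁻¹ := by
      rw [← hκ1, ← hκ1, hgg]
    have hg := (hHmem _).mp g.2
    have hg' := (hHmem _).mp g'.2
    have h2 : (g' : G)⁻¹ * (g : G) = 1 := by
      apply ze_comm_trivial h.three hab (g := (g' : G)⁻¹ * (g : G)) (k := ε) ?_ ?_
        (h.N_fix ε hεN) hεb' ?_
      · rw [mul_smul, hg.1]
        exact inv_smul_eq_iff.mpr hg'.1.symm
      · rw [mul_smul, hg.2]
        exact inv_smul_eq_iff.mpr hg'.2.symm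
      · calc (g' : G)⁻¹ * (g : G) * ε * ((g' : G)⁻¹ * (g : G))⁻¹
            = (g' : G)⁻¹ * ((g : G) * ε * (g : G)⁻¹) * (g' : G) := by group
          _ = (g' : G)⁻¹ * ((g' : G) * ε * (g' : G)⁻¹) * (g' : G) := by rw [h1]
          _ = ε := by group
    exact Subtype.ext (inv_mul_eq_one.mp h2).symm
  let f : H →* K := { toFun := κ, map_one' := hκone, map_mul' := hκmul }
  exact isCyclic_of_injective_ringHom f hκinj

/-- S0345, given S0729. -/
theorem zass_simple_twoStab {G : Type u} [Group G] [Finite G] {Ω : Type v} [MulAction G Ω]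
    [Fintype Ω] (hZ : IsZassenhausGroup G Ω) [IsSimpleGroup G] {a b : Ω} (hab : a ≠ b)
    (h729 : Even (Fintype.card Ω) → 6 ≤ Fintype.card Ω → ∀ (G' : Subgroup (Equiv.Perm Ω)),
      IsMultiplyPretransitive G' Ω 3 → (∀ x : Fin 3 ↪ Ω, stabilizer G' x = ⊥) →
      ∀ {a b c : Ω}, a ≠ b → a ≠ c → b ≠ c → ∀ s : G', s • a = b → s • b = a → s • c = c →
      ∃ N : Subgroup G', N ≤ stabilizer G' a ⊓ stabilizer G' b ∧
        (N.subgroupOf (stabilizer G' a ⊓ stabilizer G' b)).Normal ∧
        N.relIndex (stabilizer G' a ⊓ stabilizer G' b) = 2 ∧ ∀ n ∈ N, s * n * s⁻¹ ∈ N) :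
    IsCyclic ↥(stabilizer G a ⊓ stabilizer G b) ∧
      ∃ v : G, orderOf v = 2 ∧ v • a = b ∧ v • b = a ∧
        ∀ h ∈ stabilizer G a ⊓ stabilizer G b, v * h * v⁻¹ = h⁻¹ := by
  have h3 : 3 ≤ Fintype.card Ω := Cfsg.Agent.Lib.Helper21.zass_three_le_card hZ
  rcases Nat.even_or_odd (Nat.card ↥(stabilizer G a ⊓ stabilizer G b)) with heven | hodd
  · have hd := zass_simple_even_half hZ hab heven h729
    obtain ⟨N, z, w, hdata, hcardN, hcardH⟩ := zass_even_data hZ hab heven hd
    refine ⟨ze_twoStab_cyclic hdata h3, w, ?_, hdata.w_a, hdata.w_b, ?_⟩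
    · apply orderOf_eq_prime
      · rw [pow_two]
        exact hdata.w_sq
      · rintro rfl
        have := hdata.w_a
        rw [one_smul] at this
        exact hab this
    · intro g hg
      rw [Subgroup.mem_inf, mem_stabilizer_iff, mem_stabilizer_iff] at hg
      exact hdata.w_inv g hg.1 hg.2
  · have hnil : ∀ q : ℕ, q.Prime → q ∣ Nat.card ↥(stabilizer G a ⊓ stabilizer G b) →
        ¬ ∃ N : Subgroup G, N.Normal ∧ N.index = q ^ (Nat.card G).factorization q := by
      rintro q hq hqd ⟨N, hN, hidx⟩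
      have hqG : q ∣ Nat.card G := hqd.trans (Subgroup.card_subgroup_dvd_card _)
      have hpos : 0 < (Nat.card G).factorization q :=
        hq.factorization_pos_of_dvd Nat.card_pos.ne' hqG
      rcases hN.eq_bot_or_eq_top with hb | ht
      · rw [hb, Subgroup.index_bot] at hidx
        have : Fact q.Prime := ⟨hq⟩
        have hpg : IsPGroup q G := IsPGroup.of_card hidx
        have hcn : Nontrivial (Subgroup.center G) := hpg.center_nontrivial
        have hctop : Subgroup.center G = ⊤ := by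
          rcases (Subgroup.center G).normal_of_characteristic.eq_bot_or_eq_top with hcb | hct
          · exfalso
            rw [hcb] at hcn
            exact not_nontrivial _ hcn
          · exact hct
        obtain ⟨x, y, hxy⟩ := Cfsg.Agent.Lib.Helper21.zass_nonabelian hZ
        have hx : x ∈ Subgroup.center G := by rw [hctop]; exact Subgroup.mem_top x
        exact hxy (Subgroup.mem_center_iff.mp hx y).symm
      · rw [ht, Subgroup.index_top] at hidx
        have := Nat.one_lt_pow hpos.ne' hq.one_lt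
        omega
    obtain ⟨hcyc, -, hinv⟩ := Cfsg.Agent.S0739.result hZ hab hodd hnil
    obtain ⟨⟨s, hs2, hsa, hsb⟩, -, -⟩ := Cfsg.Agent.S0740.result hZ hab
    exact ⟨hcyc, s, hs2, hsa, hsb, hinv s hsa hsb⟩

end Cfsg.Agent.Lib.Helper23
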