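import Mathlib
import Cfsg.Agent.Lib.Helper23.ZassOddB
import Cfsg.Agent.Lib.Helper23.ZassSimple
import Cfsg.Agent.Lib.Helper23.PSL2Main
import Cfsg.Agent.S0339
import Cfsg.Agent.S0345

/-!
# Zassenhaus groups whose point stabilizer has an abelian kernel

Conditionally on Feit's theorem (S0885, passed as hypotheses for the group and for its normal
subgroups): such a group is sharply triply transitive or `PSL(2, K)` with `K` of odd
characteristic.
-/

namespace Cfsg.Agent.Lib.Helper23

open Cfsg MulAction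

universe u v

/-- Lowering the universe of the field. -/
theorem psl_lower_type {G : Type u} [Group G] {K : Type v} [Field K] [Fintype K]
    (hodd : Odd (Fintype.card K))
    (e1 : G ≃* Matrix.ProjectiveSpecialLinearGroup (Fin 2) K) :
    ∃ (K' : Type) (_ : Field K') (_ : Fintype K'), ringChar K' ≠ 2 ∧
      Nonempty (G ≃* Matrix.ProjectiveSpecialLinearGroup (Fin 2) K') := by
  obtain ⟨p, hchar⟩ := CharP.exists K
  obtain ⟨n, hp, hKcard⟩ := FiniteField.card K p
  have : Fact p.Prime := ⟨hp⟩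
  let instFF : Fintype (GaloisField p n) := Fintype.ofFinite _
  have hcardF : Fintype.card (GaloisField p n) = p ^ (n : ℕ) := by
    rw [← Nat.card_eq_fintype_card, GaloisField.card p n n.ne_zero]
  obtain ⟨e2⟩ := psl_congr (Fin 2) (FiniteField.ringEquivOfCardEq (hKcard.trans hcardF.symm))
  refine ⟨GaloisField p n, inferInstance, instFF, ?_, ⟨e1.trans e2⟩⟩
  intro h2
  have h3 := FiniteField.even_card_iff_char_two.mp h2
  rw [hcardF, ← hKcard] at h3
  obtain ⟨k, hk⟩ := hodd
  omega

/-- A Zassenhaus group with two-point stabilizers of odd order `d` and degree `2 d + 2` is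
simple, given Feit's theorem for its normal subgroups. -/
theorem zass_odd_half_simple {G : Type u} [Group G] [Finite G] {Ω : Type v} [MulAction G Ω]
    [Fintype Ω] (hZ : IsZassenhausGroup G Ω) {a b : Ω} (hab : a ≠ b)
    (hodd : Odd (Nat.card ↥(stabilizer G a ⊓ stabilizer G b)))
    (hd : 2 * Nat.card ↥(stabilizer G a ⊓ stabilizer G b) + 2 = Fintype.card Ω)
    (h885 : ∀ M : Subgroup G, IsZassenhausGroup M Ω → ∀ (h e : ℕ), Fintype.card Ω = h + 1 →
      Nat.card ↥(stabilizer M a ⊓ stabilizer M b : Subgroup M) = e → Odd e →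
      ∀ H : Subgroup M, H ≤ stabilizer M a → Nat.card H + 1 = Fintype.card Ω →
      (∀ u ∈ H, u ≠ 1 → ∀ c : Ω, u • c = c → c = a) →
      h - 1 ≤ 2 * e ∨ (IsPGroup 2 H ∧ (∃ u v : H, u * v ≠ v * u) ∧
        (commutator H).index ≤ 4 * e ^ 2 + 1)) :
    IsSimpleGroup G := by
  have h3 : 3 ≤ Fintype.card Ω := Cfsg.Agent.Lib.Helper21.zass_three_le_card hZ
  have hnt : Nontrivial G := by
    obtain ⟨g, hg, -⟩ := hZ.2.2.2.1
    exact ⟨⟨g, 1, hg⟩⟩
  refine ⟨fun M hMn => ?_⟩
  by_cases hM : M = ⊥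
  · exact Or.inl hM
  · right
    have hZM : IsZassenhausGroup M Ω := Cfsg.Agent.S0339.result hZ M hM
    have hcM := (Cfsg.Agent.Lib.Helper21.zass_count hZM hab).1
    have hcG := (Cfsg.Agent.Lib.Helper21.zass_count hZ hab).1
    have hdvd : Nat.card ↥(stabilizer M a ⊓ stabilizer M b : Subgroup M) ∣
        Nat.card ↥(stabilizer G a ⊓ stabilizer G b) := by
      have h1 : Nat.card M ∣ Nat.card G := Subgroup.card_subgroup_dvd_card M
      rw [hcM, hcG] at h1
      exact Nat.dvd_of_mul_dvd_mul_left (Nat.mul_pos (by omega) (by omega)) h1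
    have hoddM : Odd (Nat.card ↥(stabilizer M a ⊓ stabilizer M b : Subgroup M)) :=
      Odd.of_dvd_nat hodd hdvd
    obtain ⟨K, hKle, -, -, hKcard, hKfix⟩ := zass_kernel_pack hZM a
    have hdpos : 0 < Nat.card ↥(stabilizer G a ⊓ stabilizer G b) := Nat.card_pos
    rcases h885 M hZM (Fintype.card Ω - 1) _ (by omega) rfl hoddM K hKle hKcard hKfix with
      h1 | ⟨h2, -, -⟩
    · have hle : Nat.card ↥(stabilizer G a ⊓ stabilizer G b) ≤
          Nat.card ↥(stabilizer M a ⊓ stabilizer M b : Subgroup M) := by omega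
      have heq : Nat.card ↥(stabilizer M a ⊓ stabilizer M b : Subgroup M) =
          Nat.card ↥(stabilizer G a ⊓ stabilizer G b) :=
        le_antisymm (Nat.le_of_dvd hdpos hdvd) hle
      apply Subgroup.eq_top_of_card_eq
      rw [hcM, hcG, heq]
    · exfalso
      obtain ⟨n, hn⟩ := h2.exists_card_eq
      rcases n with _ | n
      · rw [pow_zero] at hn
        omega
      · rw [pow_succ] at hn
        omega

/-- The hypotheses of S0885 on the kernel follow from regularity. -/
theorem kernel_of_reg {G : Type u} [Group G] {Ω : Type v} [MulAction G Ω] [Fintype Ω]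
    [DecidableEq Ω] {x b : Ω} (hxb : x ≠ b) (F : Subgroup G) (hFle : F ≤ stabilizer G x)
    (hreg : ∀ y z : Ω, y ≠ x → z ≠ x → ∃! u : F, (u : G) • y = z) :
    Nat.card F + 1 = Fintype.card Ω ∧ (∀ u ∈ F, u ≠ 1 → ∀ c : Ω, u • c = c → c = x) := by
  have hFfix : ∀ k ∈ F, k • x = x := fun k hk => mem_stabilizer_iff.mp (hFle hk)
  have h2 : 2 ≤ Fintype.card Ω := Fintype.one_lt_card_iff_nontrivial.mpr ⟨⟨x, b, hxb⟩⟩
  constructor
  · have hcard : Nat.card F = Fintype.card {y : Ω // y ≠ x} := by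
      rw [← Nat.card_eq_fintype_card]
      apply Nat.card_congr
      refine Equiv.ofBijective (fun k : F => (⟨(k : G) • b, fun e =>
        hxb (MulAction.injective (k : G) ((hFfix k k.2).trans e.symm))⟩ : {y : Ω // y ≠ x}))
        ⟨?_, ?_⟩
      · intro k k' hkk
        have h1 : (k : G) • b = (k' : G) • b := congrArg Subtype.val hkk
        obtain ⟨u, -, hu⟩ := hreg b ((k' : G) • b) (Ne.symm hxb) (fun e =>
          hxb (MulAction.injective (k' : G) ((hFfix k' k'.2).trans e.symm)))
        rw [hu k h1, hu k' rfl]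
      · intro y
        obtain ⟨k, hk, -⟩ := hreg b y.1 (Ne.symm hxb) y.2
        exact ⟨k, Subtype.ext hk⟩
    rw [hcard, Sharp3.card_ne_one x]
    omega
  · intro u hu hu1 c hc
    by_contra hcx
    obtain ⟨k, -, hk⟩ := hreg c c hcx hcx
    have e1 := hk ⟨u, hu⟩ hc
    have e2 := hk 1 (one_smul G c)
    exact hu1 (congrArg Subtype.val (e1.trans e2.symm))

/-- S0731, given Feit's theorem (S0885). -/
theorem zass_abelian_kernel {G : Type u} [Group G] [Finite G] {Ω : Type v} [MulAction G Ω]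
    [Fintype Ω] (hZ : IsZassenhausGroup G Ω) (x : Ω) (F : Subgroup G)
    (hFle : F ≤ stabilizer G x) (hFab : ∀ u ∈ F, ∀ v ∈ F, u * v = v * u)
    (hreg : ∀ y z : Ω, y ≠ x → z ≠ x → ∃! u : F, (u : G) • y = z)
    (h885G : ∀ {b : Ω}, x ≠ b → ∀ (h e : ℕ), Fintype.card Ω = h + 1 →
      Nat.card ↥(stabilizer G x ⊓ stabilizer G b : Subgroup G) = e → Odd e →
      ∀ H : Subgroup G, H ≤ stabilizer G x → Nat.card H + 1 = Fintype.card Ω →
      (∀ u ∈ H, u ≠ 1 → ∀ c : Ω, u • c = c → c = x) →
      h - 1 ≤ 2 * e ∨ (IsPGroup 2 H ∧ (∃ u v : H, u * v ≠ v * u) ∧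
        (commutator H).index ≤ 4 * e ^ 2 + 1))
    (h885M : ∀ {b : Ω}, x ≠ b → ∀ M : Subgroup G, IsZassenhausGroup M Ω → ∀ (h e : ℕ),
      Fintype.card Ω = h + 1 →
      Nat.card ↥(stabilizer M x ⊓ stabilizer M b : Subgroup M) = e → Odd e →
      ∀ H : Subgroup M, H ≤ stabilizer M x → Nat.card H + 1 = Fintype.card Ω →
      (∀ u ∈ H, u ≠ 1 → ∀ c : Ω, u • c = c → c = x) →
      h - 1 ≤ 2 * e ∨ (IsPGroup 2 H ∧ (∃ u v : H, u * v ≠ v * u) ∧
        (commutator H).index ≤ 4 * e ^ 2 + 1)) :
    (IsMultiplyPretransitive G Ω 3 ∧ ∀ t : Fin 3 ↪ Ω, stabilizer G t = ⊥) ∨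
      ∃ (K : Type) (_ : Field K) (_ : Fintype K), ringChar K ≠ 2 ∧
        Nonempty (G ≃* Matrix.ProjectiveSpecialLinearGroup (Fin 2) K) := by
  classical
  have three := hZ.2.2.1
  have h3 : 3 ≤ Fintype.card Ω := Cfsg.Agent.Lib.Helper21.zass_three_le_card hZ
  obtain ⟨b, hbx, -⟩ := Sharp3.exists_third h3 x x
  have hab : x ≠ b := Ne.symm hbx
  obtain ⟨hFcard, hFfix⟩ := kernel_of_reg hab F hFle hreg
  have hdpos : 0 < Nat.card ↥(stabilizer G x ⊓ stabilizer G b) := Nat.card_pos
  have hle : Fintype.card Ω - 2 ≤ 2 * Nat.card ↥(stabilizer G x ⊓ stabilizer G b) := by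
    rcases Nat.even_or_odd (Nat.card ↥(stabilizer G x ⊓ stabilizer G b)) with heven | hodd
    · exact Cfsg.Agent.S0741.result hZ hab heven
    · rcases h885G hab (Fintype.card Ω - 1) _ (by omega) rfl hodd F hFle hFcard hFfix with
        h1 | ⟨-, ⟨u, v, huv⟩, -⟩
      · omega
      · exfalso
        exact huv (Subtype.ext (hFab u u.2 v v.2))
  obtain ⟨k, hk⟩ := zass_twoStab_dvd hZ hab
  rcases k with _ | _ | k
  · rw [mul_zero] at hk
    omega
  · -- the sharply triply transitive case
    left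
    rw [zero_add, mul_one] at hk
    have h3t := zass_sharp_three_trans hZ hab hk.symm
    constructor
    · refine ⟨fun s t => ?_⟩
      obtain ⟨g, h0, h1, h2⟩ := h3t (s 0) (s 1) (s 2) (t 0) (t 1) (t 2)
        (s.injective.ne (by decide)) (s.injective.ne (by decide)) (s.injective.ne (by decide))
        (t.injective.ne (by decide)) (t.injective.ne (by decide)) (t.injective.ne (by decide))
      refine ⟨g, ?_⟩
      ext i
      rw [Function.Embedding.smul_apply]
      fin_cases i
      · exact h0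
      · exact h1
      · exact h2
    · intro t
      rw [Subgroup.eq_bot_iff_forall]
      intro g hg
      rw [mem_stabilizer_iff] at hg
      have hfix : ∀ i, g • t i = t i := by
        intro i
        have h1 : (g • t) i = t i := DFunLike.congr_fun hg i
        exact h1
      exact three g (t 0) (t 1) (t 2) (t.injective.ne (by decide))
        (t.injective.ne (by decide)) (t.injective.ne (by decide)) (hfix 0) (hfix 1) (hfix 2)
  · right
    have hk2 : k = 0 := by
      by_contra hk0
      have : Nat.card ↥(stabilizer G x ⊓ stabilizer G b) * 3 ≤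
          Nat.card ↥(stabilizer G x ⊓ stabilizer G b) * (k + 1 + 1) :=
        Nat.mul_le_mul_left _ (by omega)
      omega
    rw [hk2, zero_add] at hk
    have hd2 : 2 * Nat.card ↥(stabilizer G x ⊓ stabilizer G b) + 2 = Fintype.card Ω := by omega
    rcases Nat.even_or_odd (Nat.card ↥(stabilizer G x ⊓ stabilizer G b)) with heven | hodd
    · obtain ⟨p, f, K, instF, instFin, hp, hp2, hK, hΩ, hiso⟩ :=
        Cfsg.Agent.S0742.result hZ hab heven (by omega)
      refine ⟨K, instF, instFin, ?_, hiso⟩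
      intro h2
      have h4 := FiniteField.even_card_iff_char_two.mp h2
      omega
    · have hsimple : IsSimpleGroup G := zass_odd_half_simple hZ hab hodd hd2 (h885M hab)
      obtain ⟨-, hw⟩ := Cfsg.Agent.S0345.result hZ hab
      obtain ⟨N, w, hdata, hcardN⟩ := zass_odd_data hZ hab hodd hd2 hw
      have hG : Nat.card G = Fintype.card Ω * (Fintype.card Ω - 1) *
          Nat.card ↥(stabilizer G x ⊓ stabilizer G b) := by
        have h1 := Cfsg.Agent.Lib.Helper21.zass_index hZ hab
        have h2 := Subgroup.card_mul_index (stabilizer G x ⊓ stabilizer G b : Subgroup G)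
        rw [h1] at h2
        rw [← h2, mul_comm]
      obtain ⟨K, instF, instFin, hcardK, ⟨e1⟩⟩ := zass_odd_psl hdata hodd hcardN hd2 hG
      exact psl_lower_type ⟨Nat.card ↥(stabilizer G x ⊓ stabilizer G b), by omega⟩ e1

end Cfsg.Agent.Lib.Helper23
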