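import Mathlib
import Cfsg.Agent.Lib.Helper9.Zassenhaus
import Cfsg.Agent.Lib.Helper21.Zass3
import Cfsg.Agent.Lib.Helper21.Zass8
import Cfsg.Agent.Lib.Helper83.LinearCount
import Cfsg.Agent.Lib.Helper83.Quot
import Cfsg.Agent.Lib.Helper20.Frob
import Cfsg.Agent.Lib.Helper35.TiSetup
import Cfsg.Agent.S0878
import Cfsg.Agent.S0345

/-!
# Feit's theorem on Zassenhaus groups: structure of the point stabilizer

`G` is a Zassenhaus group on `Ω`, `N = G_a` a point stabilizer, `H ≤ N` its Frobenius kernel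
(in the form of the hypotheses of S0885).  Group-theoretic facts and the characters of `N`
that are trivial on `H`.
-/

set_option autoImplicit false

namespace Cfsg.Agent.Lib.Helper23

open Cfsg MulAction
open scoped ComplexConjugate

section FeitA

variable {G Ω : Type*} [Group G] [MulAction G Ω]

/-- The kernel `H` consists of the identity and the elements of the point stabilizer fixing no
other point. -/
theorem feit_mem_iff [Finite G] [Fintype Ω] (hZ : IsZassenhausGroup G Ω) (a : Ω) (H : Subgroup G)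
    (hHa : H ≤ stabilizer G a) (hHcard : Nat.card H + 1 = Fintype.card Ω)
    (hHfix : ∀ u ∈ H, u ≠ 1 → ∀ c : Ω, u • c = c → c = a) (g : G) :
    g ∈ H ↔ g • a = a ∧ (g = 1 ∨ ∀ ω : Ω, ω ≠ a → g • ω ≠ ω) := by
  classical
  obtain ⟨K, hKmem, hKtr, -⟩ := (Cfsg.Agent.Lib.Helper9.zdata_of_zassenhaus hZ).exists_kernel a
  have hHK : H ≤ K := by
    intro u hu
    rw [hKmem]
    refine ⟨mem_stabilizer_iff.mp (hHa hu), ?_⟩
    by_cases hu1 : u = 1
    · exact Or.inl hu1
    · exact Or.inr (fun ω hω hfix => hω (hHfix u hu hu1 ω hfix))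
  have h3 : 3 ≤ Fintype.card Ω := Cfsg.Agent.Lib.Helper21.zass_three_le_card hZ
  obtain ⟨b, hb⟩ : ∃ b : Ω, b ≠ a := by
    obtain ⟨x, y, hxy⟩ := Cfsg.Agent.Lib.Helper21.zass_exists_pair hZ
    by_cases hx : x = a
    · exact ⟨y, fun hy => hxy (hx.trans hy.symm)⟩
    · exact ⟨x, hx⟩
  have hKfix : ∀ k ∈ K, k • a = a := fun k hk => ((hKmem k).mp hk).1
  have hKsemi : ∀ k ∈ K, ∀ y : Ω, y ≠ a → k • y = y → k = 1 := by
    intro k hk y hy hky
    rcases ((hKmem k).mp hk).2 with h1 | h1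
    · exact h1
    · exact absurd hky (h1 y hy)
  have hcardK : Nat.card K ≤ Nat.card H := by
    have h1 : Nat.card K ≤ Nat.card {x : Ω // x ≠ a} := by
      apply Nat.card_le_card_of_injective (fun k : K => (⟨(k : G) • b, fun e =>
        hb (MulAction.injective (k : G) (e.trans (hKfix k k.2).symm))⟩ : {x : Ω // x ≠ a}))
      intro k k' hkk
      have h1 : (k : G) • b = (k' : G) • b := congrArg Subtype.val hkk
      have h2 : ((k' : G)⁻¹ * (k : G)) • b = b := by
        rw [mul_smul, h1, inv_smul_smul]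
      have h3 := hKsemi _ (K.mul_mem (K.inv_mem k'.2) k.2) b hb h2
      exact Subtype.ext (inv_mul_eq_one.mp h3).symm
    have h2 : Nat.card {x : Ω // x ≠ a} = Fintype.card Ω - 1 := by
      rw [Nat.card_eq_fintype_card]
      exact Set.card_ne_eq a
    omega
  have hEq : H = K := Subgroup.eq_of_le_of_card_ge hHK hcardK
  rw [hEq]
  exact hKmem g

/-- An element of the point stabilizer outside `H` fixes a second point. -/
theorem feit_second_fix [Finite G] [Fintype Ω] (hZ : IsZassenhausGroup G Ω) (a : Ω)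
    (H : Subgroup G) (hHa : H ≤ stabilizer G a) (hHcard : Nat.card H + 1 = Fintype.card Ω)
    (hHfix : ∀ u ∈ H, u ≠ 1 → ∀ c : Ω, u • c = c → c = a) {g : G} (hga : g • a = a)
    (hgH : g ∉ H) : ∃ c : Ω, c ≠ a ∧ g • c = c := by
  by_contra hcon
  push Not at hcon
  exact hgH ((feit_mem_iff hZ a H hHa hHcard hHfix g).mpr ⟨hga, Or.inr hcon⟩)

/-- `H` contains the centralizer of each of its non-identity elements. -/
theorem feit_centralizer [Finite G] [Fintype Ω] (hZ : IsZassenhausGroup G Ω) (a : Ω)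
    (H : Subgroup G) (hHa : H ≤ stabilizer G a) (hHcard : Nat.card H + 1 = Fintype.card Ω)
    (hHfix : ∀ u ∈ H, u ≠ 1 → ∀ c : Ω, u • c = c → c = a) :
    ∀ k ∈ H, k ≠ 1 → Subgroup.centralizer ({k} : Set G) ≤ H := by
  intro k hk hk1 g hg
  rw [Subgroup.mem_centralizer_singleton_iff] at hg
  have hka : k • a = a := mem_stabilizer_iff.mp (hHa hk)
  have hga : g • a = a := by
    apply hHfix k hk hk1
    rw [← mul_smul, ← hg, mul_smul, hka]
  by_contra hgH
  obtain ⟨c, hca, hgc⟩ := feit_second_fix hZ a H hHa hHcard hHfix hga hgH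
  have hkc : k • c ≠ c := fun e => hca (hHfix k hk hk1 c e)
  have hkca : k • c ≠ a := by
    intro e
    rw [← hka] at e
    exact hca (MulAction.injective k e)
  have hgkc : g • (k • c) = k • c := by
    rw [← mul_smul, hg, mul_smul, hgc]
  have hg1 : g = 1 :=
    hZ.2.2.1 g a c (k • c) (Ne.symm hca) (Ne.symm hkc) (Ne.symm hkca) hga hgc hgkc
  exact hgH (hg1 ▸ H.one_mem)

/-- `H` is normal in the point stabilizer. -/
theorem feit_normal [Finite G] [Fintype Ω] (hZ : IsZassenhausGroup G Ω) (a : Ω)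
    (H : Subgroup G) (hHa : H ≤ stabilizer G a) (hHcard : Nat.card H + 1 = Fintype.card Ω)
    (hHfix : ∀ u ∈ H, u ≠ 1 → ∀ c : Ω, u • c = c → c = a) :
    (H.subgroupOf (stabilizer G a)).Normal := by
  have h := (Cfsg.Agent.S0878.result hZ a H hHa hHcard hHfix).2
  rw [← h]
  exact Subgroup.normal_in_normalizer

/-- The point stabilizer is the product of `H` and a two-point stabilizer. -/
theorem feit_decomp [Finite G] [Fintype Ω] {a b : Ω} (hab : a ≠ b)
    (H : Subgroup G) (hHa : H ≤ stabilizer G a) (hHcard : Nat.card H + 1 = Fintype.card Ω)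
    (hHfix : ∀ u ∈ H, u ≠ 1 → ∀ c : Ω, u • c = c → c = a) {x : G} (hx : x • a = a) :
    ∃ u ∈ H, u⁻¹ * x ∈ stabilizer G a ⊓ stabilizer G b := by
  have hxb : x • b ≠ a := by
    intro e
    rw [← hx] at e
    exact hab (MulAction.injective x e).symm
  obtain ⟨u, hu, hub⟩ := Cfsg.Agent.Lib.Helper21.zass_H_trans a H hHa hHcard hHfix
    (Ne.symm hab) hxb
  refine ⟨u, hu, Subgroup.mem_inf.mpr ⟨?_, ?_⟩⟩
  · show (u⁻¹ * x) • a = a
    rw [mul_smul, hx, inv_smul_eq_iff]
    exact (mem_stabilizer_iff.mp (hHa hu)).symm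
  · show (u⁻¹ * x) • b = b
    rw [mul_smul, inv_smul_eq_iff]
    exact hub.symm

/-- The index of `H` in the point stabilizer is the order of a two-point stabilizer. -/
theorem feit_index [Finite G] [Fintype Ω] (hZ : IsZassenhausGroup G Ω) {a b : Ω} (hab : a ≠ b)
    (H : Subgroup G) (hHa : H ≤ stabilizer G a) (hHcard : Nat.card H + 1 = Fintype.card Ω) :
    (H.subgroupOf (stabilizer G a)).index =
      Nat.card ↥(stabilizer G a ⊓ stabilizer G b : Subgroup G) := by
  have h3 : 3 ≤ Fintype.card Ω := Cfsg.Agent.Lib.Helper21.zass_three_le_card hZ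
  have h1 := (Cfsg.Agent.Lib.Helper21.zass_count hZ hab).1
  have h2 : Nat.card G = Nat.card (stabilizer G a) * Fintype.card Ω := by
    have := hZ.2.1
    have : IsPretransitive G Ω := MulAction.isPretransitive_of_is_two_pretransitive
    have hidx : (stabilizer G a).index = Nat.card Ω :=
      MulAction.index_stabilizer_of_transitive G a
    rw [← Subgroup.card_mul_index (stabilizer G a), hidx, Nat.card_eq_fintype_card (α := Ω)]
  have h4 : Nat.card (H.subgroupOf (stabilizer G a)) = Nat.card H :=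
    Nat.card_congr (Subgroup.subgroupOfEquivOfLe hHa).toEquiv
  have h5 := Subgroup.card_mul_index (H.subgroupOf (stabilizer G a))
  rw [h4] at h5
  have h6 : Nat.card H = Fintype.card Ω - 1 := by omega
  rw [h6] at h5
  rw [h1] at h2
  have h7 : Fintype.card Ω * ((Fintype.card Ω - 1) *
      Nat.card ↥(stabilizer G a ⊓ stabilizer G b : Subgroup G)) =
      Fintype.card Ω * Nat.card (stabilizer G a) := by
    rw [← mul_assoc, h2, mul_comm]
  have h8 := Nat.eq_of_mul_eq_mul_left (by omega) h7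
  rw [← h5] at h8
  exact (Nat.eq_of_mul_eq_mul_left (by omega) h8).symm

/-- The quotient of the point stabilizer by `H` is commutative. -/
theorem feit_quot_comm [Finite G] [Fintype Ω] (hZ : IsZassenhausGroup G Ω) {a b : Ω}
    (hab : a ≠ b) [IsSimpleGroup G] (H : Subgroup G) (hHa : H ≤ stabilizer G a)
    (hHcard : Nat.card H + 1 = Fintype.card Ω)
    (hHfix : ∀ u ∈ H, u ≠ 1 → ∀ c : Ω, u • c = c → c = a)
    [hn : (H.subgroupOf (stabilizer G a)).Normal] :
    IsMulCommutative (↥(stabilizer G a) ⧸ H.subgroupOf (stabilizer G a)) := by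
  have hcyc := (Cfsg.Agent.S0345.result hZ hab).1
  have hEcomm : ∀ x ∈ (stabilizer G a ⊓ stabilizer G b : Subgroup G),
      ∀ y ∈ (stabilizer G a ⊓ stabilizer G b : Subgroup G), x * y = y * x := by
    intro x hx y hy
    let _ := IsCyclic.commGroup (α := ↥(stabilizer G a ⊓ stabilizer G b : Subgroup G))
    exact congrArg Subtype.val
      (mul_comm (⟨x, hx⟩ : ↥(stabilizer G a ⊓ stabilizer G b : Subgroup G)) ⟨y, hy⟩)
  have hrep : ∀ q : ↥(stabilizer G a) ⧸ H.subgroupOf (stabilizer G a),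
      ∃ x : ↥(stabilizer G a), (x : G) ∈ stabilizer G a ⊓ stabilizer G b ∧
        (x : ↥(stabilizer G a) ⧸ H.subgroupOf (stabilizer G a)) = q := by
    intro q
    obtain ⟨y, rfl⟩ := QuotientGroup.mk_surjective q
    obtain ⟨u, hu, hux⟩ := feit_decomp hab H hHa hHcard hHfix (mem_stabilizer_iff.mp y.2)
    refine ⟨⟨u⁻¹ * (y : G), (Subgroup.mem_inf.mp hux).1⟩, hux, ?_⟩
    rw [QuotientGroup.eq]
    have h1 := hn.conj_mem (⟨u, hHa hu⟩ : ↥(stabilizer G a))
      (Subgroup.mem_subgroupOf.mpr hu) y⁻¹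
    have h2 : (⟨u⁻¹ * (y : G), (Subgroup.mem_inf.mp hux).1⟩ : ↥(stabilizer G a))⁻¹ * y =
        y⁻¹ * (⟨u, hHa hu⟩ : ↥(stabilizer G a)) * y⁻¹⁻¹ := by
      apply Subtype.ext
      simp [mul_assoc]
    rw [h2]
    exact h1
  refine ⟨⟨fun q₁ q₂ => ?_⟩⟩
  obtain ⟨x, hx, rfl⟩ := hrep q₁
  obtain ⟨y, hy, rfl⟩ := hrep q₂
  rw [← QuotientGroup.mk_mul, ← QuotientGroup.mk_mul]
  congr 1
  exact Subtype.ext (hEcomm _ hx _ hy)

/-- An irreducible character of the point stabilizer that is trivial on `H` has degree one. -/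
theorem feit_lin [Fintype G] [Fintype Ω] (hZ : IsZassenhausGroup G Ω) {a b : Ω} (hab : a ≠ b)
    [IsSimpleGroup G] (H : Subgroup G) (hHa : H ≤ stabilizer G a)
    (hHcard : Nat.card H + 1 = Fintype.card Ω)
    (hHfix : ∀ u ∈ H, u ≠ 1 → ∀ c : Ω, u • c = c → c = a)
    (ξ : ↥(stabilizer G a) → ℂ) (hξ : IsIrrCharacter ↥(stabilizer G a) ξ)
    (hξH : ∀ k : ↥(stabilizer G a), (k : G) ∈ H → ξ k = ξ 1) : ξ 1 = 1 := by
  have hn := feit_normal hZ a H hHa hHcard hHfix
  have := feit_quot_comm hZ hab H hHa hHcard hHfix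
  obtain ⟨ψ, hψ⟩ := Cfsg.Agent.Lib.Helper83.exists_inflate_eq (H.subgroupOf (stabilizer G a))
    ⟨ξ, hξ⟩ (fun x hx => hξH x (Subgroup.mem_subgroupOf.mp hx))
  have h1 : ξ 1 = (ψ : ↥(stabilizer G a) ⧸ H.subgroupOf (stabilizer G a) → ℂ) 1 := by
    have := congrArg (fun χ : IrrCharacter ↥(stabilizer G a) =>
      (χ : ↥(stabilizer G a) → ℂ) 1) hψ
    exact this.symm
  rw [h1]
  exact Cfsg.Agent.Lib.Helper83.irr_comm_degree ψ.2

/-- The number of irreducible characters of the point stabilizer that are trivial on `H`. -/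
theorem feit_card_triv [Fintype G] [Fintype Ω] (hZ : IsZassenhausGroup G Ω) {a b : Ω}
    (hab : a ≠ b) [IsSimpleGroup G] (H : Subgroup G) (hHa : H ≤ stabilizer G a)
    (hHcard : Nat.card H + 1 = Fintype.card Ω)
    (hHfix : ∀ u ∈ H, u ≠ 1 → ∀ c : Ω, u • c = c → c = a) :
    Nat.card {χ : IrrCharacter ↥(stabilizer G a) // ∀ x ∈ H.subgroupOf (stabilizer G a),
      (χ : ↥(stabilizer G a) → ℂ) x = (χ : ↥(stabilizer G a) → ℂ) 1} =
      Nat.card ↥(stabilizer G a ⊓ stabilizer G b : Subgroup G) := by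
  have hn := feit_normal hZ a H hHa hHcard hHfix
  have := feit_quot_comm hZ hab H hHa hHcard hHfix
  rw [← Nat.card_congr (Cfsg.Agent.Lib.Helper83.inflateEquiv (H.subgroupOf (stabilizer G a))),
    Cfsg.Agent.Lib.Helper83.card_irr_comm, ← feit_index hZ hab H hHa hHcard]
  rfl

end FeitA

end Cfsg.Agent.Lib.Helper23
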