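import Mathlib
import Cfsg.Agent.Lib.Helper23.FeitA
import Cfsg.Agent.Lib.Helper4.CharDecomp
import Cfsg.Agent.Lib.Helper4.CharDual
import Cfsg.Agent.Lib.Helper35.Ind

/-!
# Feit's theorem on Zassenhaus groups: a lower bound for character degrees

In a simple Zassenhaus group with two-point stabilizers of odd order `e` on `h + 1` points,
every non-principal irreducible character `Λ` satisfies `2 Λ(1)² ≥ (e - 1)(h + 1) + 2`:
`Λ Λ̄` contains the principal character and the characters induced from the non-principal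
linear characters of the point stabilizer that are trivial on its kernel `H`, and at most two
of the latter induce the same character.
-/

set_option autoImplicit false

namespace Cfsg.Agent.Lib.Helper23

open Cfsg MulAction
open scoped ComplexConjugate

/-- An irreducible character of a simple group taking its degree at a non-identity element is
the principal character. -/
theorem irr_simple_trivial {G : Type*} [Group G] [Fintype G] [IsSimpleGroup G] {Λ : G → ℂ}
    (hΛ : IsIrrCharacter G Λ) {k : G} (hk1 : k ≠ 1) (hk : Λ k = Λ 1) : Λ = fun _ => 1 := by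
  classical
  obtain ⟨K, hKn, hKmem⟩ := Cfsg.Agent.Lib.Helper83.exists_ker hΛ
  have hKtop : K = ⊤ := by
    rcases hKn.eq_bot_or_eq_top with h | h
    · exfalso
      have : k ∈ K := (hKmem k).mpr hk
      rw [h, Subgroup.mem_bot] at this
      exact hk1 this
    · exact h
  have hconst : ∀ g : G, Λ g = Λ 1 := fun g => (hKmem g).mp (hKtop ▸ Subgroup.mem_top g)
  obtain ⟨n, hn0, hn⟩ := Cfsg.Agent.Lib.Helper4.irr_one_nat (⟨Λ, hΛ⟩ : IrrCharacter G)
  have hn' : Λ 1 = (n : ℂ) := hn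
  have hnorm : classInner Λ Λ = 1 := by
    rw [Cfsg.Agent.Lib.Helper35.classInner_irr' hΛ hΛ, if_pos rfl]
  unfold classInner at hnorm
  have hG : (Nat.card G : ℂ) ≠ 0 := by exact_mod_cast (Nat.card_pos (α := G)).ne'
  have h1 : ∑ g : G, Λ g * conj (Λ g) = (Nat.card G : ℂ) * ((n : ℂ) * (n : ℂ)) := by
    rw [Finset.sum_congr rfl (fun g _ => by rw [hconst g, hn', Complex.conj_natCast]),
      Finset.sum_const, Finset.card_univ, nsmul_eq_mul, Nat.card_eq_fintype_card]
  rw [h1, ← mul_assoc, inv_mul_cancel₀ hG, one_mul] at hnorm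
  have h2 : n * n = 1 := by exact_mod_cast hnorm
  have h3 : n = 1 := by nlinarith
  funext g
  rw [hconst g, hn', h3, Nat.cast_one]

section FeitDeg

variable {G Ω : Type*} [Group G] [MulAction G Ω]

/-- `Λ Λ̄` contains every character induced from a character of the point stabilizer that is
`1` on `H`. -/
theorem feit_mult_pos [Fintype G] [Fintype Ω] (hZ : IsZassenhausGroup G Ω) (a : Ω)
    [IsSimpleGroup G] (H : Subgroup G) (hHa : H ≤ stabilizer G a)
    (hHcard : Nat.card H + 1 = Fintype.card Ω)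
    (hHfix : ∀ u ∈ H, u ≠ 1 → ∀ c : Ω, u • c = c → c = a)
    (Λ : G → ℂ) (hΛ : IsIrrCharacter G Λ) (hΛ1 : Λ ≠ fun _ => 1)
    (μ : ↥(stabilizer G a) → ℂ) (hμ : IsCharacter ↥(stabilizer G a) μ)
    (hμH : ∀ u : ↥(stabilizer G a), (u : G) ∈ H → μ u = 1) :
    classInner (fun g => Λ g * conj (Λ g)) (indFun (stabilizer G a) μ) ≠ 0 := by
  classical
  let _ : Fintype ↥(stabilizer G a) := Fintype.ofFinite _
  have := Cfsg.Agent.Lib.Helper4.irr_finite (G := ↥(stabilizer G a))
  let _ : Fintype (IrrCharacter ↥(stabilizer G a)) := Fintype.ofFinite _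
  have hn := feit_normal hZ a H hHa hHcard hHfix
  have hC := feit_centralizer hZ a H hHa hHcard hHfix
  have hfrob := Cfsg.Agent.Lib.Helper35.ti_frob H (stabilizer G a) hC
  have h3 : 3 ≤ Fintype.card Ω := Cfsg.Agent.Lib.Helper21.zass_three_le_card hZ
  have hΛc : IsCharacter G Λ := Cfsg.Agent.Lib.Helper35.isChar_of_irr hΛ
  have hXc : IsCharacter ↥(stabilizer G a) (Cfsg.Agent.Lib.Helper35.res (stabilizer G a) Λ) :=
    Cfsg.Agent.Lib.Helper35.isCharacter_res (stabilizer G a) hΛc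
  have hYc : IsCharacter ↥(stabilizer G a)
      (Cfsg.Agent.Lib.Helper35.res (stabilizer G a) Λ * μ) :=
    Cfsg.Agent.Lib.Helper35.isCharacter_mul hXc hμ
  obtain ⟨m, hm⟩ := Cfsg.Agent.Lib.Helper4.exists_decomp_of_isCharacter _ hXc
  obtain ⟨m', hm'⟩ := Cfsg.Agent.Lib.Helper4.exists_decomp_of_isCharacter _ hYc
  -- a constituent not trivial on `H`
  have hex : ∃ θ : IrrCharacter ↥(stabilizer G a),
      (¬ ∀ x ∈ H.subgroupOf (stabilizer G a),
        (θ : ↥(stabilizer G a) → ℂ) x = (θ : ↥(stabilizer G a) → ℂ) 1) ∧ m θ ≠ 0 := by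
    by_contra hcon0
    have hcon : ∀ θ : IrrCharacter ↥(stabilizer G a),
        (¬ ∀ x ∈ H.subgroupOf (stabilizer G a),
          (θ : ↥(stabilizer G a) → ℂ) x = (θ : ↥(stabilizer G a) → ℂ) 1) → m θ = 0 := by
      intro θ hP
      by_contra h
      exact hcon0 ⟨θ, hP, h⟩
    have hH1 : ∃ k ∈ H, k ≠ 1 := by
      by_contra hall
      push Not at hall
      have : Nat.card H = 1 := by
        rw [Nat.card_eq_one_iff_unique]
        exact ⟨⟨fun x y => Subtype.ext ((hall x x.2).trans (hall y y.2).symm)⟩, ⟨1⟩⟩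
      omega
    obtain ⟨k, hk, hk1⟩ := hH1
    apply hΛ1
    apply irr_simple_trivial hΛ hk1
    have e1 := congrFun hm ⟨k, hHa hk⟩
    have e2 := congrFun hm 1
    simp only [Finset.sum_apply, Pi.smul_apply, smul_eq_mul] at e1 e2
    have e1' : Λ k = ∑ θ : IrrCharacter ↥(stabilizer G a),
        (m θ : ℂ) * (θ : ↥(stabilizer G a) → ℂ) ⟨k, hHa hk⟩ := e1
    have e2' : Λ 1 = ∑ θ : IrrCharacter ↥(stabilizer G a),
        (m θ : ℂ) * (θ : ↥(stabilizer G a) → ℂ) 1 := e2
    rw [e1', e2']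
    apply Finset.sum_congr rfl
    intro θ _
    by_cases hP : ∀ x ∈ H.subgroupOf (stabilizer G a),
        (θ : ↥(stabilizer G a) → ℂ) x = (θ : ↥(stabilizer G a) → ℂ) 1
    · rw [hP ⟨k, hHa hk⟩ (Subgroup.mem_subgroupOf.mpr hk)]
    · rw [hcon θ hP]
      simp
  obtain ⟨θ, hθP, hθm⟩ := hex
  -- the multiplicities of `θ` in `Λ_N` and in `Λ_N μ` agree
  have hvan : ∀ y : ↥(stabilizer G a), (y : G) ∉ H → (θ : ↥(stabilizer G a) → ℂ) y = 0 :=
    fun y hy => Cfsg.Agent.Lib.Helper20.irr_vanish_of_centralizer (H.subgroupOf (stabilizer G a))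
      y (hfrob y (fun h => hy (Subgroup.mem_subgroupOf.mp h))) θ hθP
  have hmθ : classInner (Cfsg.Agent.Lib.Helper35.res (stabilizer G a) Λ)
      (θ : ↥(stabilizer G a) → ℂ) = (m θ : ℂ) := by
    conv_lhs => rw [hm]
    exact Cfsg.Agent.Lib.Helper4.classInner_sum_irr _ θ
  have hm'θ : classInner (Cfsg.Agent.Lib.Helper35.res (stabilizer G a) Λ * μ)
      (θ : ↥(stabilizer G a) → ℂ) = (m' θ : ℂ) := by
    conv_lhs => rw [hm']
    exact Cfsg.Agent.Lib.Helper4.classInner_sum_irr _ θ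
  have heq : (m' θ : ℂ) = (m θ : ℂ) := by
    rw [← hm'θ, ← hmθ]
    unfold classInner
    congr 1
    apply Finset.sum_congr rfl
    intro y _
    by_cases hy : (y : G) ∈ H
    · rw [Pi.mul_apply, hμH y hy, mul_one]
    · rw [hvan y hy, map_zero, mul_zero, mul_zero]
  have hm'm : m' θ = m θ := by exact_mod_cast heq
  -- the inner product
  have hf : IsClassFunction G (fun g => Λ g * conj (Λ g)) := by
    have hcf := Cfsg.Agent.Lib.Helper35.isClassFunction_of_isCharacter hΛc
    intro g x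
    show Λ (x * g * x⁻¹) * conj (Λ (x * g * x⁻¹)) = Λ g * conj (Λ g)
    rw [hcf g x]
  rw [Cfsg.Agent.Lib.Helper35.frobenius_reciprocity' (stabilizer G a) μ _ hf]
  have hrw : classInner (Cfsg.Agent.Lib.Helper35.res (stabilizer G a)
      (fun g => Λ g * conj (Λ g))) μ =
      classInner (Cfsg.Agent.Lib.Helper35.res (stabilizer G a) Λ)
        (Cfsg.Agent.Lib.Helper35.res (stabilizer G a) Λ * μ) := by
    unfold classInner
    congr 1
    apply Finset.sum_congr rfl
    intro y _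
    simp only [Cfsg.Agent.Lib.Helper35.res_apply, Pi.mul_apply, map_mul]
    ring
  rw [hrw]
  have hsum : classInner (Cfsg.Agent.Lib.Helper35.res (stabilizer G a) Λ)
      (Cfsg.Agent.Lib.Helper35.res (stabilizer G a) Λ * μ) =
      ((∑ χ : IrrCharacter ↥(stabilizer G a), m χ * m' χ : ℕ) : ℂ) := by
    conv_lhs => rw [hm']
    conv_lhs => enter [1]; rw [hm]
    rw [Cfsg.Agent.Lib.Helper4.classInner_sum_sum_irr]
    push_cast
    apply Finset.sum_congr rfl
    intro χ _
    rw [Complex.conj_natCast]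
  rw [hsum]
  have hpos : 0 < ∑ χ : IrrCharacter ↥(stabilizer G a), m χ * m' χ := by
    apply Finset.sum_pos'
    · intro χ _
      exact Nat.zero_le _
    · refine ⟨θ, Finset.mem_univ _, ?_⟩
      rw [hm'm]
      exact Nat.mul_pos (Nat.pos_of_ne_zero hθm) (Nat.pos_of_ne_zero hθm)
  exact_mod_cast hpos.ne'

open Classical in
/-- The characters of the point stabilizer trivial on `H` occur exactly twice in total in the
restriction of a class function of degree `|H| + 1` that is `1` on `H ∖ 1`. -/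
theorem feit_sum_triv [Fintype G] [Fintype Ω] (hZ : IsZassenhausGroup G Ω) {a b : Ω}
    (hab : a ≠ b) [IsSimpleGroup G] (H : Subgroup G) (hHa : H ≤ stabilizer G a)
    (hHcard : Nat.card H + 1 = Fintype.card Ω)
    (hHfix : ∀ u ∈ H, u ≠ 1 → ∀ c : Ω, u • c = c → c = a)
    (Ψ : G → ℂ) (hΨ1 : Ψ 1 = (Nat.card H : ℂ) + 1) (hΨH : ∀ u ∈ H, u ≠ 1 → Ψ u = 1)
    [Fintype ↥(stabilizer G a)] [Fintype (IrrCharacter ↥(stabilizer G a))] :
    ∑ θ : IrrCharacter ↥(stabilizer G a),
      (if (∀ x ∈ H.subgroupOf (stabilizer G a),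
        (θ : ↥(stabilizer G a) → ℂ) x = (θ : ↥(stabilizer G a) → ℂ) 1) then
        classInner (Cfsg.Agent.Lib.Helper35.res (stabilizer G a) Ψ)
          (θ : ↥(stabilizer G a) → ℂ) else 0) = 2 := by
  classical
  have hn := feit_normal hZ a H hHa hHcard hHfix
  have hidx := feit_index hZ hab H hHa hHcard
  have h3 : 3 ≤ Fintype.card Ω := Cfsg.Agent.Lib.Helper21.zass_three_le_card hZ
  have hcardH' : Nat.card (H.subgroupOf (stabilizer G a)) = Nat.card H :=
    Nat.card_congr (Subgroup.subgroupOfEquivOfLe hHa).toEquiv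
  have hcardN : Nat.card ↥(stabilizer G a) =
      Nat.card H * (H.subgroupOf (stabilizer G a)).index := by
    rw [← hcardH', Subgroup.card_mul_index]
  -- the sum of the characters trivial on `H`
  have hT : ∀ y : ↥(stabilizer G a), ∑ θ : IrrCharacter ↥(stabilizer G a),
      (if (∀ x ∈ H.subgroupOf (stabilizer G a),
        (θ : ↥(stabilizer G a) → ℂ) x = (θ : ↥(stabilizer G a) → ℂ) 1) then
        (θ : ↥(stabilizer G a) → ℂ) y else 0) =
      if (y : G) ∈ H then ((H.subgroupOf (stabilizer G a)).index : ℂ) else 0 := by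
    intro y
    have h1 := Cfsg.Agent.Lib.Helper20.column_orth_quot (H.subgroupOf (stabilizer G a)) y 1
    have h2 : ∀ θ : IrrCharacter ↥(stabilizer G a),
        (if (∀ x ∈ H.subgroupOf (stabilizer G a),
          (θ : ↥(stabilizer G a) → ℂ) x = (θ : ↥(stabilizer G a) → ℂ) 1) then
          (θ : ↥(stabilizer G a) → ℂ) y * conj ((θ : ↥(stabilizer G a) → ℂ) 1) else 0) =
        (if (∀ x ∈ H.subgroupOf (stabilizer G a),
          (θ : ↥(stabilizer G a) → ℂ) x = (θ : ↥(stabilizer G a) → ℂ) 1) then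
          (θ : ↥(stabilizer G a) → ℂ) y else 0) := by
      intro θ
      by_cases hP : ∀ x ∈ H.subgroupOf (stabilizer G a),
          (θ : ↥(stabilizer G a) → ℂ) x = (θ : ↥(stabilizer G a) → ℂ) 1
      · rw [if_pos hP, if_pos hP, feit_lin hZ hab H hHa hHcard hHfix _ θ.2
          (fun k hk => hP k (Subgroup.mem_subgroupOf.mpr hk)), map_one, mul_one]
      · rw [if_neg hP, if_neg hP]
    rw [Finset.sum_congr rfl (fun θ _ => h2 θ)] at h1
    rw [h1]
    have h4 : IsConj (((1 : ↥(stabilizer G a)) :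
        ↥(stabilizer G a) ⧸ H.subgroupOf (stabilizer G a)))
        ((y : ↥(stabilizer G a) ⧸ H.subgroupOf (stabilizer G a))) ↔ (y : G) ∈ H := by
      rw [QuotientGroup.mk_one, isConj_one_right, QuotientGroup.eq_one_iff,
        Subgroup.mem_subgroupOf]
    have h5 : Subgroup.centralizer ({((1 : ↥(stabilizer G a)) :
        ↥(stabilizer G a) ⧸ H.subgroupOf (stabilizer G a))} : Set _) = ⊤ := by
      ext x
      simp [Subgroup.mem_centralizer_iff]
    by_cases hy : (y : G) ∈ H
    · rw [if_pos (h4.mpr hy), if_pos hy, h5, Subgroup.card_top]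
      rfl
    · rw [if_neg (fun hc => hy (h4.mp hc)), if_neg hy]
  -- exchange the sums
  have h6 : ∑ θ : IrrCharacter ↥(stabilizer G a),
      (if (∀ x ∈ H.subgroupOf (stabilizer G a),
        (θ : ↥(stabilizer G a) → ℂ) x = (θ : ↥(stabilizer G a) → ℂ) 1) then
        classInner (Cfsg.Agent.Lib.Helper35.res (stabilizer G a) Ψ)
          (θ : ↥(stabilizer G a) → ℂ) else 0) =
      (Nat.card ↥(stabilizer G a) : ℂ)⁻¹ * ∑ y : ↥(stabilizer G a),
        Ψ y * conj (∑ θ : IrrCharacter ↥(stabilizer G a),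
          (if (∀ x ∈ H.subgroupOf (stabilizer G a),
            (θ : ↥(stabilizer G a) → ℂ) x = (θ : ↥(stabilizer G a) → ℂ) 1) then
            (θ : ↥(stabilizer G a) → ℂ) y else 0)) := by
    unfold classInner
    simp only [map_sum, Finset.mul_sum]
    rw [Finset.sum_comm]
    apply Finset.sum_congr rfl
    intro θ _
    by_cases hP : ∀ x ∈ H.subgroupOf (stabilizer G a),
        (θ : ↥(stabilizer G a) → ℂ) x = (θ : ↥(stabilizer G a) → ℂ) 1
    · simp only [if_pos hP]
      rfl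
    · simp only [if_neg hP, map_zero, mul_zero, Finset.sum_const_zero]
  rw [h6]
  have h7 : ∀ y : ↥(stabilizer G a),
      Ψ y * conj (∑ θ : IrrCharacter ↥(stabilizer G a),
          (if (∀ x ∈ H.subgroupOf (stabilizer G a),
            (θ : ↥(stabilizer G a) → ℂ) x = (θ : ↥(stabilizer G a) → ℂ) 1) then
            (θ : ↥(stabilizer G a) → ℂ) y else 0)) =
      ((H.subgroupOf (stabilizer G a)).index : ℂ) *
        ((if y ∈ H.subgroupOf (stabilizer G a) then (1 : ℂ) else 0) +
          (if y = 1 then (Nat.card H : ℂ) else 0)) := by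
    intro y
    rw [hT y]
    by_cases hy : (y : G) ∈ H
    · rw [if_pos hy, if_pos (Subgroup.mem_subgroupOf.mpr hy), Complex.conj_natCast]
      by_cases hy1 : y = 1
      · rw [if_pos hy1, hy1]
        have : Ψ ((1 : ↥(stabilizer G a)) : G) = (Nat.card H : ℂ) + 1 := hΨ1
        rw [this]
        ring
      · rw [if_neg hy1, hΨH (y : G) hy (fun h => hy1 (Subtype.ext h))]
        ring
    · have hy1 : y ≠ 1 := by
        rintro rfl
        exact hy H.one_mem
      rw [if_neg hy, if_neg (fun h => hy (Subgroup.mem_subgroupOf.mp h)), if_neg hy1, map_zero]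
      ring
  rw [Finset.sum_congr rfl (fun y _ => h7 y), ← Finset.mul_sum, Finset.sum_add_distrib,
    Finset.sum_boole, Finset.sum_ite_eq' Finset.univ (1 : ↥(stabilizer G a)),
    if_pos (Finset.mem_univ _)]
  have h8 : ((Finset.univ.filter
      (fun y : ↥(stabilizer G a) => y ∈ H.subgroupOf (stabilizer G a))).card : ℂ) =
      (Nat.card H : ℂ) := by
    rw [← hcardH', Nat.card_eq_fintype_card, Fintype.card_subtype]
  rw [h8, hcardN]
  have hH0 : (Nat.card H : ℂ) ≠ 0 := by
    have : 0 < Nat.card H := by omega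
    exact_mod_cast this.ne'
  have hi0 : ((H.subgroupOf (stabilizer G a)).index : ℂ) ≠ 0 := by
    have : 0 < (H.subgroupOf (stabilizer G a)).index := by
      rw [hidx]
      exact Nat.card_pos
    exact_mod_cast this.ne'
  push_cast
  field_simp
  ring

open Classical in
/-- **Feit**: the degree `d` of a non-principal irreducible character of a simple Zassenhaus
group with two-point stabilizers of odd order `e` on `h + 1` points satisfies
`(e - 1)(h + 1) + 2 ≤ 2 d²`. -/
theorem feit_deg_bound [Fintype G] [Fintype Ω] (hZ : IsZassenhausGroup G Ω) {a b : Ω}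
    (hab : a ≠ b) [IsSimpleGroup G] (h e : ℕ) (hh : Fintype.card Ω = h + 1)
    (he : Nat.card ↥(stabilizer G a ⊓ stabilizer G b : Subgroup G) = e) (hodd : Odd e)
    (H : Subgroup G) (hHa : H ≤ stabilizer G a) (hHcard : Nat.card H + 1 = Fintype.card Ω)
    (hHfix : ∀ u ∈ H, u ≠ 1 → ∀ c : Ω, u • c = c → c = a)
    (Λ : G → ℂ) (hΛ : IsIrrCharacter G Λ) (hΛ1 : Λ ≠ fun _ => 1) (d : ℕ)
    (hd : Λ 1 = (d : ℂ)) : (e - 1) * (h + 1) + 2 ≤ 2 * d ^ 2 := by
  let _ : Fintype ↥(stabilizer G a) := Fintype.ofFinite _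
  have := Cfsg.Agent.Lib.Helper4.irr_finite (G := ↥(stabilizer G a))
  let _ : Fintype (IrrCharacter ↥(stabilizer G a)) := Fintype.ofFinite _
  have := Cfsg.Agent.Lib.Helper4.irr_finite (G := G)
  let _ : Fintype (IrrCharacter G) := Fintype.ofFinite _
  have hodd' : Odd (Nat.card ↥(stabilizer G a ⊓ stabilizer G b : Subgroup G)) := he ▸ hodd
  have hcardH : Nat.card H = h := by omega
  have h3 : 3 ≤ Fintype.card Ω := Cfsg.Agent.Lib.Helper21.zass_three_le_card hZ
  have hΛc : IsCharacter G Λ := Cfsg.Agent.Lib.Helper35.isChar_of_irr hΛ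
  have hlin : ∀ θ : IrrCharacter ↥(stabilizer G a),
      (∀ x ∈ H.subgroupOf (stabilizer G a),
        (θ : ↥(stabilizer G a) → ℂ) x = (θ : ↥(stabilizer G a) → ℂ) 1) →
      (θ : ↥(stabilizer G a) → ℂ) 1 = 1 := fun θ hθ =>
    feit_lin hZ hab H hHa hHcard hHfix _ θ.2 (fun k hk => hθ k (Subgroup.mem_subgroupOf.mpr hk))
  have hone : ∀ θ : IrrCharacter ↥(stabilizer G a),
      (∀ x ∈ H.subgroupOf (stabilizer G a),
        (θ : ↥(stabilizer G a) → ℂ) x = (θ : ↥(stabilizer G a) → ℂ) 1) →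
      ∀ u : ↥(stabilizer G a), (u : G) ∈ H → (θ : ↥(stabilizer G a) → ℂ) u = 1 :=
    fun θ hθ u hu => by rw [hθ u (Subgroup.mem_subgroupOf.mpr hu), hlin θ hθ]
  have hind : ∀ θ : IrrCharacter ↥(stabilizer G a),
      (∀ x ∈ H.subgroupOf (stabilizer G a),
        (θ : ↥(stabilizer G a) → ℂ) x = (θ : ↥(stabilizer G a) → ℂ) 1) →
      (θ : ↥(stabilizer G a) → ℂ) ≠ (fun _ => 1) →
      IsIrrCharacter G (indFun (stabilizer G a) (θ : ↥(stabilizer G a) → ℂ)) ∧
        ∀ u ∈ H, u ≠ 1 → indFun (stabilizer G a) (θ : ↥(stabilizer G a) → ℂ) u = 1 :=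
    fun θ hθ hθ1 => Cfsg.Agent.Lib.Helper21.zass_ind_irr hZ hab hodd' H hHa hHcard hHfix
      (θ : ↥(stabilizer G a) → ℂ) ⟨Cfsg.Agent.Lib.Helper35.isChar_of_irr θ.2, hlin θ hθ⟩
      (hone θ hθ) hθ1
  have hidxN : ((stabilizer G a).index : ℂ) = (h : ℂ) + 1 := by
    have := hZ.2.1
    have : IsPretransitive G Ω := MulAction.isPretransitive_of_is_two_pretransitive
    have hidx : (stabilizer G a).index = Nat.card Ω :=
      MulAction.index_stabilizer_of_transitive G a
    rw [hidx, Nat.card_eq_fintype_card, hh]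
    push_cast
    ring
  let F : IrrCharacter ↥(stabilizer G a) → IrrCharacter G := fun θ =>
    if hθ : (∀ x ∈ H.subgroupOf (stabilizer G a),
        (θ : ↥(stabilizer G a) → ℂ) x = (θ : ↥(stabilizer G a) → ℂ) 1) ∧
        (θ : ↥(stabilizer G a) → ℂ) ≠ (fun _ => 1) then
      ⟨indFun (stabilizer G a) (θ : ↥(stabilizer G a) → ℂ), (hind θ hθ.1 hθ.2).1⟩
    else Cfsg.Agent.Lib.Helper83.trivIrr G
  let Mnt : Finset (IrrCharacter ↥(stabilizer G a)) := Finset.univ.filter (fun θ =>
    (∀ x ∈ H.subgroupOf (stabilizer G a),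
        (θ : ↥(stabilizer G a) → ℂ) x = (θ : ↥(stabilizer G a) → ℂ) 1) ∧
        (θ : ↥(stabilizer G a) → ℂ) ≠ (fun _ => 1))
  have hFval : ∀ θ ∈ Mnt, (F θ : G → ℂ) =
      indFun (stabilizer G a) (θ : ↥(stabilizer G a) → ℂ) := by
    intro θ hθ
    have hθ' := (Finset.mem_filter.mp hθ).2
    show ((if hθ : _ then _ else _ : IrrCharacter G) : G → ℂ) = _
    rw [dif_pos hθ']
  -- the number of non-principal characters trivial on `H`
  have hMcard : Mnt.card = e - 1 := by
    have h1 : (Finset.univ.filter (fun θ : IrrCharacter ↥(stabilizer G a) =>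
        ∀ x ∈ H.subgroupOf (stabilizer G a),
          (θ : ↥(stabilizer G a) → ℂ) x = (θ : ↥(stabilizer G a) → ℂ) 1)).card = e := by
      rw [← he, ← feit_card_triv hZ hab H hHa hHcard hHfix, Nat.card_eq_fintype_card,
        Fintype.card_subtype]
    have h2 : Mnt = (Finset.univ.filter (fun θ : IrrCharacter ↥(stabilizer G a) =>
        ∀ x ∈ H.subgroupOf (stabilizer G a),
          (θ : ↥(stabilizer G a) → ℂ) x = (θ : ↥(stabilizer G a) → ℂ) 1)).erase
        (Cfsg.Agent.Lib.Helper83.trivIrr ↥(stabilizer G a)) := by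
      ext θ
      simp only [Mnt, Finset.mem_filter, Finset.mem_univ, true_and, Finset.mem_erase]
      constructor
      · rintro ⟨h1, h2⟩
        exact ⟨fun h => h2 (congrArg Subtype.val h), h1⟩
      · rintro ⟨h1, h2⟩
        exact ⟨h2, fun h => h1 (Subtype.ext h)⟩
    rw [h2, Finset.card_erase_of_mem, h1]
    simp only [Finset.mem_filter, Finset.mem_univ, true_and]
    intro x _
    rfl
  -- at most two characters induce the same character
  have hfiber : ∀ Ψ ∈ Mnt.image F, (Mnt.filter (fun θ => F θ = Ψ)).card ≤ 2 := by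
    intro Ψ hΨ
    obtain ⟨θ₀, hθ₀, rfl⟩ := Finset.mem_image.mp hΨ
    have hθ₀' := (Finset.mem_filter.mp hθ₀).2
    have hΨ1 : (F θ₀ : G → ℂ) 1 = (Nat.card H : ℂ) + 1 := by
      rw [hFval θ₀ hθ₀, Cfsg.Agent.Lib.Helper35.indFun_one_eq, hlin θ₀ hθ₀'.1, mul_one, hidxN,
        hcardH]
    have hΨH : ∀ u ∈ H, u ≠ 1 → (F θ₀ : G → ℂ) u = 1 := by
      intro u hu hu1
      rw [hFval θ₀ hθ₀]
      exact (hind θ₀ hθ₀'.1 hθ₀'.2).2 u hu hu1
    have hsum := feit_sum_triv hZ hab H hHa hHcard hHfix (F θ₀ : G → ℂ) hΨ1 hΨH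
    obtain ⟨n, hn⟩ := Cfsg.Agent.Lib.Helper4.exists_decomp_of_isCharacter _
      (Cfsg.Agent.Lib.Helper35.isCharacter_res (stabilizer G a)
        (Cfsg.Agent.Lib.Helper35.isChar_of_irr (F θ₀).2))
    have hnθ : ∀ θ : IrrCharacter ↥(stabilizer G a),
        classInner (Cfsg.Agent.Lib.Helper35.res (stabilizer G a) (F θ₀ : G → ℂ))
          (θ : ↥(stabilizer G a) → ℂ) = (n θ : ℂ) := by
      intro θ
      conv_lhs => rw [hn]
      exact Cfsg.Agent.Lib.Helper4.classInner_sum_irr _ θ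
    have hsumN : ∑ θ : IrrCharacter ↥(stabilizer G a),
        (if (∀ x ∈ H.subgroupOf (stabilizer G a),
          (θ : ↥(stabilizer G a) → ℂ) x = (θ : ↥(stabilizer G a) → ℂ) 1) then n θ else 0) = 2 := by
      have h1 : ((∑ θ : IrrCharacter ↥(stabilizer G a),
          (if (∀ x ∈ H.subgroupOf (stabilizer G a),
            (θ : ↥(stabilizer G a) → ℂ) x = (θ : ↥(stabilizer G a) → ℂ) 1) then n θ else 0) : ℕ) :
          ℂ) = 2 := by
        rw [← hsum]
        push_cast
        apply Finset.sum_congr rfl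
        intro θ _
        rw [hnθ θ]
      exact_mod_cast h1
    have hone' : ∀ θ ∈ Mnt.filter (fun θ => F θ = F θ₀),
        (if (∀ x ∈ H.subgroupOf (stabilizer G a),
          (θ : ↥(stabilizer G a) → ℂ) x = (θ : ↥(stabilizer G a) → ℂ) 1) then n θ else 0) = 1 := by
      intro θ hθ
      obtain ⟨hθM, hθF⟩ := Finset.mem_filter.mp hθ
      have hθ' := (Finset.mem_filter.mp hθM).2
      rw [if_pos hθ'.1]
      have h1 : classInner (F θ₀ : G → ℂ)
          (indFun (stabilizer G a) (θ : ↥(stabilizer G a) → ℂ)) = 1 := by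
        rw [← hFval θ hθM, hθF, Cfsg.Agent.Lib.Helper35.classInner_irr' (F θ₀).2 (F θ₀).2,
          if_pos rfl]
      rw [Cfsg.Agent.Lib.Helper35.frobenius_reciprocity' (stabilizer G a) _ _
        (Cfsg.Agent.Lib.Helper4.isClassFunction_irr (F θ₀)), hnθ θ] at h1
      exact_mod_cast h1
    calc (Mnt.filter (fun θ => F θ = F θ₀)).card
        = ∑ θ ∈ Mnt.filter (fun θ => F θ = F θ₀),
          (if (∀ x ∈ H.subgroupOf (stabilizer G a),
            (θ : ↥(stabilizer G a) → ℂ) x = (θ : ↥(stabilizer G a) → ℂ) 1) then n θ else 0) := by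
          rw [Finset.sum_congr rfl hone', Finset.sum_const, smul_eq_mul, mul_one]
      _ ≤ ∑ θ : IrrCharacter ↥(stabilizer G a),
          (if (∀ x ∈ H.subgroupOf (stabilizer G a),
            (θ : ↥(stabilizer G a) → ℂ) x = (θ : ↥(stabilizer G a) → ℂ) 1) then n θ else 0) :=
          Finset.sum_le_sum_of_subset (Finset.subset_univ _)
      _ = 2 := hsumN
  have hle := Finset.card_le_mul_card_image Mnt 2 hfiber
  -- the decomposition of `Λ Λ̄`
  have hfc : IsCharacter G (fun g => Λ g * conj (Λ g)) :=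
    Cfsg.Agent.Lib.Helper35.isCharacter_mul hΛc (Cfsg.Agent.Lib.Helper4.isCharacter_conj Λ hΛc)
  obtain ⟨c, hc⟩ := Cfsg.Agent.Lib.Helper4.exists_decomp_of_isCharacter _ hfc
  have hcψ : ∀ ψ : IrrCharacter G,
      classInner (fun g => Λ g * conj (Λ g)) (ψ : G → ℂ) = (c ψ : ℂ) := by
    intro ψ
    conv_lhs => rw [hc]
    exact Cfsg.Agent.Lib.Helper4.classInner_sum_irr _ ψ
  have hdeg : ∀ ψ : IrrCharacter G, ∃ n : ℕ, 0 < n ∧ (ψ : G → ℂ) 1 = (n : ℂ) :=
    fun ψ => Cfsg.Agent.Lib.Helper4.irr_one_nat ψ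
  choose deg hdeg0 hdeg using hdeg
  have hdd : d * d = ∑ ψ : IrrCharacter G, c ψ * deg ψ := by
    have h1 := congrFun hc 1
    simp only [Finset.sum_apply, Pi.smul_apply, smul_eq_mul] at h1
    rw [hd, Complex.conj_natCast] at h1
    have h2 : ((d * d : ℕ) : ℂ) = ((∑ ψ : IrrCharacter G, c ψ * deg ψ : ℕ) : ℂ) := by
      push_cast
      rw [h1]
      apply Finset.sum_congr rfl
      intro ψ _
      rw [hdeg ψ]
    exact_mod_cast h2
  have hctriv : c (Cfsg.Agent.Lib.Helper83.trivIrr G) = 1 := by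
    have h1 : classInner (fun g => Λ g * conj (Λ g))
        (Cfsg.Agent.Lib.Helper83.trivIrr G : G → ℂ) = classInner Λ Λ := by
      unfold classInner
      congr 1
      apply Finset.sum_congr rfl
      intro g _
      rw [Cfsg.Agent.Lib.Helper83.trivIrr_apply, map_one, mul_one]
    rw [hcψ, Cfsg.Agent.Lib.Helper35.classInner_irr' hΛ hΛ, if_pos rfl] at h1
    exact_mod_cast h1
  have hdtriv : deg (Cfsg.Agent.Lib.Helper83.trivIrr G) = 1 := by
    have h1 := hdeg (Cfsg.Agent.Lib.Helper83.trivIrr G)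
    rw [Cfsg.Agent.Lib.Helper83.trivIrr_apply] at h1
    exact_mod_cast h1.symm
  have hD : ∀ Ψ ∈ Mnt.image F, 1 ≤ c Ψ ∧ deg Ψ = h + 1 := by
    intro Ψ hΨ
    obtain ⟨θ₀, hθ₀, rfl⟩ := Finset.mem_image.mp hΨ
    have hθ₀' := (Finset.mem_filter.mp hθ₀).2
    constructor
    · have h1 := feit_mult_pos hZ a H hHa hHcard hHfix Λ hΛ hΛ1
        (θ₀ : ↥(stabilizer G a) → ℂ) (Cfsg.Agent.Lib.Helper35.isChar_of_irr θ₀.2)
        (hone θ₀ hθ₀'.1)
      rw [← hFval θ₀ hθ₀, hcψ] at h1
      have h2 : c (F θ₀) ≠ 0 := by exact_mod_cast h1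
      omega
    · have h1 := hdeg (F θ₀)
      rw [hFval θ₀ hθ₀, Cfsg.Agent.Lib.Helper35.indFun_one_eq, hlin θ₀ hθ₀'.1, mul_one,
        hidxN] at h1
      have h2 : ((h + 1 : ℕ) : ℂ) = (deg (F θ₀) : ℂ) := by
        push_cast
        exact h1
      exact_mod_cast h2.symm
  have htrivD : Cfsg.Agent.Lib.Helper83.trivIrr G ∉ Mnt.image F := by
    intro hmem
    have := (hD _ hmem).2
    omega
  have hbound : 1 + (Mnt.image F).card * (h + 1) ≤ d * d := by
    rw [hdd]
    calc 1 + (Mnt.image F).card * (h + 1)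
        = ∑ ψ ∈ insert (Cfsg.Agent.Lib.Helper83.trivIrr G) (Mnt.image F),
            (if ψ = Cfsg.Agent.Lib.Helper83.trivIrr G then 1 else h + 1) := by
          rw [Finset.sum_insert htrivD, if_pos rfl]
          congr 1
          have hne : ∀ ψ ∈ Mnt.image F, ψ ≠ Cfsg.Agent.Lib.Helper83.trivIrr G := by
            intro ψ hψ hψe
            rw [hψe] at hψ
            exact htrivD hψ
          rw [Finset.sum_congr rfl (fun ψ hψ => if_neg (hne ψ hψ)),
            Finset.sum_const, smul_eq_mul]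
      _ ≤ ∑ ψ ∈ insert (Cfsg.Agent.Lib.Helper83.trivIrr G) (Mnt.image F), c ψ * deg ψ := by
          apply Finset.sum_le_sum
          intro ψ hψ
          rcases Finset.mem_insert.mp hψ with rfl | hψ'
          · rw [if_pos rfl, hctriv, hdtriv]
          · have hne : ψ ≠ Cfsg.Agent.Lib.Helper83.trivIrr G := by
              intro hψe
              rw [hψe] at hψ'
              exact htrivD hψ'
            rw [if_neg hne, (hD ψ hψ').2]
            exact Nat.le_mul_of_pos_left _ (hD ψ hψ').1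
      _ ≤ ∑ ψ : IrrCharacter G, c ψ * deg ψ :=
          Finset.sum_le_sum_of_subset (Finset.subset_univ _)
  rw [hMcard] at hle
  have h5 : (e - 1) * (h + 1) ≤ 2 * (Mnt.image F).card * (h + 1) :=
    Nat.mul_le_mul_right _ hle
  nlinarith [hbound, h5]

end FeitDeg

end Cfsg.Agent.Lib.Helper23
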