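import Mathlib
import Cfsg.Agent.Lib.Helper23.FeitA
import Cfsg.Agent.Lib.Helper4.CharExp
import Cfsg.Agent.Lib.Helper20.Tifn

/-!
# Feit's theorem on Zassenhaus groups: counting irreducible characters

In a simple Zassenhaus group `G` with two-point stabilizers of odd order `e`, `2e < h - 1`, the
number of irreducible characters of `G` is at least `s + e + 1`, where `s` is the number of
irreducible characters of the point stabilizer `N` that are not trivial on its kernel `H`:
at least `e` classes of `G` avoid `H`, and the classes meeting `H` are at least as many as the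
classes of `N` minus the `e - 1` classes of `N` outside `H`.
-/

set_option autoImplicit false

namespace Cfsg.Agent.Lib.Helper23

open Cfsg MulAction
open scoped ComplexConjugate

section FeitCount

variable {G Ω : Type*} [Group G] [MulAction G Ω]

/-- The conjugacy classes of the point stabilizer are at most the classes of `G` meeting `H`
plus the non-identity elements of a two-point stabilizer. -/
theorem feit_class_count [Finite G] [Fintype Ω] (hZ : IsZassenhausGroup G Ω) {a b : Ω}
    (hab : a ≠ b) (H : Subgroup G) (hHa : H ≤ stabilizer G a)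
    (hHcard : Nat.card H + 1 = Fintype.card Ω)
    (hHfix : ∀ u ∈ H, u ≠ 1 → ∀ c : Ω, u • c = c → c = a) :
    Nat.card (ConjClasses ↥(stabilizer G a)) + 1 ≤
      Nat.card {C : ConjClasses G // ¬ ∀ g : G, ConjClasses.mk g = C → g ∉ H} +
        Nat.card ↥(stabilizer G a ⊓ stabilizer G b : Subgroup G) := by
  classical
  have hTI := (Cfsg.Agent.S0878.result hZ a H hHa hHcard hHfix).1
  have hrep : ∀ C : {C : ConjClasses G // ¬ ∀ g : G, ConjClasses.mk g = C → g ∉ H},
      ∃ g : G, g ∈ H ∧ ConjClasses.mk g = C.1 := by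
    intro C
    have hC := C.2
    push Not at hC
    obtain ⟨g, hg, hgH⟩ := hC
    exact ⟨g, hgH, hg⟩
  choose rep hrepH hrepC using hrep
  let f : {C : ConjClasses G // ¬ ∀ g : G, ConjClasses.mk g = C → g ∉ H} ⊕
      {x : ↥(stabilizer G a ⊓ stabilizer G b : Subgroup G) // x ≠ 1} →
      ConjClasses ↥(stabilizer G a) := fun t =>
    match t with
    | Sum.inl C => ConjClasses.mk (⟨rep C, hHa (hrepH C)⟩ : ↥(stabilizer G a))
    | Sum.inr x => ConjClasses.mk (⟨(x.1 : G), (Subgroup.mem_inf.mp x.1.2).1⟩ : ↥(stabilizer G a))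
  have hf : Function.Surjective f := by
    intro C'
    obtain ⟨y, rfl⟩ := ConjClasses.mk_surjective C'
    by_cases hy : (y : G) ∈ H
    · have hCB : ¬ ∀ g : G, ConjClasses.mk g = ConjClasses.mk (y : G) → g ∉ H :=
        fun hall => hall (y : G) rfl hy
      refine ⟨Sum.inl ⟨ConjClasses.mk (y : G), hCB⟩, ?_⟩
      have key : ∀ (r : G) (hr : r ∈ H), ConjClasses.mk r = ConjClasses.mk (y : G) →
          ConjClasses.mk (⟨r, hHa hr⟩ : ↥(stabilizer G a)) = ConjClasses.mk y := by
        intro r hr h1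
        rw [ConjClasses.mk_eq_mk_iff_isConj, isConj_iff] at h1
        obtain ⟨c, hc⟩ := h1
        rw [ConjClasses.mk_eq_mk_iff_isConj, isConj_iff]
        by_cases hr1 : r = 1
        · refine ⟨1, ?_⟩
          apply Subtype.ext
          show (1 : G) * r * (1 : G)⁻¹ = (y : G)
          rw [← hc, hr1]
          simp
        · have hcN : c ∈ stabilizer G a := by
            by_contra hcn
            refine hr1 (hTI c hcn r hr ?_)
            rw [hc]
            exact hy
          refine ⟨⟨c, hcN⟩, ?_⟩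
          apply Subtype.ext
          exact hc
      exact key _ (hrepH ⟨ConjClasses.mk (y : G), hCB⟩) (hrepC ⟨ConjClasses.mk (y : G), hCB⟩)
    · have hya : (y : G) • a = a := mem_stabilizer_iff.mp y.2
      obtain ⟨c, hca, hyc⟩ := feit_second_fix hZ a H hHa hHcard hHfix hya hy
      obtain ⟨u, hu, huc⟩ := Cfsg.Agent.Lib.Helper21.zass_H_trans a H hHa hHcard hHfix
        hca (Ne.symm hab)
      have hua : u • a = a := mem_stabilizer_iff.mp (hHa hu)
      have hxE : u * (y : G) * u⁻¹ ∈ (stabilizer G a ⊓ stabilizer G b : Subgroup G) := by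
        refine Subgroup.mem_inf.mpr ⟨?_, ?_⟩
        · exact (stabilizer G a).mul_mem ((stabilizer G a).mul_mem (hHa hu) y.2)
            ((stabilizer G a).inv_mem (hHa hu))
        · show (u * (y : G) * u⁻¹) • b = b
          have h1 : u⁻¹ • b = c := by
            rw [inv_smul_eq_iff]
            exact huc.symm
          rw [mul_smul, mul_smul, h1, hyc, huc]
      have hx1 : (⟨u * (y : G) * u⁻¹, hxE⟩ : ↥(stabilizer G a ⊓ stabilizer G b : Subgroup G)) ≠ 1 := by
        intro h1
        have h2 : u * (y : G) * u⁻¹ = 1 := congrArg Subtype.val h1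
        have h3 : (y : G) = 1 := by
          have := congrArg (fun t => u⁻¹ * t * u) h2
          simpa [mul_assoc] using this
        exact hy (h3 ▸ H.one_mem)
      refine ⟨Sum.inr ⟨⟨u * (y : G) * u⁻¹, hxE⟩, hx1⟩, ?_⟩
      show ConjClasses.mk (⟨u * (y : G) * u⁻¹, (Subgroup.mem_inf.mp hxE).1⟩ :
        ↥(stabilizer G a)) = ConjClasses.mk y
      rw [ConjClasses.mk_eq_mk_iff_isConj, isConj_iff]
      refine ⟨⟨u⁻¹, (stabilizer G a).inv_mem (hHa hu)⟩, ?_⟩
      apply Subtype.ext
      simp [mul_assoc]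
  have h1 := Nat.card_le_card_of_surjective f hf
  rw [Nat.card_sum] at h1
  have h2 : Nat.card {x : ↥(stabilizer G a ⊓ stabilizer G b : Subgroup G) // x ≠ 1} =
      Nat.card ↥(stabilizer G a ⊓ stabilizer G b : Subgroup G) - 1 := by
    have := Fintype.ofFinite ↥(stabilizer G a ⊓ stabilizer G b : Subgroup G)
    rw [Nat.card_eq_fintype_card, Nat.card_eq_fintype_card]
    exact Set.card_ne_eq 1
  have h3 : 0 < Nat.card ↥(stabilizer G a ⊓ stabilizer G b : Subgroup G) := Nat.card_pos
  omega

/-- **Feit**: the count of irreducible characters of a simple Zassenhaus group with two-point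
stabilizers of odd order `e`, `2e < h - 1`. -/
theorem feit_irr_count [Fintype G] [Fintype Ω] (hZ : IsZassenhausGroup G Ω) {a b : Ω}
    (hab : a ≠ b) [IsSimpleGroup G] (h e : ℕ) (hh : Fintype.card Ω = h + 1)
    (he : Nat.card ↥(stabilizer G a ⊓ stabilizer G b : Subgroup G) = e) (hodd : Odd e)
    (hlt : 2 * e < h - 1)
    (H : Subgroup G) (hHa : H ≤ stabilizer G a) (hHcard : Nat.card H + 1 = Fintype.card Ω)
    (hHfix : ∀ u ∈ H, u ≠ 1 → ∀ c : Ω, u • c = c → c = a) :
    Nat.card ↥{ψ : ↥(stabilizer G a) → ℂ | IsIrrCharacter ↥(stabilizer G a) ψ ∧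
      ∃ k : ↥(stabilizer G a), (k : G) ∈ H ∧ ψ k ≠ ψ 1} + e + 1 ≤
      Nat.card (IrrCharacter G) := by
  classical
  let _ : Fintype ↥(stabilizer G a) := Fintype.ofFinite _
  have hfinN := Cfsg.Agent.Lib.Helper4.irr_finite (G := ↥(stabilizer G a))
  have hfinG := Cfsg.Agent.Lib.Helper4.irr_finite (G := G)
  have hA := Cfsg.Agent.Lib.Helper21.zass_classes_avoid hZ hab h e hh he hodd hlt H hHa hHcard
    hHfix
  have hB := feit_class_count hZ hab H hHa hHcard hHfix
  rw [he] at hB
  have hG : Nat.card (ConjClasses G) =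
      Nat.card {C : ConjClasses G // ∀ g : G, ConjClasses.mk g = C → g ∉ H} +
        Nat.card {C : ConjClasses G // ¬ ∀ g : G, ConjClasses.mk g = C → g ∉ H} := by
    rw [← Nat.card_sum]
    exact Nat.card_congr (Equiv.sumCompl _).symm
  have hN : Nat.card (IrrCharacter ↥(stabilizer G a)) =
      Nat.card {χ : IrrCharacter ↥(stabilizer G a) // ∀ x ∈ H.subgroupOf (stabilizer G a),
        (χ : ↥(stabilizer G a) → ℂ) x = (χ : ↥(stabilizer G a) → ℂ) 1} +
      Nat.card {χ : IrrCharacter ↥(stabilizer G a) // ¬ ∀ x ∈ H.subgroupOf (stabilizer G a),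
        (χ : ↥(stabilizer G a) → ℂ) x = (χ : ↥(stabilizer G a) → ℂ) 1} := by
    rw [← Nat.card_sum]
    exact Nat.card_congr (Equiv.sumCompl _).symm
  have hS : Nat.card {χ : IrrCharacter ↥(stabilizer G a) //
      ¬ ∀ x ∈ H.subgroupOf (stabilizer G a),
        (χ : ↥(stabilizer G a) → ℂ) x = (χ : ↥(stabilizer G a) → ℂ) 1} =
      Nat.card ↥{ψ : ↥(stabilizer G a) → ℂ | IsIrrCharacter ↥(stabilizer G a) ψ ∧
        ∃ k : ↥(stabilizer G a), (k : G) ∈ H ∧ ψ k ≠ ψ 1} := by
    apply Nat.card_congr
    refine (Equiv.subtypeSubtypeEquivSubtypeInter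
      (fun ψ : ↥(stabilizer G a) → ℂ => IsIrrCharacter ↥(stabilizer G a) ψ)
      (fun ψ : ↥(stabilizer G a) → ℂ => ¬ ∀ x ∈ H.subgroupOf (stabilizer G a), ψ x = ψ 1)).trans ?_
    exact Equiv.subtypeEquivRight
      (fun ψ => (Cfsg.Agent.Lib.Helper20.tifn_mem_iff H (stabilizer G a) ψ).symm)
  have hNc := Cfsg.Agent.Lib.Helper4.card_irr (G := ↥(stabilizer G a))
  have htriv := feit_card_triv hZ hab H hHa hHcard hHfix
  rw [he] at htriv
  rw [Cfsg.Agent.Lib.Helper4.card_irr (G := G)]
  omega

end FeitCount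

end Cfsg.Agent.Lib.Helper23
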