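import Mathlib
import Cfsg.Agent.Lib.Helper23.ZassAbel
import Cfsg.Agent.S0885

/-!
# Zassenhaus groups of degree `p + 1` whose point stabilizer has an abelian kernel

Such a group has two-point stabilizers of order `p - 1` (the sharply triply transitive case) or
of order `(p - 1) / 2`, and in the latter case it is `PSL(2, p)`.
-/

namespace Cfsg.Agent.Lib.Helper23

open Cfsg MulAction

universe u v

theorem zass_prime_degree {G : Type u} [Group G] [Finite G] {Ω : Type v} [MulAction G Ω]
    [Fintype Ω] (hZ : IsZassenhausGroup G Ω) {p : ℕ} (hp : p.Prime)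
    (hΩ : Fintype.card Ω = p + 1) (x : Ω) (F : Subgroup G)
    (hFle : F ≤ stabilizer G x) (hFab : ∀ u ∈ F, ∀ v ∈ F, u * v = v * u)
    (hreg : ∀ y z : Ω, y ≠ x → z ≠ x → ∃! u : F, (u : G) • y = z) {b : Ω} (hab : x ≠ b) :
    Nat.card ↥(stabilizer G x ⊓ stabilizer G b) = p - 1 ∨
      (2 * Nat.card ↥(stabilizer G x ⊓ stabilizer G b) = p - 1 ∧
        Nonempty (G ≃* Matrix.ProjectiveSpecialLinearGroup (Fin 2) (ZMod p))) := by
  classical
  have h3 : 3 ≤ Fintype.card Ω := Cfsg.Agent.Lib.Helper21.zass_three_le_card hZ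
  obtain ⟨hFcard, hFfix⟩ := kernel_of_reg hab F hFle hreg
  have hdpos : 0 < Nat.card ↥(stabilizer G x ⊓ stabilizer G b) := Nat.card_pos
  have hle : Fintype.card Ω - 2 ≤ 2 * Nat.card ↥(stabilizer G x ⊓ stabilizer G b) := by
    rcases Nat.even_or_odd (Nat.card ↥(stabilizer G x ⊓ stabilizer G b)) with heven | hodd
    · exact Cfsg.Agent.S0741.result hZ hab heven
    · rcases Cfsg.Agent.S0885.result hZ hab (Fintype.card Ω - 1) _ (by omega) rfl hodd F hFle
        hFcard hFfix with h1 | ⟨-, ⟨u, v, huv⟩, -⟩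
      · omega
      · exfalso
        exact huv (Subtype.ext (hFab u u.2 v v.2))
  obtain ⟨k, hk⟩ := zass_twoStab_dvd hZ hab
  rcases k with _ | _ | k
  · rw [mul_zero] at hk
    omega
  · left
    rw [zero_add, mul_one] at hk
    omega
  · right
    have hk2 : k = 0 := by
      by_contra hk0
      have : Nat.card ↥(stabilizer G x ⊓ stabilizer G b) * 3 ≤
          Nat.card ↥(stabilizer G x ⊓ stabilizer G b) * (k + 1 + 1) :=
        Nat.mul_le_mul_left _ (by omega)
      omega
    rw [hk2, zero_add] at hk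
    have hd2 : 2 * Nat.card ↥(stabilizer G x ⊓ stabilizer G b) + 2 = Fintype.card Ω := by omega
    refine ⟨by omega, ?_⟩
    rcases Nat.even_or_odd (Nat.card ↥(stabilizer G x ⊓ stabilizer G b)) with heven | hodd
    · obtain ⟨p', f, K, instF, instFin, hp', hp2, hK, hΩ', ⟨e1⟩⟩ :=
        Cfsg.Agent.S0742.result hZ hab heven (by omega)
      have hKp : Fintype.card K = p := by omega
      obtain ⟨e2⟩ := psl_congr (Fin 2) (ZMod.ringEquivOfPrime K hp hKp)
      exact ⟨e1.trans e2.symm⟩
    · have hsimple : IsSimpleGroup G := zass_odd_half_simple hZ hab hodd hd2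
        (fun M hZM h e hh he hodd H hHa hHcard hHfix =>
          Cfsg.Agent.S0885.result hZM hab h e hh he hodd H hHa hHcard hHfix)
      obtain ⟨-, hw⟩ := Cfsg.Agent.S0345.result hZ hab
      obtain ⟨N, w, hdata, hcardN⟩ := zass_odd_data hZ hab hodd hd2 hw
      have hG : Nat.card G = Fintype.card Ω * (Fintype.card Ω - 1) *
          Nat.card ↥(stabilizer G x ⊓ stabilizer G b) := by
        have h1 := Cfsg.Agent.Lib.Helper21.zass_index hZ hab
        have h2 := Subgroup.card_mul_index (stabilizer G x ⊓ stabilizer G b : Subgroup G)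
        rw [h1] at h2
        rw [← h2, mul_comm]
      obtain ⟨K, instF, instFin, hcardK, ⟨e1⟩⟩ := zass_odd_psl hdata hodd hcardN hd2 hG
      have hKp : Fintype.card K = p := by omega
      obtain ⟨e2⟩ := psl_congr (Fin 2) (ZMod.ringEquivOfPrime K hp hKp)
      exact ⟨e1.trans e2.symm⟩

end Cfsg.Agent.Lib.Helper23
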