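import Mathlib
import Cfsg.Agent.Lib.Helper23.PD3
import Cfsg.Agent.S0339
import Cfsg.Agent.Lib.Helper79.S0732P2
import Cfsg.Agent.Lib.Helper58.S0732P7a

/-!
# Sharply triply transitive groups of degree `p + 1`

A Zassenhaus group of degree `p + 1` with two-point stabilizers of order `p - 1` whose point
stabilizer has a normal subgroup of order `p` is `PGL(2, p)`: the even permutations form a
subgroup of index 2 isomorphic to `PSL(2, p)` with trivial centralizer.
-/

namespace Cfsg.Agent.Lib.Helper23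

open Cfsg MulAction

theorem zass_twoStab_nontrivial {G : Type*} [Group G] [Finite G] {Ω : Type*} [MulAction G Ω]
    [Fintype Ω] (hZ : IsZassenhausGroup G Ω) {a b : Ω} (hab : a ≠ b) :
    2 ≤ Nat.card ↥(stabilizer G a ⊓ stabilizer G b) := by
  classical
  obtain ⟨g, hg1, a', b', hab', hga, hgb⟩ := hZ.2.2.2.1
  have h3 : 3 ≤ Fintype.card Ω := Cfsg.Agent.Lib.Helper21.zass_three_le_card hZ
  have h1 := Cfsg.Agent.Lib.Helper21.zass_index hZ hab
  have h2 := Cfsg.Agent.Lib.Helper21.zass_index hZ hab'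
  have h4 := Subgroup.card_mul_index (stabilizer G a ⊓ stabilizer G b : Subgroup G)
  have h5 := Subgroup.card_mul_index (stabilizer G a' ⊓ stabilizer G b' : Subgroup G)
  rw [h1] at h4
  rw [h2, ← h4] at h5
  have hpos : 0 < Fintype.card Ω * (Fintype.card Ω - 1) :=
    Nat.mul_pos (by omega) (by omega)
  have h6 := Nat.eq_of_mul_eq_mul_right hpos h5
  rw [← h6]
  have hnt : Nontrivial ↥(stabilizer G a' ⊓ stabilizer G b') :=
    ⟨⟨⟨g, Subgroup.mem_inf.mpr ⟨mem_stabilizer_iff.mpr hga, mem_stabilizer_iff.mpr hgb⟩⟩, 1,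
      fun h => hg1 (congrArg Subtype.val h)⟩⟩
  exact Finite.one_lt_card_iff_nontrivial.mpr hnt

theorem pd_sharp3_pgl {α : Type*} [Fintype α] [DecidableEq α] {p : ℕ} (hp : p.Prime)
    (hα : Fintype.card α = p + 1) (G : Subgroup (Equiv.Perm α))
    (hZ : IsZassenhausGroup G α) (a b : α) (hab : a ≠ b)
    (P : Subgroup G) (hPcard : Nat.card P = p) (hPa : P ≤ stabilizer G a)
    (hPn : ∀ g ∈ stabilizer G a, ∀ u ∈ P, g * u * g⁻¹ ∈ P)
    (hPcomm : ∀ u ∈ P, ∀ v ∈ P, u * v = v * u)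
    (hPreg : ∀ y z : α, y ≠ a → z ≠ a → ∃! u : P, (u : G) • y = z)
    (hPfix : ∀ u ∈ P, u ≠ 1 → ∀ c : α, u • c = c → c = a)
    (hall : ∀ c : α, ∃ u : G, u ^ p = 1 ∧ u • c = c ∧ ∀ c' : α, u • c' = c' → c' = c)
    (hH : Nat.card ↥(stabilizer G a ⊓ stabilizer G b) = p - 1) :
    Nonempty (G ≃* Matrix.ProjGenLinGroup (Fin 2) (ZMod p)) := by
  classical
  have : Fact p.Prime := ⟨hp⟩
  have three := hZ.2.2.1
  have h2le := zass_twoStab_nontrivial hZ hab
  have hp3 : 3 ≤ p := by omega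
  have hp2 : p ≠ 2 := by omega
  have h3 : ∀ g : G, ∀ c : α, c ≠ a → c ≠ b → g • a = a → g • b = b → g • c = c → g = 1 :=
    fun g c hca hcb hga hgb hgc => three g a b c hab (Ne.symm hcb) (Ne.symm hca) hga hgb hgc
  obtain ⟨g₀, hg₀⟩ := Cfsg.Agent.Lib.Helper58.S0732P.exists_odd_perm G hp hp2 hα a b hab P hPcard
    hPa hPn hPfix hH h3
  obtain ⟨sgn, hsgn⟩ : ∃ sgn : G →* ℤˣ, ∀ g : G, sgn g = Equiv.Perm.sign (g : Equiv.Perm α) :=
    ⟨Equiv.Perm.sign.comp G.subtype, fun g => rfl⟩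
  obtain ⟨M, hM⟩ : ∃ M : Subgroup G, M = sgn.ker := ⟨_, rfl⟩
  have hMn : M.Normal := by rw [hM]; exact MonoidHom.normal_ker sgn
  have hidx : M.index = 2 := by
    rw [hM, Subgroup.index_ker]
    have hr : sgn.range = ⊤ := by
      rw [eq_top_iff]
      intro x _
      rcases Int.units_eq_one_or x with rfl | rfl
      · exact one_mem _
      · exact ⟨g₀, by rw [hsgn, hg₀]⟩
    rw [hr, Nat.card_congr Subgroup.topEquiv.toEquiv]
    simp
  have hodd : Odd p := hp.odd_of_ne_two hp2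
  have hpowM : ∀ u : G, u ^ p = 1 → u ∈ M := by
    intro u hup
    rw [hM, MonoidHom.mem_ker]
    have h1 : sgn u ^ p = 1 := by rw [← map_pow, hup, map_one]
    rcases Int.units_eq_one_or (sgn u) with h | h
    · exact h
    · rw [h, hodd.neg_one_pow] at h1
      exact absurd h1 (by decide)
  have hPpow : ∀ u ∈ P, u ^ p = 1 := by
    intro u hu
    have h := pow_card_eq_one' (G := P) (x := ⟨u, hu⟩)
    rw [hPcard] at h
    exact congrArg Subtype.val h
  have hPM : P ≤ M := fun u hu => hpowM u (hPpow u hu)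
  have hMne : M ≠ ⊥ := by
    intro h
    have h1 : Nat.card P ≤ Nat.card M := Subgroup.card_le_of_le hPM
    rw [h, Subgroup.card_bot, hPcard] at h1
    omega
  have hZM : IsZassenhausGroup M α := Cfsg.Agent.S0339.result hZ M hMne
  have hFle : P.subgroupOf M ≤ stabilizer M a := by
    intro u hu
    rw [mem_stabilizer_iff]
    exact mem_stabilizer_iff.mp (hPa (Subgroup.mem_subgroupOf.mp hu))
  have hFab : ∀ u ∈ P.subgroupOf M, ∀ v ∈ P.subgroupOf M, u * v = v * u := by
    intro u hu v hv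
    exact Subtype.ext (hPcomm _ (Subgroup.mem_subgroupOf.mp hu) _ (Subgroup.mem_subgroupOf.mp hv))
  have hFreg : ∀ y z : α, y ≠ a → z ≠ a → ∃! u : P.subgroupOf M, (u : M) • y = z := by
    intro y z hy hz
    obtain ⟨u, hu, huniq⟩ := hPreg y z hy hz
    refine ⟨⟨⟨u, hPM u.2⟩, Subgroup.mem_subgroupOf.mpr u.2⟩, hu, ?_⟩
    intro v hv
    have := huniq ⟨((v : M) : G), Subgroup.mem_subgroupOf.mp v.2⟩ hv
    apply Subtype.ext
    apply Subtype.ext
    show ((v : M) : G) = (u : G)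
    exact congrArg Subtype.val this
  -- cardinalities
  have hGc : Nat.card G = (p + 1) * p * (p - 1) := by
    have h1 := Cfsg.Agent.Lib.Helper21.zass_index hZ hab
    have h2 := Subgroup.card_mul_index (stabilizer G a ⊓ stabilizer G b : Subgroup G)
    rw [h1, hH, hα] at h2
    rw [← h2, Nat.add_sub_cancel, mul_comm]
  have hMc : Nat.card M = (p + 1) * p * Nat.card ↥(stabilizer M a ⊓ stabilizer M b) := by
    have h1 := Cfsg.Agent.Lib.Helper21.zass_index hZM hab
    have h2 := Subgroup.card_mul_index (stabilizer M a ⊓ stabilizer M b : Subgroup M)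
    rw [h1, hα] at h2
    rw [← h2, Nat.add_sub_cancel, mul_comm]
  have hGM : Nat.card G = Nat.card M * 2 := by
    rw [← hidx, Subgroup.card_mul_index]
  have hpos : 0 < (p + 1) * p := Nat.mul_pos (Nat.succ_pos p) hp.pos
  have hMH : p - 1 = Nat.card ↥(stabilizer M a ⊓ stabilizer M b) * 2 := by
    have h1 : (p + 1) * p * (p - 1) =
        (p + 1) * p * (Nat.card ↥(stabilizer M a ⊓ stabilizer M b) * 2) := by
      rw [← hGc, hGM, hMc, mul_assoc]
    exact Nat.eq_of_mul_eq_mul_left hpos h1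
  have h2M := zass_twoStab_nontrivial hZM hab
  rcases zass_prime_degree hZM hp hα a (P.subgroupOf M) hFle hFab hFreg hab with h | ⟨-, ⟨e⟩⟩
  · omega
  · have hp5 : 5 ≤ p := by omega
    apply Cfsg.Agent.Lib.Helper79.S0732P2.pgl_of_psl_index_two hp5 M hidx e
    intro g hg
    apply Subtype.ext
    apply Equiv.ext
    intro c
    show g • c = c
    obtain ⟨u, hup, hc, hufix⟩ := hall c
    have huM : u ∈ M := hpowM u hup
    have hcomm := hg u huM
    apply hufix
    rw [← mul_smul, ← hcomm, mul_smul, hc]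

end Cfsg.Agent.Lib.Helper23
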