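import Mathlib
import Cfsg.Agent.Lib.Helper23.Syl
import Cfsg.Agent.Lib.Helper23.Count
import Cfsg.Agent.Lib.Helper23.Brodkey

namespace Cfsg.Agent.Lib.Helper23

open Subgroup

/-- A nontrivial normal subgroup of a faithful transitive group of prime degree is transitive. -/
theorem normal_pretransitive_of_prime_card {H : Type*} [Group H] {α : Type*} [MulAction H α]
    [FaithfulSMul H α] [MulAction.IsPretransitive H α] (hp : (Nat.card α).Prime)
    (M : Subgroup H) [M.Normal] (hM : M ≠ ⊥) : MulAction.IsPretransitive M α := by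
  have : MulAction.IsPreprimitive H α := MulAction.IsPreprimitive.of_prime_card hp
  apply MulAction.IsQuasiPreprimitive.isPretransitive_of_normal (G := H)
  intro hfix
  apply hM
  rw [Subgroup.eq_bot_iff_forall]
  intro m hm
  apply FaithfulSMul.eq_of_smul_eq_smul (α := α)
  intro a
  rw [one_smul]
  have ha : a ∈ MulAction.fixedPoints M α := by rw [hfix]; trivial
  exact ha ⟨m, hm⟩

theorem card_dvd_of_pretransitive (H : Type*) [Group H] (α : Type*) [MulAction H α]
    [MulAction.IsPretransitive H α] [Nonempty α] : Nat.card α ∣ Nat.card H := by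
  obtain ⟨a⟩ : Nonempty α := inferInstance
  rw [← MulAction.index_stabilizer_of_transitive H a]
  exact Subgroup.index_dvd_card _

/-- A transitive group of prime degree `p` with more than one Sylow `p`-subgroup, in which a
Sylow `p`-subgroup has prime index in its normalizer, is simple. -/
theorem simple_of_prime_degree {G : Type*} [Group G] [Finite G] {α : Type*} [MulAction G α]
    [FaithfulSMul G α] [MulAction.IsPretransitive G α] {p : ℕ} [hp : Fact p.Prime]
    (hα : Nat.card α = p) (P : Sylow p G) (hn : 1 < Nat.card (Sylow p G))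
    (ht : ((P : Subgroup G).relIndex (normalizer ((P : Subgroup G) : Set G))).Prime) :
    IsSimpleGroup G := by
  classical
  have hpα : (Nat.card α).Prime := hα ▸ hp.out
  have hne : Nonempty α := by
    have : Nat.card α ≠ 0 := hpα.ne_zero
    exact (Nat.card_ne_zero.mp this).1
  have hfin : Finite α := by
    have : Nat.card α ≠ 0 := hpα.ne_zero
    exact (Nat.card_ne_zero.mp this).2
  have hpG : p ∣ Nat.card G := hα ▸ card_dvd_of_pretransitive G α
  have hp2 : ¬ p ^ 2 ∣ Nat.card G := by
    intro hd
    have h1 : Nat.card G ∣ (Nat.card α).factorial := by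
      rw [← Nat.card_perm]
      exact Subgroup.card_dvd_of_injective (MulAction.toPermHom G α) MulAction.toPerm_injective
    rw [hα] at h1
    have h2 : p ^ 2 ∣ p.factorial := hd.trans h1
    obtain ⟨k, hk⟩ : ∃ k, p = k + 1 := ⟨p - 1, by have := hp.out.pos; omega⟩
    rw [hk, Nat.factorial_succ, pow_two] at h2
    have h3 : (k + 1) ∣ k.factorial := Nat.dvd_of_mul_dvd_mul_left (by omega) h2
    rw [← hk] at h3
    have := (Nat.Prime.dvd_factorial hp.out).mp h3
    omega
  obtain ⟨m, hm⟩ := hpG
  have hpm : ¬ p ∣ m := by
    rintro ⟨j, rfl⟩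
    apply hp2
    rw [hm]
    exact ⟨j, by ring⟩
  have hPc : Nat.card (P : Subgroup G) = p := by
    have := sylow_card_of_eq (k := 1) (by rw [hm, pow_one]) hpm P
    simpa using this
  have hnt : Nontrivial G := by
    rw [← Finite.one_lt_card_iff_nontrivial]
    exact lt_of_lt_of_le hp.out.one_lt (Nat.le_of_dvd Nat.card_pos ⟨m, hm⟩)
  refine { exists_pair_ne := hnt.exists_pair_ne, eq_bot_or_eq_top_of_normal := ?_ }
  intro K hK
  by_contra hcon
  push Not at hcon
  obtain ⟨hKbot, hKtop⟩ := hcon
  have hKtr : MulAction.IsPretransitive K α := normal_pretransitive_of_prime_card hpα K hKbot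
  have hpK : p ∣ Nat.card K := hα ▸ card_dvd_of_pretransitive K α
  have hidx : ¬ p ∣ K.index := by
    intro hd
    apply hp2
    rw [← K.card_mul_index, pow_two]
    exact mul_dvd_mul hpK hd
  obtain ⟨S⟩ : Nonempty (Sylow p K) := inferInstance
  obtain ⟨Q, hQK, -⟩ := exists_sylow_le_of_sylow_subgroup K hidx S
  obtain ⟨g, hg⟩ := MulAction.exists_smul_eq G Q P
  have hPK : (P : Subgroup G) ≤ K := by
    intro x hx
    rw [← hg, mem_smul_sylow_iff] at hx
    have := hK.conj_mem _ (hQK hx) g
    have e : g * (g⁻¹ * x * g) * g⁻¹ = x := by group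
    rwa [e] at this
  have hPN : (P : Subgroup G) ≤ normalizer ((P : Subgroup G) : Set G) := le_normalizer
  have hmul := Subgroup.relIndex_mul_relIndex (P : Subgroup G)
    (normalizer ((P : Subgroup G) : Set G) ⊓ K) (normalizer ((P : Subgroup G) : Set G))
    (le_inf hPN hPK) inf_le_left
  have hcase : (P : Subgroup G).relIndex (normalizer ((P : Subgroup G) : Set G) ⊓ K) = 1 ∨
      (normalizer ((P : Subgroup G) : Set G) ⊓ K).relIndex
        (normalizer ((P : Subgroup G) : Set G)) = 1 := by
    rcases Nat.Prime.eq_one_or_self_of_dvd ht _ (Dvd.intro _ hmul) with h1 | h1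
    · exact Or.inl h1
    · right
      rw [h1] at hmul
      have hpos := ht.pos
      exact Nat.eq_of_mul_eq_mul_left hpos (by rw [hmul, mul_one])
  rcases hcase with h1 | h1
  · -- `N_K(P) = P`: Burnside gives a normal `p`-complement in `K`, which must be trivial
    rw [Subgroup.relIndex_eq_one] at h1
    let P' : Sylow p K := P.subtype hPK
    have hP'c : Nat.card (P' : Subgroup K) = p := by
      rw [Sylow.coe_subtype]
      exact (Nat.card_congr (Subgroup.subgroupOfEquivOfLe hPK).toEquiv).trans hPc
    have hcyc : IsCyclic (P' : Subgroup K) := isCyclic_of_prime_card hP'c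
    have hcomm : IsMulCommutative (P' : Subgroup K) := isMulCommutative_of_isCyclic
    have hP' : normalizer ((P' : Subgroup K) : Set K) ≤ centralizer ((P' : Subgroup K) : Set K) := by
      intro x hx
      apply Subgroup.le_centralizer (P' : Subgroup K)
      rw [Sylow.coe_subtype] at hx ⊢
      rw [← Subgroup.subgroupOf_normalizer_eq hPK] at hx
      rw [Subgroup.mem_subgroupOf] at hx ⊢
      exact h1 ⟨hx, x.2⟩
    have hnd := MonoidHom.not_dvd_card_ker_transferSylow P' hP'
    have hcompl := MonoidHom.ker_transferSylow_isComplement' P' hP'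
    have hMbot : (MonoidHom.transferSylow P' hP').ker = ⊥ := by
      by_contra hMne
      have hMtr : MulAction.IsPretransitive (MonoidHom.transferSylow P' hP').ker α :=
        normal_pretransitive_of_prime_card hpα _ hMne
      apply hnd
      have := card_dvd_of_pretransitive (MonoidHom.transferSylow P' hP').ker α
      rwa [hα] at this
    have hKc : Nat.card K = p := by
      have := hcompl.card_mul_card
      rw [hMbot, Subgroup.card_bot, one_mul, hP'c] at this
      exact this.symm
    have hPeq : (P : Subgroup G) = K := by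
      apply Subgroup.eq_of_le_of_card_ge hPK
      rw [hKc, hPc]
    have hPnormal : (P : Subgroup G).Normal := hPeq ▸ hK
    have h3 : Nat.card (Sylow p G) = (normalizer ((P : Subgroup G) : Set G)).index :=
      Sylow.card_eq_index_normalizer P
    rw [Subgroup.normalizer_eq_top_iff.mpr hPnormal, Subgroup.index_top] at h3
    omega
  · -- `N_G(P) ≤ K`: Frattini
    rw [Subgroup.relIndex_eq_one] at h1
    have hNK : normalizer ((P : Subgroup G) : Set G) ≤ K := fun x hx => (h1 hx).2
    have hfr : normalizer ((P : Subgroup G) : Set G) ⊔ K = ⊤ := Sylow.normalizer_sup_eq_top' P hPK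
    rw [sup_eq_right.mpr hNK] at hfr
    exact hKtop hfr

end Cfsg.Agent.Lib.Helper23
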