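import Mathlib
import Cfsg.Agent.Lib.Helper23.Sharp3b

/-!
# Sharply triply transitive groups of odd degree: interface

* `sharp3_of_pretransitive`: from Mathlib's `IsMultiplyPretransitive`;
* `sharp3_psl2_galois`: the field in `Type`;
* `psl_iso_sl_char2`, `psl_iso_pgl_char2`: `PSL(2, F) ≃* SL(2, F) ≃* PGL(2, F)` for a finite field
  of characteristic 2.
-/

namespace Cfsg.Agent.Lib.Helper23

open Subgroup Equiv

universe u v

theorem sharp3_of_pretransitive {G : Type u} [Group G] {α : Type v} [MulAction G α]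
    (h3 : MulAction.IsMultiplyPretransitive G α 3)
    (hs : ∀ (g : G) (a b c : α), a ≠ b → a ≠ c → b ≠ c → g • a = a → g • b = b → g • c = c →
      g = 1) : Sharp3 G α := by
  refine ⟨?_, hs⟩
  intro a b c a' b' c' hab hac hbc hab' hac' hbc'
  have hinj : ∀ x y z : α, x ≠ y → x ≠ z → y ≠ z → Function.Injective ![x, y, z] := by
    intro x y z hxy hxz hyz i j hij
    fin_cases i <;> fin_cases j <;> simp_all
  obtain ⟨g, hg⟩ := (MulAction.isMultiplyPretransitive_iff.mp h3)
    ⟨![a, b, c], hinj a b c hab hac hbc⟩ ⟨![a', b', c'], hinj a' b' c' hab' hac' hbc'⟩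
  have h0 := congrArg (fun x : Fin 3 ↪ α => x 0) hg
  have h1 := congrArg (fun x : Fin 3 ↪ α => x 1) hg
  have h2 := congrArg (fun x : Fin 3 ↪ α => x 2) hg
  exact ⟨g, h0, h1, h2⟩

/-- The same as `sharp3_psl2`, with the field in `Type` and the exponent made explicit. -/
theorem sharp3_psl2_galois {G : Type u} [Group G] [Finite G] {α : Type v} [Fintype α]
    [DecidableEq α] [MulAction G α] (h : Sharp3 G α) (hodd : Odd (Fintype.card α))
    (hm : 3 ≤ Fintype.card α) :
    ∃ a : ℕ, 1 ≤ a ∧ Fintype.card α = 2 ^ a + 1 ∧ ∃ (F : Type) (_ : Field F) (_ : Fintype F),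
      Fintype.card F = 2 ^ a ∧ CharP F 2 ∧
      Nonempty (G ≃* Matrix.ProjectiveSpecialLinearGroup (Fin 2) F) := by
  obtain ⟨K, instF, instFin, hchar, hcardK, ⟨e1⟩⟩ := sharp3_psl2 h hodd hm
  obtain ⟨n, -, hn⟩ := FiniteField.card K 2
  have hn0 : (n : ℕ) ≠ 0 := n.ne_zero
  let instFF : Fintype (GaloisField 2 (n : ℕ)) := Fintype.ofFinite _
  have hcard : Fintype.card (GaloisField 2 (n : ℕ)) = 2 ^ (n : ℕ) := by
    rw [← Nat.card_eq_fintype_card, GaloisField.card 2 _ hn0]
  refine ⟨n, n.pos, by rw [← hcardK, hn], GaloisField 2 (n : ℕ), inferInstance, instFF, hcard,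
    inferInstance, ?_⟩
  obtain ⟨e2⟩ := psl_congr (Fin 2) (FiniteField.ringEquivOfCardEq (hn.trans hcard.symm))
  exact ⟨e1.trans e2⟩

/-- In characteristic 2 the centre of `SL(2, F)` is trivial, so `PSL(2, F) ≃* SL(2, F)`. -/
theorem psl_iso_sl_char2 (F : Type*) [Field F] [CharP F 2] :
    Nonempty (Matrix.ProjectiveSpecialLinearGroup (Fin 2) F ≃*
      Matrix.SpecialLinearGroup (Fin 2) F) := by
  have hbot : Subgroup.center (Matrix.SpecialLinearGroup (Fin 2) F) = ⊥ := by
    rw [eq_bot_iff]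
    intro A hA
    rw [Matrix.SpecialLinearGroup.mem_center_iff] at hA
    obtain ⟨r, hr, hrA⟩ := hA
    rw [Subgroup.mem_bot]
    have hr1 : r = 1 := by
      rw [Fintype.card_fin] at hr
      have h1 : (r - 1) ^ 2 = 0 := by
        have : (r - 1) ^ 2 = r ^ 2 - 2 * r + 1 := by ring
        rw [this, hr, CharTwo.two_eq_zero, zero_mul, sub_zero, ← two_mul, CharTwo.two_eq_zero,
          zero_mul]
      exact sub_eq_zero.mp ((pow_eq_zero_iff (two_ne_zero)).mp h1)
    apply Subtype.ext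
    rw [← hrA, hr1]
    simp
  have hinj : Function.Injective (QuotientGroup.mk' (Subgroup.center
      (Matrix.SpecialLinearGroup (Fin 2) F))) := by
    rw [← MonoidHom.ker_eq_bot_iff, QuotientGroup.ker_mk', hbot]
  exact ⟨(MulEquiv.ofBijective _ ⟨hinj, QuotientGroup.mk'_surjective _⟩).symm⟩

/-- Over a finite field of characteristic 2, `PSL(2, F) ≃* PGL(2, F)`. -/
theorem psl_iso_pgl_char2 (F : Type*) [Field F] [Finite F] [CharP F 2] :
    Nonempty (Matrix.ProjectiveSpecialLinearGroup (Fin 2) F ≃*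
      Matrix.ProjGenLinGroup (Fin 2) F) := by
  refine ⟨MulEquiv.ofBijective Matrix.ProjectiveSpecialLinearGroup.toPGL
    ⟨Matrix.ProjectiveSpecialLinearGroup.toPGL_injective,
      Matrix.ProjectiveSpecialLinearGroup.toPGL_surj_of_roots ?_⟩⟩
  intro r
  have hinj : Function.Injective (frobenius F 2) := frobenius_inj F 2
  have hsurj : Function.Surjective (frobenius F 2) := Finite.injective_iff_surjective.mp hinj
  obtain ⟨σ, hσ⟩ := hsurj (r : F)
  rw [frobenius_def] at hσ
  have hσ0 : σ ≠ 0 := by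
    rintro rfl
    rw [zero_pow two_ne_zero] at hσ
    exact r.ne_zero hσ.symm
  refine ⟨Units.mk0 σ hσ0, Units.ext ?_⟩
  rw [Fintype.card_fin, Units.val_pow_eq_pow_val, Units.val_mk0, hσ]

end Cfsg.Agent.Lib.Helper23
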