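import Mathlib
import Cfsg.Agent.Lib.Helper23.PrimeDeg
import Cfsg.Agent.Lib.Helper23.Count
import Cfsg.Agent.Lib.Helper23.Syl
import Cfsg.Agent.Lib.Helper23.Sharp3c

/-!
# Groups of prime degree `p` with `|N(P)| = 2p`

A doubly transitive group of prime degree `p > 2` in which the normalizer of a Sylow
`p`-subgroup has order `2p` is sharply triply transitive of order `p (p - 1) (p - 2)`
(fixed-point counting), hence `PSL(2, 2^a)` with `p = 2^a + 1`.
-/

namespace Cfsg.Agent.Lib.Helper23

open Subgroup

/-- Burnside's lemma with `Nat.card`. -/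
theorem burnside_natCard (G X : Type*) [Group G] [MulAction G X] [Fintype G] [Finite X] :
    ∑ g : G, Nat.card (MulAction.fixedBy X g) =
      Nat.card (MulAction.orbitRel.Quotient G X) * Nat.card G := by
  classical
  letI : ∀ g : G, Fintype (MulAction.fixedBy X g) := fun g => Fintype.ofFinite _
  letI : Fintype (MulAction.orbitRel.Quotient G X) := Fintype.ofFinite _
  have h := MulAction.sum_card_fixedBy_eq_card_orbits_mul_card_group G X
  rw [Nat.card_eq_fintype_card, Nat.card_eq_fintype_card, ← h]
  exact Finset.sum_congr rfl (fun g _ => Nat.card_eq_fintype_card)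

/-- Embeddings fixed by `g` are the embeddings into the fixed points of `g`. -/
def fixedByEmbEquiv {G : Type*} [Group G] {α : Type*} [MulAction G α] (n : ℕ) (g : G) :
    MulAction.fixedBy (Fin n ↪ α) g ≃ (Fin n ↪ MulAction.fixedBy α g) where
  toFun x := ⟨fun i => ⟨x.1 i, by
      have h := x.2
      rw [MulAction.mem_fixedBy] at h ⊢
      exact congrArg (fun y : Fin n ↪ α => y i) h⟩, by
    intro i j hij
    exact x.1.injective (congrArg Subtype.val hij)⟩
  invFun y := ⟨y.trans (Function.Embedding.subtype _), by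
    rw [MulAction.mem_fixedBy]
    ext i
    exact (y i).2⟩
  left_inv x := by
    apply Subtype.ext
    ext i
    rfl
  right_inv y := by
    ext i
    rfl

theorem card_fixedBy_emb {G : Type*} [Group G] {α : Type*} [MulAction G α] [Finite α] (n : ℕ)
    (g : G) : Nat.card (MulAction.fixedBy (Fin n ↪ α) g) =
      (Nat.card (MulAction.fixedBy α g)).descFactorial n := by
  classical
  letI : Fintype (MulAction.fixedBy α g) := Fintype.ofFinite _
  rw [Nat.card_congr (fixedByEmbEquiv n g), Nat.card_eq_fintype_card,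
    Fintype.card_embedding_eq, Fintype.card_fin, Nat.card_eq_fintype_card]

/-- Burnside's lemma for the action on injective `n`-tuples. -/
theorem sum_descFactorial_fixedBy (G : Type*) [Group G] (α : Type*) [MulAction G α] [Fintype G]
    [Finite α] (n : ℕ) :
    ∑ g : G, (Nat.card (MulAction.fixedBy α g)).descFactorial n =
      Nat.card (MulAction.orbitRel.Quotient G (Fin n ↪ α)) * Nat.card G := by
  rw [← burnside_natCard G (Fin n ↪ α)]
  exact Finset.sum_congr rfl (fun g _ => (card_fixedBy_emb n g).symm)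

theorem card_orbitRel_quotient_of_pretransitive (G X : Type*) [Group G] [MulAction G X]
    [MulAction.IsPretransitive G X] [Nonempty X] :
    Nat.card (MulAction.orbitRel.Quotient G X) = 1 := by
  have h1 : Subsingleton (MulAction.orbitRel.Quotient G X) :=
    (MulAction.pretransitive_iff_subsingleton_quotient G X).mp inferInstance
  obtain ⟨x⟩ : Nonempty X := inferInstance
  have h2 : Nonempty (MulAction.orbitRel.Quotient G X) := ⟨Quotient.mk'' x⟩
  exact Nat.card_eq_one_iff_unique.mpr ⟨h1, h2⟩

/-- In a faithful action on `p` points, the powers of an element of order `p` are transitive. -/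
theorem zpow_smul_surj_of_prime {G : Type*} [Group G] {α : Type*} [MulAction G α]
    [FaithfulSMul G α] [Finite α] {p : ℕ} [hp : Fact p.Prime] (hα : Nat.card α = p) (g : G)
    (hg : orderOf g = p) (a b : α) : ∃ k : ℤ, g ^ k • a = b := by
  have hg1 : g ≠ 1 := by
    rintro rfl
    rw [orderOf_one] at hg
    exact hp.out.one_lt.ne hg
  obtain ⟨a₀, ha₀⟩ : ∃ a₀ : α, g • a₀ ≠ a₀ := by
    by_contra hcon
    push Not at hcon
    exact hg1 (FaithfulSMul.eq_of_smul_eq_smul (α := α) (fun a => by rw [hcon a, one_smul]))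
  have horb : MulAction.orbit (zpowers g) a₀ = Set.univ := by
    have h1 : (MulAction.orbit (zpowers g) a₀).ncard ∣ p := by
      rw [← MulAction.index_stabilizer]
      have := Subgroup.index_dvd_card (MulAction.stabilizer (zpowers g) a₀)
      rwa [Nat.card_zpowers, hg] at this
    have h2 : 1 < (MulAction.orbit (zpowers g) a₀).ncard := by
      rw [Set.one_lt_ncard_iff]
      exact ⟨a₀, g • a₀, MulAction.mem_orbit_self a₀, ⟨⟨g, mem_zpowers g⟩, rfl⟩,
        fun h => ha₀ h.symm⟩
    have h3 : (MulAction.orbit (zpowers g) a₀).ncard = p := by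
      rcases (Nat.dvd_prime hp.out).mp h1 with h | h
      · omega
      · exact h
    rw [Set.eq_univ_iff_ncard, h3, hα]
  have key : ∀ c : α, ∃ k : ℤ, g ^ k • a₀ = c := by
    intro c
    have hc : c ∈ MulAction.orbit (zpowers g) a₀ := by
      rw [horb]
      trivial
    obtain ⟨⟨z, hz⟩, hzc⟩ := hc
    obtain ⟨k, rfl⟩ := mem_zpowers_iff.mp hz
    exact ⟨k, hzc⟩
  obtain ⟨i, hi⟩ := key a
  obtain ⟨j, hj⟩ := key b
  refine ⟨j - i, ?_⟩
  rw [← hi, ← hj, ← mul_smul, ← zpow_add, sub_add_cancel]

/-- In a faithful action on `p` points, an element of order `p` has no fixed point. -/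
theorem card_fixedBy_eq_zero_of_orderOf_prime {G : Type*} [Group G] {α : Type*} [MulAction G α]
    [FaithfulSMul G α] [Finite α] {p : ℕ} [hp : Fact p.Prime] (hα : Nat.card α = p) (g : G)
    (hg : orderOf g = p) : Nat.card (MulAction.fixedBy α g) = 0 := by
  rw [Nat.card_eq_zero]
  left
  rw [Set.isEmpty_coe_sort, Set.eq_empty_iff_forall_notMem]
  intro b hb
  have h1 : 1 < Nat.card α := by
    rw [hα]
    exact hp.out.one_lt
  have hnt : Nontrivial α := by
    cases nonempty_fintype α
    rw [Nat.card_eq_fintype_card] at h1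
    exact Fintype.one_lt_card_iff_nontrivial.mp h1
  obtain ⟨c, hc⟩ := exists_ne b
  obtain ⟨k, hk⟩ := zpow_smul_surj_of_prime hα g hg b c
  have h2 : g ^ k ∈ MulAction.stabilizer G b :=
    Subgroup.zpow_mem _ (MulAction.mem_stabilizer_iff.mpr hb) k
  rw [MulAction.mem_stabilizer_iff] at h2
  exact hc (hk.symm.trans h2)

/-- In a faithful action a non-identity element moves at least two points. -/
theorem card_fixedBy_add_two_le {G : Type*} [Group G] {α : Type*} [MulAction G α]
    [FaithfulSMul G α] [Finite α] (g : G) (hg : g ≠ 1) :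
    Nat.card (MulAction.fixedBy α g) + 2 ≤ Nat.card α := by
  obtain ⟨a, ha⟩ : ∃ a : α, g • a ≠ a := by
    by_contra hcon
    push Not at hcon
    exact hg (FaithfulSMul.eq_of_smul_eq_smul (α := α) (fun a => by rw [hcon a, one_smul]))
  have hb : g • (g • a) ≠ g • a := fun h => ha (smul_left_cancel g h)
  have hsub : MulAction.fixedBy α g ⊆ ({a, g • a} : Set α)ᶜ := by
    intro c hc hmem
    rcases hmem with rfl | hmem
    · exact ha hc
    · rw [Set.mem_singleton_iff] at hmem
      subst hmem
      exact hb hc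
  have h1 := Set.ncard_le_ncard hsub (Set.toFinite _)
  have h2 := Set.ncard_add_ncard_compl ({a, g • a} : Set α)
  rw [Set.ncard_pair (Ne.symm ha)] at h2
  rw [Nat.card_coe_set_eq]
  omega

theorem descFactorial_two_cast (m : ℕ) : ((m.descFactorial 2 : ℕ) : ℤ) = (m : ℤ) * (m - 1) := by
  rcases m with _ | m
  · simp
  · simp only [Nat.descFactorial_succ, Nat.descFactorial_zero]
    push_cast
    simp
    ring

theorem descFactorial_three_cast (m : ℕ) :
    ((m.descFactorial 3 : ℕ) : ℤ) = (m : ℤ) * (m - 1) * (m - 2) := by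
  rcases m with _ | _ | m
  · simp
  · simp [Nat.descFactorial_succ]
  · simp only [Nat.descFactorial_succ, Nat.descFactorial_zero]
    push_cast
    simp
    ring

/-- Fixed-point counting: a doubly transitive group of prime degree `p > 2` whose Sylow
`p`-normalizer has order `2p` has order `p (p - 1) (p - 2)` and no non-identity element
fixes three points. -/
theorem sharp_of_prime_degree_two {G : Type*} [Group G] [Finite G] {α : Type*} [Finite α]
    [MulAction G α] [FaithfulSMul G α] {p : ℕ} [hp : Fact p.Prime] (hp2 : 2 < p)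
    (hα : Nat.card α = p) (h2 : MulAction.IsMultiplyPretransitive G α 2) (P : Sylow p G)
    (hN : Nat.card (normalizer ((P : Subgroup G) : Set G)) = 2 * p) :
    Nat.card G = p * (p - 1) * (p - 2) ∧
      ∀ g : G, g ≠ 1 → Nat.card (MulAction.fixedBy α g) ≤ 2 := by
  classical
  cases nonempty_fintype G
  cases nonempty_fintype α
  have hαf : Fintype.card α = p := by rw [← Nat.card_eq_fintype_card]; exact hα
  have h1 : MulAction.IsMultiplyPretransitive G α 1 :=
    MulAction.isMultiplyPretransitive_of_le (n := 2) (by norm_num) (by rw [hα]; omega)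
  have hne : ∀ k : ℕ, k ≤ 3 → Nonempty (Fin k ↪ α) := by
    intro k hk
    apply Function.Embedding.nonempty_of_card_le
    rw [Fintype.card_fin, hαf]
    omega
  have hne1 := hne 1 (by norm_num)
  have hne2 := hne 2 (by norm_num)
  have hne3 := hne 3 (by norm_num)
  set n := Nat.card G with hn
  set f : G → ℕ := fun g => Nat.card (MulAction.fixedBy α g) with hf
  have hS1 : ∑ g : G, (f g).descFactorial 1 = n := by
    rw [sum_descFactorial_fixedBy, card_orbitRel_quotient_of_pretransitive, one_mul]
  have hS2 : ∑ g : G, (f g).descFactorial 2 = n := by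
    rw [sum_descFactorial_fixedBy, card_orbitRel_quotient_of_pretransitive, one_mul]
  have hS3 : n ≤ ∑ g : G, (f g).descFactorial 3 := by
    rw [sum_descFactorial_fixedBy]
    have : Nonempty (MulAction.orbitRel.Quotient G (Fin 3 ↪ α)) := ⟨Quotient.mk'' hne3.some⟩
    exact Nat.le_mul_of_pos_left _ Nat.card_pos
  -- the Sylow count
  have hnp := card_normalizer_sylow_mul P
  rw [hN] at hnp
  have hnpdvd : ¬ p ∣ 2 * Nat.card (Sylow p G) := by
    intro h
    rcases (Nat.Prime.dvd_mul hp.out).mp h with h | h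
    · exact absurd (Nat.le_of_dvd (by norm_num) h) (by omega)
    · exact not_dvd_card_sylow p G h
  have hcardG : Nat.card G = p * (2 * Nat.card (Sylow p G)) := by
    rw [← hnp]
    ring
  have hord := card_orderOf_eq_prime hcardG hnpdvd
  -- integer versions
  have hf1 : f 1 = p := by
    simp only [hf, MulAction.fixedBy_one_eq_univ]
    rw [Nat.card_coe_set_eq, Set.ncard_univ, hα]
  have hfle : ∀ g : G, g ≠ 1 → f g + 2 ≤ p := by
    intro g hg
    have := card_fixedBy_add_two_le (α := α) g hg
    rwa [hα] at this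
  have hford : ∀ g : G, orderOf g = p → f g = 0 := fun g hg =>
    card_fixedBy_eq_zero_of_orderOf_prime hα g hg
  set i0 : G → ℤ := fun g => if f g = 0 then 1 else 0 with hi0
  set i3 : G → ℤ := fun g => if g ≠ 1 ∧ 3 ≤ f g then 1 else 0 with hi3
  set δ : G → ℤ := fun g => if g = 1 then 1 else 0 with hδ
  have hS1z : ∑ g : G, (f g : ℤ) = n := by
    have := congrArg (Nat.cast : ℕ → ℤ) hS1
    simp only [Nat.descFactorial_one] at this
    push_cast at this
    exact this
  have hS2z : ∑ g : G, (f g : ℤ) * ((f g : ℤ) - 1) = n := by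
    have := congrArg (Nat.cast : ℕ → ℤ) hS2
    rw [Nat.cast_sum] at this
    simp only [descFactorial_two_cast] at this
    exact this
  have hS3z : (n : ℤ) ≤ ∑ g : G, (f g : ℤ) * ((f g : ℤ) - 1) * ((f g : ℤ) - 2) := by
    have : ((n : ℕ) : ℤ) ≤ ((∑ g : G, (f g).descFactorial 3 : ℕ) : ℤ) := by exact_mod_cast hS3
    rw [Nat.cast_sum] at this
    simp only [descFactorial_three_cast] at this
    exact this
  have hδsum : ∑ g : G, δ g = 1 := by
    simp [hδ]
  have hZ : ((p : ℤ) - 1) * n ≤ 2 * p * ∑ g : G, i0 g := by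
    have h3 : (Finset.univ.filter (fun g : G => orderOf g = p)).card ≤
        (Finset.univ.filter (fun g : G => f g = 0)).card := by
      apply Finset.card_le_card
      intro g hg
      simp only [Finset.mem_filter, Finset.mem_univ, true_and] at hg ⊢
      exact hford g hg
    rw [Nat.card_eq_fintype_card, Fintype.card_subtype] at hord
    rw [hord] at h3
    have h4 : ∑ g : G, i0 g = ((Finset.univ.filter (fun g : G => f g = 0)).card : ℤ) := by
      simp [hi0, Finset.sum_boole]
    rw [h4]
    have h5 : ((Nat.card (Sylow p G) * (p - 1) : ℕ) : ℤ) ≤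
        ((Finset.univ.filter (fun g : G => f g = 0)).card : ℤ) := by exact_mod_cast h3
    have h6 : ((p - 1 : ℕ) : ℤ) = (p : ℤ) - 1 := by
      rw [Nat.cast_sub hp.out.one_lt.le]
      simp
    rw [Nat.cast_mul, h6] at h5
    have h7 : (n : ℤ) = 2 * p * (Nat.card (Sylow p G) : ℤ) := by
      rw [hn, ← hnp]
      push_cast
      ring
    rw [h7]
    have hp0 : (0 : ℤ) ≤ 2 * p := by positivity
    nlinarith [mul_le_mul_of_nonneg_left h5 hp0]
  have hP3 : (3 : ℤ) ≤ p := by exact_mod_cast hp2
  -- pointwise inequalities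
  have hJ : ∀ g : G,
      0 ≤ ((p : ℤ) - 2) * ((f g : ℤ) * ((f g : ℤ) - 1)) - 2 * ((p : ℤ) - 2) * (f g : ℤ) +
          2 * ((p : ℤ) - 2) * 1 - (f g : ℤ) * ((f g : ℤ) - 1) * ((f g : ℤ) - 2) +
          2 * ((p : ℤ) - 1) * ((p : ℤ) - 2) * δ g - 2 * ((p : ℤ) - 2) * i0 g ∧
      0 ≤ (f g : ℤ) * ((f g : ℤ) - 1) - 2 * (f g : ℤ) + 2 * 1 - 2 * i0 g - 2 * i3 g -
          ((p : ℤ) - 1) * ((p : ℤ) - 2) * δ g := by
    intro g
    by_cases hg : g = 1
    · subst hg
      have hp0 : p ≠ 0 := hp.out.ne_zero
      simp only [hδ, hi0, hi3, hf1, if_pos, hp0, if_false, ne_eq, not_true_eq_false, false_and]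
      constructor
      · apply le_of_eq
        ring
      · apply le_of_eq
        ring
    · have hle := hfle g hg
      have hle' : (f g : ℤ) + 2 ≤ p := by exact_mod_cast hle
      simp only [hδ, hi0, hi3, if_neg hg]
      rcases Nat.lt_or_ge (f g) 3 with h3 | h3
      · have hi3' : ¬ (g ≠ 1 ∧ 3 ≤ f g) := fun h => absurd h.2 (by omega)
        rw [if_neg hi3']
        interval_cases hfg : f g
        · refine ⟨?_, ?_⟩ <;> norm_num
        · refine ⟨?_, ?_⟩ <;> norm_num
        · refine ⟨?_, ?_⟩ <;> norm_num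
          linarith
      · have hi3' : (g ≠ 1 ∧ 3 ≤ f g) := ⟨hg, h3⟩
        have hi0' : ¬ f g = 0 := by omega
        rw [if_pos hi3', if_neg hi0']
        have h3' : (3 : ℤ) ≤ (f g : ℤ) := by exact_mod_cast h3
        constructor
        · have : 0 ≤ ((p : ℤ) - 2 - f g) * (((f g : ℤ) - 1) * ((f g : ℤ) - 2)) :=
            mul_nonneg (by linarith) (mul_nonneg (by linarith) (by linarith))
          nlinarith
        · nlinarith
  have hA1 := Finset.sum_nonneg (fun g (_ : g ∈ (Finset.univ : Finset G)) => (hJ g).1)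
  have hA2 := Finset.sum_nonneg (fun g (_ : g ∈ (Finset.univ : Finset G)) => (hJ g).2)
  simp only [Finset.sum_sub_distrib, Finset.sum_add_distrib, ← Finset.mul_sum, hS1z, hS2z,
    hδsum, Finset.sum_const, Finset.card_univ, nsmul_eq_mul] at hA1 hA2
  rw [← Nat.card_eq_fintype_card, ← hn] at hA1 hA2
  set Z := ∑ g : G, i0 g with hZdef
  set T := ∑ g : G, i3 g with hTdef
  set S3 := ∑ g : G, (f g : ℤ) * ((f g : ℤ) - 1) * ((f g : ℤ) - 2) with hS3def
  have hT0 : 0 ≤ T := Finset.sum_nonneg (fun g _ => by
    simp only [hi3]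
    split_ifs <;> norm_num)
  have hn0 : (0 : ℤ) ≤ n := by positivity
  have hp0 : (0 : ℤ) ≤ p := by positivity
  have hupper : (n : ℤ) ≤ p * (p - 1) * (p - 2) := by
    have e1 := mul_le_mul_of_nonneg_left hZ (by linarith : (0 : ℤ) ≤ (p : ℤ) - 2)
    have e0 : (0 : ℤ) ≤ ((p : ℤ) - 3) * n + 2 * ((p : ℤ) - 1) * ((p : ℤ) - 2) -
        2 * ((p : ℤ) - 2) * Z := by linarith
    have e2 := mul_nonneg hp0 e0
    linarith
  have hlower : (p : ℤ) * (p - 1) * (p - 2) + 2 * p * T ≤ n := by
    have e0 : (0 : ℤ) ≤ (n : ℤ) - 2 * Z - 2 * T - ((p : ℤ) - 1) * ((p : ℤ) - 2) := by linarith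
    have e3 := mul_nonneg hp0 e0
    linarith
  have hTz : T = 0 := by
    have hPT : (p : ℤ) * T = 0 := by linarith [mul_nonneg hp0 hT0]
    rcases mul_eq_zero.mp hPT with h | h
    · linarith
    · exact h
  have hneq : (n : ℤ) = p * (p - 1) * (p - 2) := by
    rw [hTz] at hlower
    linarith
  constructor
  · have h6 : ((p - 1 : ℕ) : ℤ) = (p : ℤ) - 1 := by
      rw [Nat.cast_sub hp.out.one_lt.le]
      simp
    have h7 : ((p - 2 : ℕ) : ℤ) = (p : ℤ) - 2 := by
      rw [Nat.cast_sub hp2.le]
      simp
    have : ((n : ℕ) : ℤ) = ((p * (p - 1) * (p - 2) : ℕ) : ℤ) := by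
      rw [Nat.cast_mul, Nat.cast_mul, h6, h7]
      exact hneq
    exact_mod_cast this
  · intro g hg
    have hz : ∀ g ∈ (Finset.univ : Finset G), i3 g = 0 := by
      apply (Finset.sum_eq_zero_iff_of_nonneg (fun g _ => ?_)).mp hTz
      simp only [hi3]
      split_ifs <;> norm_num
    have := hz g (Finset.mem_univ g)
    simp only [hi3] at this
    by_contra hcon
    push Not at hcon
    rw [if_pos ⟨hg, hcon⟩] at this
    exact one_ne_zero this

universe u v

/-- A doubly transitive group of prime degree `p > 2` whose Sylow `p`-normalizer has order `2p`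
is sharply triply transitive. -/
theorem sharp3_of_prime_degree_two {G : Type u} [Group G] [Finite G] {α : Type v} [Finite α]
    [MulAction G α] [FaithfulSMul G α] {p : ℕ} [hp : Fact p.Prime] (hp2 : 2 < p)
    (hα : Nat.card α = p) (h2 : MulAction.IsMultiplyPretransitive G α 2) (P : Sylow p G)
    (hN : Nat.card (normalizer ((P : Subgroup G) : Set G)) = 2 * p) : Sharp3 G α := by
  classical
  obtain ⟨hcard, hfix⟩ := sharp_of_prime_degree_two hp2 hα h2 P hN
  have hs : ∀ (g : G) (a b c : α), a ≠ b → a ≠ c → b ≠ c → g • a = a → g • b = b → g • c = c →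
      g = 1 := by
    intro g a b c hab hac hbc ha hb hc
    by_contra hg
    have h1 := hfix g hg
    have hsub : ({a, b, c} : Set α) ⊆ MulAction.fixedBy α g := by
      intro x hx
      rcases hx with rfl | rfl | rfl
      · exact ha
      · exact hb
      · exact hc
    have h3 : ({a, b, c} : Set α).ncard = 3 := by
      rw [Set.ncard_eq_three]
      exact ⟨a, b, c, hab, hac, hbc, rfl⟩
    have h4 := Set.ncard_le_ncard hsub (Set.toFinite _)
    rw [Nat.card_coe_set_eq] at h1
    omega
  refine sharp3_of_pretransitive ?_ hs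
  cases nonempty_fintype α
  have hαf : Fintype.card α = p := by rw [← Nat.card_eq_fintype_card]; exact hα
  constructor
  intro x y
  have hinj : Function.Injective (fun g : G => g • x) := by
    intro g h hgh
    have h5 : (h⁻¹ * g) • x = x := by
      have : g • x = h • x := hgh
      rw [mul_smul, this, inv_smul_smul]
    have h6 : ∀ i, (h⁻¹ * g) • x i = x i := fun i => congrArg (fun z : Fin 3 ↪ α => z i) h5
    have h7 := hs (h⁻¹ * g) (x 0) (x 1) (x 2) (x.injective.ne (by decide))
      (x.injective.ne (by decide)) (x.injective.ne (by decide)) (h6 0) (h6 1) (h6 2)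
    exact (inv_mul_eq_one.mp h7).symm
  have hcardE : Nat.card (Fin 3 ↪ α) = p * (p - 1) * (p - 2) := by
    rw [Nat.card_eq_fintype_card, Fintype.card_embedding_eq, Fintype.card_fin, hαf]
    simp only [Nat.descFactorial_succ, Nat.descFactorial_zero]
    simp
    ring
  have hbij := Function.Injective.bijective_of_nat_card_le hinj (by rw [hcardE, hcard])
  exact hbij.2 y

/-- A doubly transitive group of prime degree `p > 2` whose Sylow `p`-normalizer has order `2p`
is `SL(2, 2^a)` with `p = 2^a + 1`. -/
theorem prime_degree_two_sl2 {G : Type u} [Group G] [Finite G] {α : Type v} [Finite α]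
    [MulAction G α] [FaithfulSMul G α] {p : ℕ} [hp : Fact p.Prime] (hp2 : 2 < p)
    (hα : Nat.card α = p) (h2 : MulAction.IsMultiplyPretransitive G α 2) (P : Sylow p G)
    (hN : Nat.card (normalizer ((P : Subgroup G) : Set G)) = 2 * p) :
    ∃ (a : ℕ) (F : Type) (_ : Field F) (_ : Fintype F), p = 2 ^ a + 1 ∧
      Fintype.card F = 2 ^ a ∧ Nonempty (G ≃* Matrix.SpecialLinearGroup (Fin 2) F) := by
  classical
  cases nonempty_fintype α
  have hαf : Fintype.card α = p := by rw [← Nat.card_eq_fintype_card]; exact hα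
  have hS := sharp3_of_prime_degree_two hp2 hα h2 P hN
  have hodd : Odd (Fintype.card α) := by
    rw [hαf]
    exact hp.out.odd_of_ne_two (by omega)
  obtain ⟨a, -, hca, F, instF, instFin, hF, hchar, ⟨e⟩⟩ :=
    sharp3_psl2_galois hS hodd (by rw [hαf]; omega)
  have := hchar
  obtain ⟨e2⟩ := psl_iso_sl_char2 F
  exact ⟨a, F, instF, instFin, by rw [← hαf, hca], hF, ⟨e.trans e2⟩⟩

/-- A faithful group of prime degree `p > 2` whose Sylow `p`-normalizer has order `2p` and
whose Sylow `p`-subgroup is not normal is transitive and not solvable. -/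
theorem prime_degree_two_facts {G : Type u} [Group G] [Finite G] {α : Type v} [Finite α]
    [MulAction G α] [FaithfulSMul G α] {p : ℕ} [hp : Fact p.Prime] (hp2 : 2 < p)
    (hα : Nat.card α = p) (P : Sylow p G)
    (hN : Nat.card (normalizer ((P : Subgroup G) : Set G)) = 2 * p)
    (hnorm : ¬ (P : Subgroup G).Normal) :
    MulAction.IsPretransitive G α ∧ ¬ Group.IsSolvable G := by
  classical
  have hnp := card_normalizer_sylow_mul P
  rw [hN] at hnp
  have hnpdvd : ¬ p ∣ 2 * Nat.card (Sylow p G) := by
    intro h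
    rcases (Nat.Prime.dvd_mul hp.out).mp h with h | h
    · exact absurd (Nat.le_of_dvd (by norm_num) h) (by omega)
    · exact not_dvd_card_sylow p G h
  have hcardG : Nat.card G = p ^ 1 * (2 * Nat.card (Sylow p G)) := by
    rw [← hnp]
    ring
  obtain ⟨g, hg⟩ := exists_prime_orderOf_dvd_card' (G := G) p
    (by rw [hcardG, pow_one]; exact Dvd.intro _ rfl)
  have htrans : MulAction.IsPretransitive G α := by
    constructor
    intro a b
    obtain ⟨k, hk⟩ := zpow_smul_surj_of_prime hα g hg a b
    exact ⟨g ^ k, hk⟩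
  refine ⟨htrans, ?_⟩
  intro hsolv
  have hn1 : 1 < Nat.card (Sylow p G) := by
    have hpos : 0 < Nat.card (Sylow p G) := Nat.card_pos
    by_contra hcon
    have h1 : Nat.card (Sylow p G) = 1 := by omega
    have hsub : Subsingleton (Sylow p G) := (Nat.card_eq_one_iff_unique.mp h1).1
    exact hnorm (Sylow.normal_of_subsingleton P)
  have hrel := relIndex_sylow_normalizer_mul hcardG hnpdvd P
  have hrel2 : (P : Subgroup G).relIndex (normalizer ((P : Subgroup G) : Set G)) = 2 :=
    Nat.eq_of_mul_eq_mul_right (by omega : 0 < Nat.card (Sylow p G)) hrel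
  have hsimple : IsSimpleGroup G :=
    simple_of_prime_degree hα P hn1 (by rw [hrel2]; exact Nat.prime_two)
  have hcomm : ∀ a b : G, a * b = b * a := IsSimpleGroup.comm_iff_isSolvable.mpr hsolv
  apply hnorm
  constructor
  intro x hx y
  rw [hcomm y x, mul_inv_cancel_right]
  exact hx

end Cfsg.Agent.Lib.Helper23
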