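import Mathlib
import Cfsg.Agent.Lib.Helper23.Syl
import Cfsg.Agent.Lib.Helper23.Syl2
import Cfsg.Agent.Lib.Helper23.Count
import Cfsg.Agent.Lib.Helper4.Burnside

namespace Cfsg.Agent.Lib.Helper23

open Subgroup

/-- An automorphism of prime order `ℓ` of a group of order `p ^ 2`: `ℓ ∣ p² - 1` or
`ℓ ∣ p² - p`. -/
theorem aut_prime_order_dvd {P : Type*} [Group P] [Finite P] {p ℓ : ℕ} [hp : Fact p.Prime]
    [hℓ : Fact ℓ.Prime] (hP : Nat.card P = p ^ 2) (φ : MulAut P) (hφ : orderOf φ = ℓ) :
    ℓ ∣ p ^ 2 - 1 ∨ ℓ ∣ p ^ 2 - p := by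
  let F : Subgroup P :=
    { carrier := {x | φ x = x}
      mul_mem' := fun {a b} ha hb => by
        show φ (a * b) = a * b
        rw [map_mul, show φ a = a from ha, show φ b = b from hb]
      one_mem' := map_one φ
      inv_mem' := fun {a} ha => by
        show φ a⁻¹ = a⁻¹
        rw [map_inv, show φ a = a from ha] }
  have hpg : IsPGroup ℓ (zpowers φ) :=
    IsPGroup.of_card (n := 1) (by rw [Nat.card_zpowers, hφ, pow_one])
  have hmod := hpg.card_modEq_card_fixedPoints P
  have hfix : (MulAction.fixedPoints (zpowers φ) P) = (F : Set P) := by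
    ext x
    simp only [MulAction.mem_fixedPoints]
    constructor
    · intro h
      exact h ⟨φ, mem_zpowers φ⟩
    · rintro h ⟨g, hg⟩
      have hstab : φ ∈ MulAction.stabilizer (MulAut P) x := h
      have hle : zpowers φ ≤ MulAction.stabilizer (MulAut P) x := by
        rw [zpowers_le]
        exact hstab
      exact hle hg
  have hcard : Nat.card (MulAction.fixedPoints (zpowers φ) P) = Nat.card F := by
    rw [hfix]
    rfl
  rw [hcard, hP] at hmod
  have hFd : Nat.card F ∣ p ^ 2 := hP ▸ Subgroup.card_subgroup_dvd_card F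
  obtain ⟨j, hj, hFj⟩ := (Nat.dvd_prime_pow hp.out).mp hFd
  have hp2 := hp.out.two_le
  have hj2 : j ≠ 2 := by
    rintro rfl
    have hFtop : F = ⊤ := (Subgroup.card_eq_iff_eq_top F).mp (hFj.trans hP.symm)
    have hφ1 : φ = 1 := by
      ext x
      have : x ∈ F := by rw [hFtop]; trivial
      exact this
    rw [hφ1, orderOf_one] at hφ
    exact hℓ.out.one_lt.ne hφ
  rw [hFj] at hmod
  have hj01 : j = 0 ∨ j = 1 := by omega
  rcases hj01 with rfl | rfl
  · left
    rw [pow_zero] at hmod
    exact (Nat.modEq_iff_dvd' (Nat.one_le_pow _ _ hp.out.pos)).mp hmod.symm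
  · right
    rw [pow_one] at hmod
    exact (Nat.modEq_iff_dvd' (by nlinarith)).mp hmod.symm

theorem card_orderOf_add_le {G : Type*} [Group G] [Finite G] {a b : ℕ} (hab : a ≠ b) :
    Nat.card {g : G // orderOf g = a} + Nat.card {g : G // orderOf g = b} ≤ Nat.card G := by
  rw [← Nat.card_sum]
  apply Nat.card_le_card_of_injective
    (Sum.elim (fun g : {g : G // orderOf g = a} => g.1) (fun g : {g : G // orderOf g = b} => g.1))
  rintro (⟨x, hx⟩ | ⟨x, hx⟩) (⟨y, hy⟩ | ⟨y, hy⟩) hxy
  · simp only [Sum.elim_inl] at hxy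
    subst hxy
    rfl
  · simp only [Sum.elim_inl, Sum.elim_inr] at hxy
    subst hxy
    exact absurd (hx.symm.trans hy) hab
  · simp only [Sum.elim_inl, Sum.elim_inr] at hxy
    subst hxy
    exact absurd (hy.symm.trans hx) hab
  · simp only [Sum.elim_inr] at hxy
    subst hxy
    rfl

section
set_option linter.unusedSectionVars false
variable {G : Type*} [Group G] [Finite G] [IsSimpleGroup G]

theorem simple_not_two_primes (hG : ¬ IsMulCommutative G) (p q a b : ℕ) (hp : p.Prime)
    (hq : q.Prime) (h : Nat.card G = p ^ a * q ^ b) : False := by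
  have hs := Cfsg.Agent.Lib.Helper4.burnside p q a b hp hq h
  exact hG ⟨⟨IsSimpleGroup.comm_iff_isSolvable.mpr hs⟩⟩

/-- In a non-abelian simple group, a Sylow subgroup for the smallest prime divisor does not have
prime order. -/
theorem simple_smallest_prime_sylow_not_prime (hG : ¬ IsMulCommutative G) {q m : ℕ}
    [hq : Fact q.Prime] (h : Nat.card G = q * m) (hm : ¬ q ∣ m)
    (hsm : ∀ ℓ : ℕ, ℓ.Prime → ℓ ∣ m → q < ℓ) : False := by
  apply simple_burnside_prime hG h hm
  by_contra hne
  obtain ⟨ℓ, hℓ, hℓd⟩ := Nat.exists_prime_and_dvd hne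
  have h1 : ℓ ∣ m / Nat.card (Sylow q G) := hℓd.trans (Nat.gcd_dvd_left _ _)
  have h2 : ℓ ∣ q - 1 := hℓd.trans (Nat.gcd_dvd_right _ _)
  have h3 : Nat.card (Sylow q G) ∣ m := card_sylow_dvd_of_eq (k := 1) (by rw [h, pow_one]) hm
  have h4 := hsm ℓ hℓ (h1.trans (Nat.div_dvd_of_dvd h3))
  have h5 : ℓ ≤ q - 1 := Nat.le_of_dvd (by have := hq.out.two_le; omega) h2
  omega

/-- In a non-abelian simple group whose smallest prime divisor `p` has Sylow subgroups of order
`p ^ 2`: `p = 2` and `3 ∣ |G|`. -/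
theorem simple_p2_smallest (hG : ¬ IsMulCommutative G) {p m : ℕ} [hp : Fact p.Prime]
    (h : Nat.card G = p ^ 2 * m) (hm : ¬ p ∣ m) (hsm : ∀ ℓ : ℕ, ℓ.Prime → ℓ ∣ m → p < ℓ) :
    p = 2 ∧ 3 ∣ m := by
  obtain ⟨P⟩ : Nonempty (Sylow p G) := inferInstance
  have hPc : Nat.card (P : Subgroup G) = p ^ 2 := sylow_card_of_eq h hm P
  have hp2 := hp.out.two_le
  have hcomm : IsMulCommutative (P : Subgroup G) :=
    IsPGroup.isMulCommutative_of_card_eq_prime_sq hPc
  have hPne : (P : Subgroup G) ≠ ⊥ := by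
    intro hb
    rw [hb, Subgroup.card_bot] at hPc
    nlinarith
  have hr1 : (centralizer ((P : Subgroup G) : Set G)).relIndex
      (normalizer ((P : Subgroup G) : Set G)) ≠ 1 := by
    rw [Ne, Subgroup.relIndex_eq_one]
    exact simple_not_normalizer_le_centralizer hG P hPne
  have hrm : (centralizer ((P : Subgroup G) : Set G)).relIndex
      (normalizer ((P : Subgroup G) : Set G)) ∣ m := by
    have h3 := relIndex_centralizer_normalizer_dvd_relIndex (P : Subgroup G)
    have h4 := relIndex_sylow_normalizer_mul h hm P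
    exact h3.trans (Dvd.intro _ h4)
  have hraut := relIndex_centralizer_normalizer_dvd_card_mulAut (P : Subgroup G)
  obtain ⟨ℓ, hℓ, hℓd⟩ := Nat.exists_prime_and_dvd hr1
  have hpl := hsm ℓ hℓ (hℓd.trans hrm)
  have : Fact ℓ.Prime := ⟨hℓ⟩
  obtain ⟨φ, hφ⟩ := exists_prime_orderOf_dvd_card' ℓ (hℓd.trans hraut)
  have hl3 : ℓ = p + 1 := by
    rcases aut_prime_order_dvd hPc φ hφ with h5 | h5
    · have e : p ^ 2 - 1 = (p - 1) * (p + 1) := by
        obtain ⟨k, rfl⟩ : ∃ k, p = k + 1 := ⟨p - 1, by omega⟩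
        simp only [Nat.add_sub_cancel]
        have : (k + 1) ^ 2 = k * (k + 1 + 1) + 1 := by ring
        omega
      rw [e] at h5
      rcases (Nat.Prime.dvd_mul hℓ).mp h5 with h6 | h6
      · have := Nat.le_of_dvd (by omega) h6
        omega
      · have := Nat.le_of_dvd (by omega) h6
        omega
    · have e : p ^ 2 - p = p * (p - 1) := by
        obtain ⟨k, rfl⟩ : ∃ k, p = k + 1 := ⟨p - 1, by omega⟩
        simp only [Nat.add_sub_cancel]
        have : (k + 1) ^ 2 = (k + 1) * k + (k + 1) := by ring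
        omega
      rw [e] at h5
      rcases (Nat.Prime.dvd_mul hℓ).mp h5 with h6 | h6
      · have := Nat.le_of_dvd (by omega) h6
        omega
      · have := Nat.le_of_dvd (by omega) h6
        omega
  have hp2' : p = 2 := by
    rcases hp.out.eq_two_or_odd' with h7 | h7
    · exact h7
    · exfalso
      have hev : Even ℓ := by
        rw [hl3]
        exact h7.add_one
      have := (Nat.Prime.even_iff hℓ).mp hev
      omega
  refine ⟨hp2', ?_⟩
  have : ℓ = 3 := by omega
  rw [← this]
  exact hℓd.trans hrm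

theorem simple_132_false (hG : ¬ IsMulCommutative G) (h : Nat.card G = 132) : False := by
  have : Fact (Nat.Prime 11) := ⟨by norm_num⟩
  have : Fact (Nat.Prime 3) := ⟨by norm_num⟩
  -- `n_11 = 12`
  have h11 : Nat.card G = 11 ^ 1 * 12 := h.trans (by norm_num)
  have hm11 : ¬ 11 ∣ 12 := by norm_num
  have hmem11 := card_sylow_mem_filter h11 hm11
  have hne11 := simple_sylow_card_ne_one h11 hm11 (by norm_num) (by norm_num)
  rw [show (Nat.divisors 12).filter (fun d => d % 11 = 1) = {1, 12} from by decide +kernel]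
    at hmem11
  simp only [Finset.mem_insert, Finset.mem_singleton] at hmem11
  have hn11 : Nat.card (Sylow 11 G) = 12 := by
    rcases hmem11 with h1 | h1
    · exact absurd h1 hne11
    · exact h1
  have hc11 := card_orderOf_eq_prime (G := G) (p := 11) (m := 12) (h.trans (by norm_num))
    (by norm_num)
  rw [hn11] at hc11
  -- `n_3 = 22`
  have h3 : Nat.card G = 3 ^ 1 * 44 := h.trans (by norm_num)
  have hm3 : ¬ 3 ∣ 44 := by norm_num
  have hmem3 := card_sylow_mem_filter h3 hm3
  have hne3 := simple_sylow_card_ne_one h3 hm3 (by norm_num) (by norm_num)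
  rw [show (Nat.divisors 44).filter (fun d => d % 3 = 1) = {1, 4, 22} from by decide +kernel]
    at hmem3
  simp only [Finset.mem_insert, Finset.mem_singleton] at hmem3
  have hn3 : Nat.card (Sylow 3 G) = 22 := by
    rcases hmem3 with h1 | h1 | h1
    · exact absurd h1 hne3
    · exfalso
      obtain ⟨Q⟩ : Nonempty (Sylow 3 G) := inferInstance
      have h4 : Nat.card (Sylow 3 G) = (normalizer ((Q : Subgroup G) : Set G)).index :=
        Sylow.card_eq_index_normalizer Q
      have h5 := simple_two_mul_card_dvd_factorial hG (normalizer ((Q : Subgroup G) : Set G)) (by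
        intro htop
        rw [htop, Subgroup.index_top] at h4
        omega)
      rw [← h4, h1, h] at h5
      revert h5
      decide
    · exact h1
  have hc3 := card_orderOf_eq_prime (G := G) (p := 3) (m := 44) (h.trans (by norm_num))
    (by norm_num)
  rw [hn3] at hc3
  have hle := card_orderOf_add_le (G := G) (a := 11) (b := 3) (by norm_num)
  rw [hc11, hc3, h] at hle
  omega

/-- A simple group of order `p² q r` with `p < q < r` has order 60. -/
theorem simple_p2qr_aux (hG : ¬ IsMulCommutative G) (p q r : ℕ) (hp : p.Prime) (hq : q.Prime)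
    (hr : r.Prime) (hpq : p < q) (hqr : q < r) (h : Nat.card G = p ^ 2 * q * r) :
    Nat.card G = 60 := by
  have : Fact p.Prime := ⟨hp⟩
  have : Fact r.Prime := ⟨hr⟩
  have hfac : ∀ ℓ : ℕ, ℓ.Prime → ℓ ∣ q * r → ℓ = q ∨ ℓ = r := by
    intro ℓ hℓ hd
    rcases (Nat.Prime.dvd_mul hℓ).mp hd with h1 | h1
    · exact Or.inl ((Nat.prime_dvd_prime_iff_eq hℓ hq).mp h1)
    · exact Or.inr ((Nat.prime_dvd_prime_iff_eq hℓ hr).mp h1)
  have hm : ¬ p ∣ q * r := by
    intro hd
    rcases hfac p hp hd with h1 | h1 <;> omega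
  obtain ⟨hp2, h3⟩ := simple_p2_smallest hG (p := p) (m := q * r) (by rw [h, mul_assoc]) hm
    (fun ℓ hℓ hd => by rcases hfac ℓ hℓ hd with h1 | h1 <;> omega)
  have hq3 : q = 3 := by
    rcases hfac 3 (by norm_num) h3 with h1 | h1 <;> omega
  subst hp2 hq3
  have h12 : Nat.card G = r ^ 1 * 12 := by rw [h]; ring
  have hr12 : ¬ r ∣ 12 := by
    intro hd
    have h4 : r ∣ 2 ^ 2 * 3 := by simpa using hd
    rcases (Nat.Prime.dvd_mul hr).mp h4 with h5 | h5
    · have := Nat.le_of_dvd (by norm_num) (Nat.Prime.dvd_of_dvd_pow hr h5)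
      omega
    · have := Nat.le_of_dvd (by norm_num) h5
      omega
  have hmem := card_sylow_mem_filter h12 hr12
  have hne := simple_sylow_card_ne_one h12 hr12 (by norm_num) (by norm_num)
  rw [Finset.mem_filter, show Nat.divisors 12 = {1, 2, 3, 4, 6, 12} from by decide +kernel] at hmem
  obtain ⟨hmem, hmod⟩ := hmem
  simp only [Finset.mem_insert, Finset.mem_singleton] at hmem
  have hdm := Nat.div_add_mod (Nat.card (Sylow r G)) r
  rw [hmod] at hdm
  rcases hmem with h1 | h1 | h1 | h1 | h1 | h1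
  · exact absurd h1 hne
  · exfalso
    rw [h1, Nat.mod_eq_of_lt (by omega)] at hmod
    omega
  · exfalso
    rw [h1, Nat.mod_eq_of_lt (by omega)] at hmod
    omega
  · exfalso
    rw [h1, Nat.mod_eq_of_lt (by omega)] at hmod
    omega
  · rw [h1] at hdm
    have h5 : r ∣ 5 := ⟨6 / r, by omega⟩
    have hr5 : r = 5 := (Nat.prime_dvd_prime_iff_eq hr (by norm_num)).mp h5
    rw [h, hr5]
    norm_num
  · exfalso
    rw [h1] at hdm
    have h5 : r ∣ 11 := ⟨12 / r, by omega⟩
    have hr11 : r = 11 := (Nat.prime_dvd_prime_iff_eq hr (by norm_num)).mp h5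
    exact simple_132_false hG (by rw [h, hr11]; norm_num)

/-- A simple group of order `p² q r` has order 60. -/
theorem simple_p2qr (p q r : ℕ) (hp : p.Prime) (hq : q.Prime) (hr : r.Prime)
    (h : Nat.card G = p ^ 2 * q * r) : Nat.card G = 60 := by
  have hp2 := hp.two_le
  have hq2 := hq.two_le
  have hr2 := hr.two_le
  have hG : ¬ IsMulCommutative G := by
    apply not_comm_of_simple_of_not_prime
    rw [h, show p ^ 2 * q * r = p * (p * q * r) from by ring]
    apply Nat.not_prime_mul (by omega)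
    have : 2 * 2 * 2 ≤ p * q * r := by gcongr
    omega
  have hpq : p ≠ q := by
    rintro rfl
    exact simple_not_two_primes hG p r 3 1 hp hr (by rw [h]; ring)
  have hpr : p ≠ r := by
    rintro rfl
    exact simple_not_two_primes hG p q 3 1 hp hq (by rw [h]; ring)
  have hqr : q ≠ r := by
    rintro rfl
    exact simple_not_two_primes hG p q 2 2 hp hq (by rw [h]; ring)
  have hfac : ∀ a b ℓ : ℕ, a.Prime → b.Prime → ℓ.Prime → ℓ ∣ a ^ 2 * b → ℓ = a ∨ ℓ = b := by
    intro a b ℓ ha hb hℓ hd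
    rcases (Nat.Prime.dvd_mul hℓ).mp hd with h1 | h1
    · exact Or.inl ((Nat.prime_dvd_prime_iff_eq hℓ ha).mp (Nat.Prime.dvd_of_dvd_pow hℓ h1))
    · exact Or.inr ((Nat.prime_dvd_prime_iff_eq hℓ hb).mp h1)
  by_cases h1 : q < p ∧ q < r
  · exfalso
    have : Fact q.Prime := ⟨hq⟩
    refine simple_smallest_prime_sylow_not_prime hG (q := q) (m := p ^ 2 * r)
      (by rw [h]; ring) ?_ ?_
    · intro hd
      rcases hfac p r q hp hr hq hd with h2 | h2 <;> omega
    · intro ℓ hℓ hd
      rcases hfac p r ℓ hp hr hℓ hd with h2 | h2 <;> omega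
  by_cases h2 : r < p ∧ r < q
  · exfalso
    have : Fact r.Prime := ⟨hr⟩
    refine simple_smallest_prime_sylow_not_prime hG (q := r) (m := p ^ 2 * q)
      (by rw [h]; ring) ?_ ?_
    · intro hd
      rcases hfac p q r hp hq hr hd with h3 | h3 <;> omega
    · intro ℓ hℓ hd
      rcases hfac p q ℓ hp hq hℓ hd with h3 | h3 <;> omega
  have hpq' : p < q := by omega
  have hpr' : p < r := by omega
  rcases lt_or_gt_of_ne hqr with h3 | h3
  · exact simple_p2qr_aux hG p q r hp hq hr hpq' h3 h
  · exact simple_p2qr_aux hG p r q hp hr hq hpr' h3 (by rw [h]; ring)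

end

end Cfsg.Agent.Lib.Helper23
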