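import Mathlib
import Cfsg.Agent.Lib.Helper23.Syl

namespace Cfsg.Agent.Lib.Helper23

open Subgroup

section
variable {G : Type*} [Group G]

theorem sylow_normal_of_card_pqr [Finite G] (p q r : ℕ) (hp : p.Prime) (hq : q.Prime)
    [hr : Fact r.Prime] (hpq : p < q) (hqr : q < r) (hG : Nat.card G = p * q * r)
    (R : Sylow r G) : (R : Subgroup G).Normal := by
  have : Fact p.Prime := ⟨hp⟩
  have hcard : Nat.card G = p ^ 1 * (q * r) := by rw [hG]; ring
  have hpm : ¬ p ∣ q * r := by
    rw [Nat.Prime.dvd_mul hp]
    push Not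
    exact ⟨fun h => hpq.ne ((Nat.prime_dvd_prime_iff_eq hp hq).mp h),
      fun h => (hpq.trans hqr).ne ((Nat.prime_dvd_prime_iff_eq hp hr.out).mp h)⟩
  obtain ⟨P⟩ : Nonempty (Sylow p G) := inferInstance
  have hPc : Nat.card (P : Subgroup G) = p := by
    simpa using sylow_card_of_eq hcard hpm P
  have : IsCyclic (P : Subgroup G) := isCyclic_of_prime_card hPc
  have : IsMulCommutative (P : Subgroup G) := isMulCommutative_of_isCyclic
  have h1 := relIndex_centralizer_normalizer_dvd_pred (P : Subgroup G) hPc
  have h2 := relIndex_centralizer_normalizer_dvd_relIndex (P : Subgroup G)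
  have h3 := relIndex_sylow_normalizer_mul hcard hpm P
  have h4 : (centralizer ((P : Subgroup G) : Set G)).relIndex
      (normalizer ((P : Subgroup G) : Set G)) ∣ q * r := h2.trans (Dvd.intro _ h3)
  have hp2 := hp.two_le
  have hcop : Nat.Coprime (q * r) (p - 1) := by
    apply Nat.Coprime.mul_left
    · exact (Nat.Prime.coprime_iff_not_dvd hq).mpr (fun h => by
        have := Nat.le_of_dvd (by omega) h
        omega)
    · exact (Nat.Prime.coprime_iff_not_dvd hr.out).mpr (fun h => by
        have := Nat.le_of_dvd (by omega) h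
        omega)
  have h5 : (centralizer ((P : Subgroup G) : Set G)).relIndex
      (normalizer ((P : Subgroup G) : Set G)) = 1 := by
    have h6 := Nat.dvd_gcd h4 h1
    rw [hcop.gcd_eq_one] at h6
    exact Nat.dvd_one.mp h6
  have hle : normalizer ((P : Subgroup G) : Set G) ≤ centralizer ((P : Subgroup G) : Set G) :=
    relIndex_eq_one.mp h5
  have hK := MonoidHom.ker_transferSylow_isComplement' P hle
  generalize hM : (MonoidHom.transferSylow P hle).ker = M at hK
  have hMn : M.Normal := hM ▸ MonoidHom.normal_ker _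
  have hMc : Nat.card M = q * r := by
    have h6 := hK.card_mul_card
    rw [hPc, hG] at h6
    exact Nat.eq_of_mul_eq_mul_right hp.pos (by rw [h6]; ring)
  have hMcard' : Nat.card M = r ^ 1 * q := by rw [hMc]; ring
  have hrq : ¬ r ∣ q := fun h => hqr.ne' ((Nat.prime_dvd_prime_iff_eq hr.out hq).mp h)
  have hdvd := card_sylow_dvd_of_eq (G := M) hMcard' hrq
  have hmod := card_sylow_mod (G := M) r
  have hn1 : Nat.card (Sylow r M) = 1 := by
    rcases (Nat.dvd_prime hq).mp hdvd with h | h
    · exact h
    · rw [h, Nat.mod_eq_of_lt hqr, Nat.mod_eq_of_lt hr.out.one_lt] at hmod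
      exact absurd hmod hq.one_lt.ne'
  obtain ⟨S⟩ : Nonempty (Sylow r M) := inferInstance
  have : Subsingleton (Sylow r M) := (Nat.card_eq_one_iff_unique.mp hn1).1
  have hSchar : (S : Subgroup M).Characteristic := Sylow.characteristic_of_subsingleton S
  have hSn : ((S : Subgroup M).map M.subtype).Normal :=
    ConjAct.normal_of_characteristic_of_normal
  have hrpq : ¬ r ∣ p * q := by
    rw [Nat.Prime.dvd_mul hr.out]
    push Not
    exact ⟨fun h => (hpq.trans hqr).ne' ((Nat.prime_dvd_prime_iff_eq hr.out hp).mp h), hrq⟩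
  have hSc : Nat.card ((S : Subgroup M).map M.subtype) = r ^ (Nat.card G).factorization r := by
    rw [Subgroup.card_map_of_injective (Subgroup.subtype_injective M),
      sylow_card_of_eq hMcard' hrq S,
      factorization_of_eq hr.out (show Nat.card G = r ^ 1 * (p * q) by rw [hG]; ring) hrpq]
  have hS'n : ((Sylow.ofCard _ hSc : Sylow r G) : Subgroup G).Normal := hSn
  have := Sylow.unique_of_normal (Sylow.ofCard _ hSc : Sylow r G) hS'n
  have hR : R = (Sylow.ofCard _ hSc : Sylow r G) := Subsingleton.elim _ _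
  rw [hR]
  exact hS'n

end

end Cfsg.Agent.Lib.Helper23
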