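import Mathlib
import Cfsg.Agent.Lib.Helper23.Count
import Cfsg.Agent.Lib.Helper23.Syl2
import Cfsg.Agent.Lib.Helper23.SignArg

/-!
# Further general lemmas on simple groups

* `centralizer_sylow_le_of_card_succ`: if there are `p + 1` Sylow `p`-subgroups of order `p`
  and the action on them is faithful, a Sylow `p`-subgroup is self-centralizing.
* `simple_index_factorial`: a simple group with a subgroup of index `k ≥ 5` which is not of
  order `k!/2` gives a proper subgroup of the alternating group of small index.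
* `simple_no_central_fusion`: a transfer argument for abelian Sylow subgroups.
-/

namespace Cfsg.Agent.Lib.Helper23

open Subgroup

section
variable {G : Type*} [Group G]

theorem centralizer_sylow_le_of_card_succ [Finite G] {p : ℕ} [hp : Fact p.Prime]
    (hfaith : ∀ g : G, (∀ Q : Sylow p G, g • Q = Q) → g = 1)
    (P : Sylow p G) (hPc : Nat.card (P : Subgroup G) = p) (hn : Nat.card (Sylow p G) = p + 1) :
    centralizer ((P : Subgroup G) : Set G) ≤ P := by
  intro c hc
  have hp1 := hp.out.one_lt
  obtain ⟨Q₀, hQ₀⟩ : ∃ Q₀ : Sylow p G, Q₀ ≠ P := by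
    have : Nontrivial (Sylow p G) := Finite.one_lt_card_iff_nontrivial.mp (by rw [hn]; omega)
    exact exists_ne P
  have hcP : c • P = P :=
    Sylow.smul_eq_iff_mem_normalizer.mpr (centralizer_le_normalizer _ hc)
  have hcQ : c • Q₀ ≠ P := by
    intro h
    apply hQ₀
    exact MulAction.injective c (h.trans hcP.symm)
  obtain ⟨x, hx, hxQ⟩ := exists_smul_eq_of_card_sylow_eq_succ P hPc hn Q₀ (c • Q₀) hQ₀ hcQ
  have : IsCyclic (P : Subgroup G) := isCyclic_of_prime_card hPc
  have hPcomm : IsMulCommutative (P : Subgroup G) := isMulCommutative_of_isCyclic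
  have hcomm : ∀ y ∈ (P : Subgroup G), (x⁻¹ * c) * y = y * (x⁻¹ * c) := by
    intro y hy
    rw [mem_centralizer_iff] at hc
    have h1 : y * c = c * y := hc y hy
    have h2 : x * y = y * x :=
      congrArg Subtype.val (hPcomm.is_comm.comm (⟨x, hx⟩ : (P : Subgroup G)) ⟨y, hy⟩)
    have h3 : x⁻¹ * y = y * x⁻¹ := by
      have : x⁻¹ * (x * y) * x⁻¹ = x⁻¹ * (y * x) * x⁻¹ := by rw [h2]
      have h4 : y * x⁻¹ = x⁻¹ * y := by simpa [mul_assoc] using this
      exact h4.symm
    rw [mul_assoc, ← h1, ← mul_assoc, h3, mul_assoc]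
  have hd : x⁻¹ * c = 1 := by
    apply hfaith
    intro Q
    by_cases hQ : Q = P
    · rw [hQ, mul_smul, hcP]
      exact Sylow.smul_eq_iff_mem_normalizer.mpr (le_normalizer (inv_mem hx))
    · obtain ⟨y, hy, hyQ⟩ := exists_smul_eq_of_card_sylow_eq_succ P hPc hn Q₀ Q hQ₀ hQ
      rw [← hyQ, ← mul_smul, hcomm y hy, mul_smul, mul_smul, ← hxQ, inv_smul_smul]
  have hcx : c = x := by
    have := eq_inv_of_mul_eq_one_right hd
    rwa [inv_inv] at this
  rw [hcx]
  exact hx

theorem simple_index_factorial [Finite G] [IsSimpleGroup G] (hG : ¬ IsMulCommutative G)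
    (H : Subgroup G) (hH : H ≠ ⊤) (h5 : 5 ≤ H.index)
    (hne : 2 * Nat.card G ≠ (H.index).factorial) :
    (H.index).factorial ∣ ((H.index).factorial / (2 * Nat.card G)).factorial := by
  classical
  obtain ⟨f, hf⟩ := simple_embeds_alt_fin hG H hH
  have hA : IsSimpleGroup (alternatingGroup (Fin H.index)) :=
    alternatingGroup.isSimpleGroup (by simpa using h5)
  have : Nontrivial (Fin H.index) := Fin.nontrivial_iff_two_le.mpr (by omega)
  have hAcard : 2 * Nat.card (alternatingGroup (Fin H.index)) = (H.index).factorial := by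
    have h2 := two_mul_card_alternatingGroup (α := Fin H.index)
    rw [Fintype.card_perm, Fintype.card_fin, ← Nat.card_eq_fintype_card] at h2
    exact h2
  have hR : Nat.card f.range = Nat.card G :=
    (Nat.card_congr (MonoidHom.ofInjective hf).toEquiv).symm
  have hRtop : f.range ≠ ⊤ := by
    intro h
    apply hne
    rw [← hAcard, ← hR, h, Subgroup.card_top]
  have hAnc : ¬ IsMulCommutative (alternatingGroup (Fin H.index)) := by
    apply not_comm_of_simple_of_not_prime
    intro hprime
    have h120 : (120 : ℕ) ∣ (H.index).factorial := by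
      have := Nat.factorial_dvd_factorial h5
      simpa [Nat.factorial] using this
    rw [← hAcard] at h120
    have h60 : (60 : ℕ) ∣ Nat.card (alternatingGroup (Fin H.index)) := by omega
    have h2 : (2 : ℕ) ∣ Nat.card (alternatingGroup (Fin H.index)) := dvd_trans (by norm_num) h60
    have h3 : (3 : ℕ) ∣ Nat.card (alternatingGroup (Fin H.index)) := dvd_trans (by norm_num) h60
    have e2 := (Nat.prime_dvd_prime_iff_eq Nat.prime_two hprime).mp h2
    have e3 := (Nat.prime_dvd_prime_iff_eq Nat.prime_three hprime).mp h3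
    omega
  have h1 := simple_two_mul_card_dvd_factorial hAnc f.range hRtop
  rw [hAcard] at h1
  have hidx : f.range.index = (H.index).factorial / (2 * Nat.card G) := by
    have h2 := f.range.card_mul_index
    rw [hR] at h2
    have h3 : 2 * Nat.card G * f.range.index = (H.index).factorial := by
      rw [← hAcard, ← h2]
      ring
    have hpos : 0 < 2 * Nat.card G := by
      have : 0 < Nat.card G := Nat.card_pos
      omega
    exact (Nat.div_eq_of_eq_mul_right hpos h3.symm).symm
  rwa [hidx] at h1

theorem simple_no_central_fusion [Finite G] [IsSimpleGroup G] (hG : ¬ IsMulCommutative G)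
    {p : ℕ} [hp : Fact p.Prime] (P : Sylow p G)
    (hP : ∀ a ∈ (P : Subgroup G), ∀ b ∈ (P : Subgroup G), a * b = b * a)
    (x : G) (hx : x ∈ (P : Subgroup G)) (hx1 : x ≠ 1)
    (hN : ∀ n ∈ normalizer ((P : Subgroup G) : Set G), n * x = x * n) : False := by
  classical
  let instCG : CommGroup (P : Subgroup G) :=
    { (inferInstance : Group (P : Subgroup G)) with
      mul_comm := fun a b => Subtype.ext (hP a a.2 b b.2) }
  have hPcomm : IsMulCommutative (P : Subgroup G) :=
    ⟨⟨fun a b => Subtype.ext (hP a a.2 b b.2)⟩⟩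
  have key : ∀ (k : ℕ) (g₀ : G), g₀⁻¹ * x ^ k * g₀ ∈ (P : Subgroup G) →
      g₀⁻¹ * x ^ k * g₀ = x ^ k := by
    intro k g₀ hk
    obtain ⟨n, hn, hn'⟩ := P.conj_eq_normalizer_conj_of_mem (x ^ k) g₀ (pow_mem hx k) hk
    rw [hn']
    have h1 : n * x ^ k = x ^ k * n := Commute.pow_right (show Commute n x from hN n hn) k
    rw [mul_assoc, ← h1, inv_mul_cancel_left]
  have htr := MonoidHom.transfer_eq_pow (MonoidHom.id (P : Subgroup G)) x key
  have hne : MonoidHom.transfer (MonoidHom.id (P : Subgroup G)) x ≠ 1 := by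
    rw [htr]
    intro h
    have h1 : x ^ (P : Subgroup G).index = 1 := congrArg Subtype.val h
    have h2 : orderOf x ∣ (P : Subgroup G).index := orderOf_dvd_of_pow_eq_one h1
    obtain ⟨j, hj⟩ := (IsPGroup.iff_orderOf.mp P.isPGroup') ⟨x, hx⟩
    rw [Subgroup.orderOf_mk] at hj
    have hj0 : j ≠ 0 := by
      rintro rfl
      rw [pow_zero, orderOf_eq_one_iff] at hj
      exact hx1 hj
    rw [hj] at h2
    exact P.not_dvd_index (dvd_trans (dvd_pow_self p hj0) h2)
  rcases (MonoidHom.transfer (MonoidHom.id (P : Subgroup G))).normal_ker.eq_bot_or_eq_top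
    with hb | ht
  · apply hG
    refine ⟨⟨fun a b => ?_⟩⟩
    have hinj := (MonoidHom.ker_eq_bot_iff _).mp hb
    apply hinj
    rw [map_mul, map_mul, mul_comm]
  · apply hne
    have hmem : x ∈ (MonoidHom.transfer (MonoidHom.id (P : Subgroup G))).ker := by
      rw [ht]
      trivial
    exact hmem

/-- In a non-abelian simple group, the centralizer of a non-identity element is proper. -/
theorem simple_centralizer_ne_top [IsSimpleGroup G] (hG : ¬ IsMulCommutative G) {x : G}
    (hx1 : x ≠ 1) : centralizer ({x} : Set G) ≠ ⊤ := by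
  intro htop
  have hxc : x ∈ center G := by
    rw [Subgroup.mem_center_iff]
    intro g
    have hg : g ∈ centralizer ({x} : Set G) := by rw [htop]; trivial
    rw [mem_centralizer_iff] at hg
    exact (hg x rfl).symm
  have hcn : (center G).Normal := inferInstance
  rcases hcn.eq_bot_or_eq_top with h1 | h1
  · rw [h1, mem_bot] at hxc
    exact hx1 hxc
  · apply hG
    refine ⟨⟨fun a b => ?_⟩⟩
    have hb : b ∈ center G := by rw [h1]; trivial
    exact Subgroup.mem_center_iff.mp hb a

end

end Cfsg.Agent.Lib.Helper23
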