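import Mathlib
import Cfsg.Agent.Lib.Helper23.Count
import Cfsg.Agent.Lib.Helper23.Syl2

namespace Cfsg.Agent.Lib.Helper23

open Subgroup

section
variable {G : Type*} [Group G]

theorem orderOf_eq_of_isConj {x y : G} (h : IsConj x y) : orderOf y = orderOf x := by
  obtain ⟨c, rfl⟩ := isConj_iff.mp h
  exact (MulAut.conj c).orderOf_eq x

/-- The conjugacy class of `x` is no larger than the set of elements of the same order. -/
theorem index_centralizer_le_card_orderOf [Finite G] (x : G) :
    (centralizer ({x} : Set G)).index ≤ Nat.card {g : G // orderOf g = orderOf x} := by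
  rw [← card_isConj_eq_index]
  exact Nat.card_le_card_of_injective
    (fun g : {h : G // IsConj x h} => (⟨g.1, orderOf_eq_of_isConj g.2⟩ :
      {g : G // orderOf g = orderOf x}))
    (fun a b hab => Subtype.ext (congrArg (fun z => z.1) hab))

/-- If `x` normalizes but does not centralize the Sylow `p`-subgroup `P` of prime order, then
the Sylow `p`-subgroups other than `P` fixed by `x` lie in distinct `P`-orbits. -/
theorem card_fixed_sylow_le [Finite G] {p : ℕ} [hp : Fact p.Prime] (P : Sylow p G)
    (hPc : Nat.card (P : Subgroup G) = p) (x : G)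
    (hxN : x ∈ normalizer ((P : Subgroup G) : Set G))
    (hxC : x ∉ centralizer ((P : Subgroup G) : Set G)) (S : Finset (Sylow p G))
    (hS : ∀ Q ∈ S, x • Q = Q ∧ Q ≠ P) :
    S.card * p ≤ Nat.card (Sylow p G) - 1 := by
  classical
  have hfin : Fintype (Sylow p G) := Fintype.ofFinite _
  have horb : ∀ Q ∈ S, ((MulAction.orbit (P : Subgroup G) Q).toFinset).card = p := by
    intro Q hQ
    rw [Set.toFinset_card, ← Nat.card_eq_fintype_card, sylow_card_orbit_eq_index]
    have h5 := card_inf_mul_index_subgroupOf (P : Subgroup G) (Q : Subgroup G)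
    rw [sylow_inf_eq_bot_of_card_prime P Q hPc (Ne.symm (hS Q hQ).2), Subgroup.card_bot, one_mul,
      hPc] at h5
    exact h5
  have hdisj : (S : Set (Sylow p G)).PairwiseDisjoint
      (fun Q => (MulAction.orbit (P : Subgroup G) Q).toFinset) := by
    intro Q hQ Q' hQ' hne
    rw [Function.onFun, Finset.disjoint_left]
    intro R hR hR'
    rw [Set.mem_toFinset] at hR hR'
    obtain ⟨⟨a, ha⟩, ha2⟩ := hR
    obtain ⟨⟨b, hb⟩, hb2⟩ := hR'
    have ha3 : a • Q = R := ha2
    have hb3 : b • Q' = R := hb2
    apply hxC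
    refine mem_centralizer_of_fixes_two_in_orbit P hPc x hxN Q Q' (hS Q hQ).1 (hS Q' hQ').1 hne
      (b⁻¹ * a) (mul_mem (inv_mem hb) ha) ?_
    rw [mul_smul, ha3, ← hb3, inv_smul_smul]
  have hsub : S.biUnion (fun Q => (MulAction.orbit (P : Subgroup G) Q).toFinset) ⊆
      Finset.univ.erase P := by
    intro R hR
    rw [Finset.mem_biUnion] at hR
    obtain ⟨Q, hQ, hR⟩ := hR
    rw [Set.mem_toFinset] at hR
    obtain ⟨⟨a, ha⟩, ha2⟩ := hR
    have ha3 : a • Q = R := ha2
    rw [Finset.mem_erase]
    refine ⟨?_, Finset.mem_univ _⟩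
    intro hRP
    apply (hS Q hQ).2
    have h7 : a⁻¹ • P = P :=
      Sylow.smul_eq_iff_mem_normalizer.mpr (le_normalizer (inv_mem ha))
    rw [← h7, ← hRP, ← ha3, inv_smul_smul]
  have h1 := Finset.card_le_card hsub
  rw [Finset.card_biUnion hdisj, Finset.sum_congr rfl horb, Finset.sum_const, smul_eq_mul,
    Finset.card_erase_of_mem (Finset.mem_univ _), Finset.card_univ,
    ← Nat.card_eq_fintype_card] at h1
  exact h1

/-- If `x` normalizes but does not centralize the Sylow `p`-subgroup `P` of prime order, then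
`p` does not divide `|C(x) ∩ N(P)|`. -/
theorem not_dvd_card_centralizer_inf_normalizer [Finite G] {p : ℕ} [hp : Fact p.Prime]
    (P : Sylow p G) (hPc : Nat.card (P : Subgroup G) = p) (x : G)
    (hxC : x ∉ centralizer ((P : Subgroup G) : Set G)) :
    ¬ p ∣ Nat.card ((centralizer ({x} : Set G) ⊓ normalizer ((P : Subgroup G) : Set G) :
      Subgroup G)) := by
  intro hdvd
  obtain ⟨⟨y, hy⟩, hy2⟩ := exists_prime_orderOf_dvd_card' (G := ((centralizer ({x} : Set G) ⊓
    normalizer ((P : Subgroup G) : Set G) : Subgroup G))) p hdvd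
  have hyo : orderOf y = p := by
    rw [← hy2]
    exact (Subgroup.orderOf_mk y hy).symm
  have hz : Nat.card (zpowers y) = p ^ 1 := by rw [Nat.card_zpowers, hyo, pow_one]
  have hzN : zpowers y ≤ normalizer ((P : Subgroup G) : Set G) := zpowers_le.mpr hy.2
  have h1 := (IsPGroup.of_card hz).inf_normalizer_sylow P
  have hyP : y ∈ (P : Subgroup G) := by
    have h2 : y ∈ (zpowers y ⊓ normalizer ((P : Subgroup G) : Set G) : Subgroup G) :=
      ⟨mem_zpowers y, hy.2⟩
    have h3 : y ∈ (zpowers y ⊓ (P : Subgroup G) : Subgroup G) := by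
      rw [← h1]
      exact h2
    exact h3.2
  have hy1 : y ≠ 1 := by
    rintro rfl
    rw [orderOf_one] at hyo
    exact hp.out.one_lt.ne hyo
  have hz2 : zpowers (⟨y, hyP⟩ : (P : Subgroup G)) = ⊤ :=
    zpowers_eq_top_of_prime_card hPc (fun h => hy1 (congrArg Subtype.val h))
  apply hxC
  rw [mem_centralizer_iff]
  intro w hw
  have hw2 : (⟨w, hw⟩ : (P : Subgroup G)) ∈ zpowers (⟨y, hyP⟩ : (P : Subgroup G)) := by
    rw [hz2]; trivial
  obtain ⟨k, hk⟩ := mem_zpowers_iff.mp hw2
  have hk' : y ^ k = w := by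
    have := congrArg Subtype.val hk
    simpa using this
  rw [← hk']
  have hc : Commute x y := by
    have := mem_centralizer_iff.mp hy.1 x (Set.mem_singleton x)
    exact this
  exact (hc.zpow_right k).eq.symm

/-- Centralizer bound: if `x` normalizes but does not centralize the Sylow `p`-subgroup `P`
of prime order, then `|C(x)| = k * |C(x) ∩ N(P)|` with `(k - 1) * p ≤ n_p - 1`. -/
theorem card_centralizer_eq_mul_of_normalizes_sylow [Finite G] {p : ℕ} [hp : Fact p.Prime]
    (P : Sylow p G) (hPc : Nat.card (P : Subgroup G) = p) (x : G)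
    (hxN : x ∈ normalizer ((P : Subgroup G) : Set G))
    (hxC : x ∉ centralizer ((P : Subgroup G) : Set G)) :
    ∃ k : ℕ, Nat.card (centralizer ({x} : Set G)) =
        Nat.card ((centralizer ({x} : Set G) ⊓ normalizer ((P : Subgroup G) : Set G) :
          Subgroup G)) * k ∧ (k - 1) * p ≤ Nat.card (Sylow p G) - 1 := by
  classical
  have hfin : Fintype (Sylow p G) := Fintype.ofFinite _
  have hstab : MulAction.stabilizer (centralizer ({x} : Set G)) P =
      (normalizer ((P : Subgroup G) : Set G)).subgroupOf (centralizer ({x} : Set G)) := by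
    ext ⟨c, hc⟩
    rw [MulAction.mem_stabilizer_iff, mem_subgroupOf]
    exact Sylow.smul_eq_iff_mem_normalizer
  have h1 := card_inf_mul_index_subgroupOf (centralizer ({x} : Set G))
    (normalizer ((P : Subgroup G) : Set G))
  rw [← hstab, MulAction.index_stabilizer] at h1
  refine ⟨_, h1.symm, ?_⟩
  have h2 := card_fixed_sylow_le P hPc x hxN hxC
    ((MulAction.orbit (centralizer ({x} : Set G)) P).toFinset.erase P) (by
      intro Q hQ
      rw [Finset.mem_erase, Set.mem_toFinset] at hQ
      obtain ⟨hQP, ⟨c, hc⟩, hc2⟩ := hQ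
      have hc3 : c • P = Q := hc2
      refine ⟨?_, hQP⟩
      have hxc : x * c = c * x := (mem_centralizer_iff.mp hc x (Set.mem_singleton x))
      rw [← hc3, ← mul_smul, hxc, mul_smul, Sylow.smul_eq_iff_mem_normalizer.mpr hxN])
  rw [Finset.card_erase_of_mem (by
    rw [Set.mem_toFinset]
    exact MulAction.mem_orbit_self P), Set.toFinset_card, ← Nat.card_eq_fintype_card,
    Nat.card_coe_set_eq] at h2
  exact h2

end

end Cfsg.Agent.Lib.Helper23
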