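import Mathlib
import Cfsg.Agent.Lib.Helper23.Count
import Cfsg.Agent.Lib.Helper23.Syl2

namespace Cfsg.Agent.Lib.Helper23

open Subgroup

/-- Counting by the value of a function into a finite set of values. -/
theorem card_subtype_mem_eq_sum {α β : Type*} [Finite α] [DecidableEq β] (f : α → β)
    (S : Finset β) :
    Nat.card {a : α // f a ∈ S} = ∑ d ∈ S, Nat.card {a : α // f a = d} := by
  classical
  have hα : Fintype α := Fintype.ofFinite α
  rw [Nat.card_eq_fintype_card, Fintype.card_subtype]
  rw [Finset.card_eq_sum_card_fiberwise (f := f) (t := S)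
    (fun a ha => by simpa using ha)]
  refine Finset.sum_congr rfl (fun d hd => ?_)
  rw [Nat.card_eq_fintype_card, Fintype.card_subtype]
  congr 1
  ext a
  simp only [Finset.mem_filter, Finset.mem_univ, true_and]
  constructor
  · rintro ⟨_, h2⟩
    exact h2
  · intro h2
    exact ⟨h2 ▸ hd, h2⟩

section
set_option linter.unusedSectionVars false
variable {G : Type*} [Group G] [Finite G] [IsSimpleGroup G]

theorem g168_not_comm (h : Nat.card G = 168) : ¬ IsMulCommutative G :=
  not_comm_of_simple_of_not_prime (by rw [h]; norm_num)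

theorem g168_index_ge (h : Nat.card G = 168) (H : Subgroup G) (hH : H ≠ ⊤) : 7 ≤ H.index := by
  have h2 := simple_two_mul_card_dvd_factorial (g168_not_comm h) H hH
  rw [h] at h2
  by_contra hlt
  push Not at hlt
  interval_cases H.index <;> revert h2 <;> decide

theorem g168_card_le (h : Nat.card G = 168) (H : Subgroup G) (hH : H ≠ ⊤) : Nat.card H ≤ 24 := by
  have h1 := g168_index_ge h H hH
  have h2 := H.card_mul_index
  rw [h] at h2
  nlinarith

theorem g168_n7 (h : Nat.card G = 168) : Nat.card (Sylow 7 G) = 8 := by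
  have : Fact (Nat.Prime 7) := ⟨by norm_num⟩
  have h1 : Nat.card G = 7 ^ 1 * 24 := h.trans (by norm_num)
  have hm : ¬ 7 ∣ 24 := by norm_num
  have hmem := card_sylow_mem_filter h1 hm
  have hne := simple_sylow_card_ne_one h1 hm (by norm_num) (by norm_num)
  rw [show (Nat.divisors 24).filter (fun d => d % 7 = 1) = {1, 8} from by decide +kernel] at hmem
  simp only [Finset.mem_insert, Finset.mem_singleton] at hmem
  rcases hmem with h2 | h2
  · exact absurd h2 hne
  · exact h2

theorem g168_card_sylow7 (h : Nat.card G = 168) (P : Sylow 7 G) :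
    Nat.card (P : Subgroup G) = 7 := by
  have : Fact (Nat.Prime 7) := ⟨by norm_num⟩
  have h1 : Nat.card G = 7 ^ 1 * 24 := h.trans (by norm_num)
  have hm : ¬ 7 ∣ 24 := by norm_num
  simpa using sylow_card_of_eq h1 hm P

theorem g168_C7 (h : Nat.card G = 168) (P : Sylow 7 G) :
    centralizer ((P : Subgroup G) : Set G) = P := by
  have : Fact (Nat.Prime 7) := ⟨by norm_num⟩
  have h1 : Nat.card G = 7 ^ 1 * 24 := h.trans (by norm_num)
  have hm : ¬ 7 ∣ 24 := by norm_num
  have hrel := relIndex_sylow_normalizer_mul h1 hm P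
  rw [g168_n7 h] at hrel
  have h3 : (P : Subgroup G).relIndex (normalizer ((P : Subgroup G) : Set G)) = 3 := by omega
  exact simple_centralizer_sylow_eq (g168_not_comm h) P (g168_card_sylow7 h P)
    (by rw [h3]; norm_num)

theorem g168_card_normalizer7 (h : Nat.card G = 168) (P : Sylow 7 G) :
    Nat.card (normalizer ((P : Subgroup G) : Set G)) = 21 := by
  have : Fact (Nat.Prime 7) := ⟨by norm_num⟩
  have h5 := card_normalizer_sylow_mul P
  rw [h, g168_n7 h] at h5
  omega

theorem g168_n3 (h : Nat.card G = 168) : Nat.card (Sylow 3 G) = 28 := by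
  have : Fact (Nat.Prime 3) := ⟨by norm_num⟩
  have : Fact (Nat.Prime 7) := ⟨by norm_num⟩
  have h1 : Nat.card G = 3 ^ 1 * 56 := h.trans (by norm_num)
  have hm : ¬ 3 ∣ 56 := by norm_num
  have hmem := card_sylow_mem_filter h1 hm
  have hne := simple_sylow_card_ne_one h1 hm (by norm_num) (by norm_num)
  rw [show (Nat.divisors 56).filter (fun d => d % 3 = 1) = {1, 4, 7, 28} from by decide +kernel]
    at hmem
  simp only [Finset.mem_insert, Finset.mem_singleton] at hmem
  have hne4 : Nat.card (Sylow 3 G) ≠ 4 := by
    intro h4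
    obtain ⟨Q⟩ : Nonempty (Sylow 3 G) := inferInstance
    have h3 : Nat.card (Sylow 3 G) = (normalizer ((Q : Subgroup G) : Set G)).index :=
      Sylow.card_eq_index_normalizer Q
    have h5 := g168_index_ge h (normalizer ((Q : Subgroup G) : Set G)) (by
      intro htop
      rw [htop, Subgroup.index_top] at h3
      omega)
    omega
  obtain ⟨P7⟩ : Nonempty (Sylow 7 G) := inferInstance
  have hHcard := g168_card_normalizer7 h P7
  generalize hH : normalizer ((P7 : Subgroup G) : Set G) = H at hHcard
  have hHidx : H.index = 8 := by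
    have := H.card_mul_index
    rw [hHcard, h] at this
    omega
  have hHtop : H ≠ ⊤ := by
    intro ht
    rw [ht, index_top] at hHidx
    omega
  have hlt := card_sylow_subgroup_lt (p := 3) (by rw [h]; norm_num) H hHtop
    (by rw [hHidx]; norm_num)
  have h1H : Nat.card H = 3 ^ 1 * 7 := hHcard.trans (by norm_num)
  have hmH : ¬ 3 ∣ 7 := by norm_num
  have hmemH := card_sylow_mem_filter (G := H) h1H hmH
  rw [show (Nat.divisors 7).filter (fun d => d % 3 = 1) = {1, 7} from by decide +kernel] at hmemH
  simp only [Finset.mem_insert, Finset.mem_singleton] at hmemH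
  have hH1 : Nat.card (Sylow 3 H) ≠ 1 := by
    intro h3
    obtain ⟨Q, hQH, hHQ⟩ := le_normalizer_of_card_sylow_subgroup_eq_one H
      (by rw [hHidx]; norm_num) h3
    have h4 := Subgroup.card_dvd_of_le hHQ
    have h5 := card_normalizer_sylow_mul Q
    rw [hHcard] at h4
    rw [h] at h5
    rcases hmem with h6 | h6 | h6 | h6
    · exact hne h6
    · exact hne4 h6
    · rw [h6] at h5
      omega
    · rw [h6] at h5
      omega
  rcases hmemH with h7 | h7
  · exact absurd h7 hH1
  · rw [h7] at hlt
    rcases hmem with h6 | h6 | h6 | h6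
    · exact absurd h6 hne
    · exact absurd h6 hne4
    · omega
    · exact h6

theorem g168_card_sylow3 (h : Nat.card G = 168) (P : Sylow 3 G) :
    Nat.card (P : Subgroup G) = 3 := by
  have : Fact (Nat.Prime 3) := ⟨by norm_num⟩
  have h1 : Nat.card G = 3 ^ 1 * 56 := h.trans (by norm_num)
  have hm : ¬ 3 ∣ 56 := by norm_num
  simpa using sylow_card_of_eq h1 hm P

theorem g168_C3 (h : Nat.card G = 168) (P : Sylow 3 G) :
    centralizer ((P : Subgroup G) : Set G) = P := by
  have : Fact (Nat.Prime 3) := ⟨by norm_num⟩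
  have h1 : Nat.card G = 3 ^ 1 * 56 := h.trans (by norm_num)
  have hm : ¬ 3 ∣ 56 := by norm_num
  have hrel := relIndex_sylow_normalizer_mul h1 hm P
  rw [g168_n3 h] at hrel
  have h3 : (P : Subgroup G).relIndex (normalizer ((P : Subgroup G) : Set G)) = 2 := by omega
  exact simple_centralizer_sylow_eq (g168_not_comm h) P (g168_card_sylow3 h P)
    (by rw [h3]; norm_num)

/-- Element orders in a simple group of order 168: 7, 3, or a divisor of 8. -/
theorem g168_orderOf (h : Nat.card G = 168) (g : G) :
    orderOf g = 7 ∨ orderOf g = 3 ∨ orderOf g ∣ 8 := by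
  have : Fact (Nat.Prime 3) := ⟨by norm_num⟩
  have : Fact (Nat.Prime 7) := ⟨by norm_num⟩
  by_cases h7 : 7 ∣ orderOf g
  · left
    exact orderOf_eq_prime_of_dvd (p := 7) (m := 24) (h.trans (by norm_num)) (by norm_num)
      (g168_C7 h) g h7
  · by_cases h3 : 3 ∣ orderOf g
    · right; left
      exact orderOf_eq_prime_of_dvd (p := 3) (m := 56) (h.trans (by norm_num)) (by norm_num)
        (g168_C3 h) g h3
    · right; right
      have h1 : orderOf g ∣ 8 * 21 := by
        have := orderOf_dvd_natCard g
        rwa [h] at this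
      have hc : Nat.Coprime (orderOf g) 21 := by
        have h21 : (21 : ℕ) = 3 * 7 := by norm_num
        rw [h21]
        apply Nat.Coprime.mul_right
        · exact ((Nat.Prime.coprime_iff_not_dvd (by norm_num : Nat.Prime 3)).mpr h3).symm
        · exact ((Nat.Prime.coprime_iff_not_dvd (by norm_num : Nat.Prime 7)).mpr h7).symm
      exact hc.dvd_of_dvd_mul_right h1

theorem g168_card_orderOf_seven (h : Nat.card G = 168) :
    Nat.card {g : G // orderOf g = 7} = 48 := by
  have : Fact (Nat.Prime 7) := ⟨by norm_num⟩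
  rw [card_orderOf_eq_prime (p := 7) (m := 24) (h.trans (by norm_num)) (by norm_num), g168_n7 h]

theorem g168_card_orderOf_three (h : Nat.card G = 168) :
    Nat.card {g : G // orderOf g = 3} = 56 := by
  have : Fact (Nat.Prime 3) := ⟨by norm_num⟩
  rw [card_orderOf_eq_prime (p := 3) (m := 56) (h.trans (by norm_num)) (by norm_num), g168_n3 h]

theorem g168_card_orderOf_zero (h : Nat.card G = 168) (d : ℕ) (h7 : d ≠ 7) (h3 : d ≠ 3)
    (h8 : ¬ d ∣ 8) : Nat.card {g : G // orderOf g = d} = 0 := by
  have : IsEmpty {g : G // orderOf g = d} := by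
    constructor
    rintro ⟨g, hg⟩
    rcases g168_orderOf h g with h1 | h1 | h1
    · exact h7 (hg ▸ h1)
    · exact h3 (hg ▸ h1)
    · exact h8 (hg ▸ h1)
  exact Nat.card_of_isEmpty

/-- Exactly 63 elements have order 2, 4 or 8. -/
theorem g168_card_two_elements (h : Nat.card G = 168) :
    Nat.card {g : G // orderOf g = 2} + Nat.card {g : G // orderOf g = 4} +
      Nat.card {g : G // orderOf g = 8} = 63 := by
  have h1 := sum_card_orderOf_eq_card (G := G)
  rw [h, show Nat.divisors 168 = {1, 2, 3, 4, 6, 7, 8, 12, 14, 21, 24, 28, 42, 56, 84, 168} from by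
    decide +kernel] at h1
  simp only [Finset.mem_insert, Finset.mem_singleton, Finset.sum_insert, Finset.sum_singleton,
    not_false_eq_true, Nat.reduceEqDiff, or_self] at h1
  have e1 : Nat.card {g : G // orderOf g = 1} = 1 := by
    have : Unique {g : G // orderOf g = 1} :=
      ⟨⟨⟨1, orderOf_one⟩⟩, fun g => Subtype.ext (orderOf_eq_one_iff.mp g.2)⟩
    exact Nat.card_unique
  rw [e1, g168_card_orderOf_seven h, g168_card_orderOf_three h,
    g168_card_orderOf_zero h 6 (by norm_num) (by norm_num) (by norm_num),
    g168_card_orderOf_zero h 12 (by norm_num) (by norm_num) (by norm_num),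
    g168_card_orderOf_zero h 14 (by norm_num) (by norm_num) (by norm_num),
    g168_card_orderOf_zero h 21 (by norm_num) (by norm_num) (by norm_num),
    g168_card_orderOf_zero h 24 (by norm_num) (by norm_num) (by norm_num),
    g168_card_orderOf_zero h 28 (by norm_num) (by norm_num) (by norm_num),
    g168_card_orderOf_zero h 42 (by norm_num) (by norm_num) (by norm_num),
    g168_card_orderOf_zero h 56 (by norm_num) (by norm_num) (by norm_num),
    g168_card_orderOf_zero h 84 (by norm_num) (by norm_num) (by norm_num),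
    g168_card_orderOf_zero h 168 (by norm_num) (by norm_num) (by norm_num)] at h1
  omega

theorem g168_n2 (h : Nat.card G = 168) : Nat.card (Sylow 2 G) = 21 := by
  have : Fact (Nat.Prime 2) := ⟨by norm_num⟩
  have h1 : Nat.card G = 2 ^ 3 * 21 := h.trans (by norm_num)
  have hm : ¬ 2 ∣ 21 := by norm_num
  have hmem := card_sylow_mem_filter h1 hm
  have hne := simple_sylow_card_ne_one h1 hm (by norm_num) (by norm_num)
  rw [show (Nat.divisors 21).filter (fun d => d % 2 = 1) = {1, 3, 7, 21} from by decide +kernel]
    at hmem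
  simp only [Finset.mem_insert, Finset.mem_singleton] at hmem
  have h63 := g168_card_two_elements h
  have hsum := card_subtype_mem_eq_sum (fun g : G => orderOf g) ({2, 4, 8} : Finset ℕ)
  simp only [Finset.mem_insert, Finset.mem_singleton, Finset.sum_insert, Finset.sum_singleton,
    not_false_eq_true, Nat.reduceEqDiff, or_self] at hsum
  have hle := card_le_of_forall_pElement h1 hm
    (fun g : G => orderOf g = 2 ∨ orderOf g = 4 ∨ orderOf g = 8) (by
      intro g hg
      refine ⟨?_, ?_⟩
      · rintro rfl
        rw [orderOf_one] at hg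
        omega
      · rcases hg with hg | hg | hg
        · exact ⟨1, by rw [hg]; norm_num⟩
        · exact ⟨2, by rw [hg]; norm_num⟩
        · exact ⟨3, by rw [hg]; norm_num⟩)
  rw [hsum] at hle
  rcases hmem with h6 | h6 | h6 | h6
  · exact absurd h6 hne
  · exfalso
    obtain ⟨Q⟩ : Nonempty (Sylow 2 G) := inferInstance
    have h3 : Nat.card (Sylow 2 G) = (normalizer ((Q : Subgroup G) : Set G)).index :=
      Sylow.card_eq_index_normalizer Q
    have h5 := g168_index_ge h (normalizer ((Q : Subgroup G) : Set G)) (by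
      intro htop
      rw [htop, Subgroup.index_top] at h3
      omega)
    omega
  · rw [h6] at hle
    omega
  · exact h6

end

end Cfsg.Agent.Lib.Helper23
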