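import Mathlib
import Cfsg.Agent.Lib.Helper23.G168a
import Cfsg.Agent.Lib.Helper23.FixBound
import Cfsg.Agent.Lib.Helper23.Brodkey
import Cfsg.Agent.Lib.Helper23.DihedralLift

namespace Cfsg.Agent.Lib.Helper23

open Subgroup

section general
variable {G : Type*} [Group G]

theorem centralizer_zpowers_eq (y : G) :
    centralizer ((zpowers y : Subgroup G) : Set G) = centralizer {y} := by
  ext x
  simp only [mem_centralizer_iff, Set.mem_singleton_iff, forall_eq, SetLike.mem_coe]
  constructor
  · intro hx
    exact hx y (mem_zpowers y)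
  · rintro hx g ⟨k, rfl⟩
    exact (Commute.zpow_left (show Commute y x from hx) k).eq

/-- If the number of elements of the order of `x` equals the class size of `x`, every element
of that order is conjugate to `x`. -/
theorem isConj_of_card_orderOf_eq_index [Finite G] (x : G)
    (hc : Nat.card {g : G // orderOf g = orderOf x} = (centralizer ({x} : Set G)).index)
    (s : G) (hs : orderOf s = orderOf x) : IsConj x s := by
  let f : {g : G // IsConj x g} → {g : G // orderOf g = orderOf x} :=
    fun g => ⟨g.1, orderOf_eq_of_isConj g.2⟩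
  have hf : Function.Injective f := by
    intro a b hab
    apply Subtype.ext
    exact congrArg (fun t : {g : G // orderOf g = orderOf x} => t.1) hab
  have hcard : Nat.card {g : G // IsConj x g} = Nat.card {g : G // orderOf g = orderOf x} := by
    rw [card_isConj_eq_index, hc]
  have hbij := (Nat.bijective_iff_injective_and_card f).mpr ⟨hf, hcard⟩
  obtain ⟨⟨g, hg⟩, hg2⟩ := hbij.2 ⟨s, hs⟩
  have : g = s := congrArg (fun t : {g : G // orderOf g = orderOf x} => t.1) hg2
  exact this ▸ hg

/-- A group in which a subgroup of index at most 2 is central is commutative. -/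
theorem mul_comm_of_center_index_le_two [Finite G] (hc : (center G).index ≤ 2) (a b : G) :
    a * b = b * a := by
  have hpos : (center G).index ≠ 0 := Subgroup.index_ne_zero_of_finite
  have hcard : Nat.card (G ⧸ center G) = (center G).index := rfl
  have hcyc : IsCyclic (G ⧸ center G) := by
    have h12 : (center G).index = 1 ∨ (center G).index = 2 := by omega
    rcases h12 with h1 | h2
    · have : Subsingleton (G ⧸ center G) := by
        rw [← Finite.card_le_one_iff_subsingleton, hcard, h1]
      exact isCyclic_of_subsingleton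
    · have : Fact (Nat.Prime 2) := ⟨by norm_num⟩
      exact isCyclic_of_prime_card (p := 2) (hcard.trans h2)
  exact (MonoidHom.isMulCommutative_of_isCyclic_of_ker_le_center (QuotientGroup.mk' (center G))
    (by rw [QuotientGroup.ker_mk'])).is_comm.comm a b

/-- A group of exponent 2 is commutative. -/
theorem mul_comm_of_forall_mul_self (hsq : ∀ a : G, a * a = 1) (a b : G) : a * b = b * a := by
  have h1 := hsq (a * b)
  have ha : a⁻¹ = a := inv_eq_of_mul_eq_one_left (hsq a)
  have hb : b⁻¹ = b := inv_eq_of_mul_eq_one_left (hsq b)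
  calc a * b = (a * b)⁻¹ := (inv_eq_of_mul_eq_one_left h1).symm
    _ = b⁻¹ * a⁻¹ := mul_inv_rev a b
    _ = b * a := by rw [ha, hb]

end general

section
set_option linter.unusedSectionVars false
variable {G : Type*} [Group G] [Finite G] [IsSimpleGroup G]

theorem g168_card_sylow2 (h : Nat.card G = 168) (T : Sylow 2 G) :
    Nat.card (T : Subgroup G) = 8 := by
  have : Fact (Nat.Prime 2) := ⟨by norm_num⟩
  have h1 : Nat.card G = 2 ^ 3 * 21 := h.trans (by norm_num)
  have hm : ¬ 2 ∣ 21 := by norm_num
  simpa using sylow_card_of_eq h1 hm T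

theorem g168_normalizer_sylow2 (h : Nat.card G = 168) (T : Sylow 2 G) :
    normalizer ((T : Subgroup G) : Set G) = T := by
  have : Fact (Nat.Prime 2) := ⟨by norm_num⟩
  have h5 := card_normalizer_sylow_mul T
  rw [h, g168_n2 h] at h5
  have h8 : Nat.card (normalizer ((T : Subgroup G) : Set G)) = 8 := by omega
  symm
  apply Subgroup.eq_of_le_of_card_ge le_normalizer
  rw [h8, g168_card_sylow2 h T]

theorem g168_sylow2_not_comm (h : Nat.card G = 168) (T : Sylow 2 G) :
    ¬ IsMulCommutative (T : Subgroup G) := by
  have : Fact (Nat.Prime 2) := ⟨by norm_num⟩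
  intro hc
  have hne : (T : Subgroup G) ≠ ⊥ := by
    intro hb
    have := g168_card_sylow2 h T
    rw [hb, Subgroup.card_bot] at this
    omega
  apply simple_not_normalizer_le_centralizer (g168_not_comm h) T hne
  rw [g168_normalizer_sylow2 h T]
  exact Subgroup.le_centralizer (T : Subgroup G)

theorem g168_centralizer_three (h : Nat.card G = 168) (y : G) (hy : orderOf y = 3) :
    centralizer ({y} : Set G) = zpowers y := by
  have : Fact (Nat.Prime 3) := ⟨by norm_num⟩
  obtain ⟨P, hP⟩ := exists_sylow_eq_zpowers (p := 3) (m := 56) (h.trans (by norm_num))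
    (by norm_num) y hy
  rw [← centralizer_zpowers_eq, ← hP]
  exact g168_C3 h P

theorem g168_centralizer_seven (h : Nat.card G = 168) (y : G) (hy : orderOf y = 7) :
    centralizer ({y} : Set G) = zpowers y := by
  have : Fact (Nat.Prime 7) := ⟨by norm_num⟩
  obtain ⟨P, hP⟩ := exists_sylow_eq_zpowers (p := 7) (m := 24) (h.trans (by norm_num))
    (by norm_num) y hy
  rw [← centralizer_zpowers_eq, ← hP]
  exact g168_C7 h P

/-- The centralizer of a nontrivial 2-element is a 2-group. -/
theorem g168_card_centralizer_dvd (h : Nat.card G = 168) (z : G) (hz : orderOf z ∣ 8)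
    (hz1 : z ≠ 1) : Nat.card (centralizer ({z} : Set G)) ∣ 8 := by
  have hdvd : Nat.card (centralizer ({z} : Set G)) ∣ 8 * 21 := by
    have := Subgroup.card_subgroup_dvd_card (centralizer ({z} : Set G))
    rwa [h] at this
  have key : ∀ p : ℕ, p.Prime → (p = 3 ∨ p = 7) → ¬ p ∣ Nat.card (centralizer ({z} : Set G)) := by
    intro p hp hp37 hpd
    have : Fact p.Prime := ⟨hp⟩
    obtain ⟨y, hy⟩ := exists_prime_orderOf_dvd_card' p hpd
    have hy' : orderOf (y : G) = p := by rw [Subgroup.orderOf_coe]; exact hy
    have hzy : z ∈ centralizer ({(y : G)} : Set G) := by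
      rw [mem_centralizer_iff]
      intro w hw
      rw [Set.mem_singleton_iff] at hw
      subst hw
      have := y.2
      rw [mem_centralizer_iff] at this
      exact (this z rfl).symm
    have hzz : z ∈ zpowers (y : G) := by
      rcases hp37 with rfl | rfl
      · rwa [g168_centralizer_three h _ hy'] at hzy
      · rwa [g168_centralizer_seven h _ hy'] at hzy
    have ho : orderOf z ∣ p := by
      have := orderOf_dvd_of_mem_zpowers hzz
      rwa [hy'] at this
    have h1 : orderOf z ∣ Nat.gcd 8 p := Nat.dvd_gcd hz ho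
    have h2 : Nat.gcd 8 p = 1 := by
      rcases hp37 with rfl | rfl <;> norm_num
    rw [h2, Nat.dvd_one, orderOf_eq_one_iff] at h1
    exact hz1 h1
  have hc : Nat.Coprime (Nat.card (centralizer ({z} : Set G))) 21 := by
    have h21 : (21 : ℕ) = 3 * 7 := by norm_num
    rw [h21]
    apply Nat.Coprime.mul_right
    · exact ((Nat.Prime.coprime_iff_not_dvd (by norm_num : Nat.Prime 3)).mpr
        (key 3 (by norm_num) (Or.inl rfl))).symm
    · exact ((Nat.Prime.coprime_iff_not_dvd (by norm_num : Nat.Prime 7)).mpr
        (key 7 (by norm_num) (Or.inr rfl))).symm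
  exact hc.dvd_of_dvd_mul_right hdvd

theorem g168_orderOf_dvd_of_mem (h : Nat.card G = 168) (T : Sylow 2 G) (z : G)
    (hz : z ∈ (T : Subgroup G)) : orderOf z ∣ 8 := by
  have h1 : orderOf (⟨z, hz⟩ : (T : Subgroup G)) ∣ Nat.card (T : Subgroup G) :=
    orderOf_dvd_natCard _
  rw [g168_card_sylow2 h T, ← Subgroup.orderOf_coe] at h1
  exact h1

theorem g168_centralizer_central (h : Nat.card G = 168) (T : Sylow 2 G) (z : G)
    (hz : z ∈ (T : Subgroup G)) (hz1 : z ≠ 1) (hc : ∀ t ∈ (T : Subgroup G), t * z = z * t) :
    centralizer ({z} : Set G) = T := by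
  have hle : (T : Subgroup G) ≤ centralizer ({z} : Set G) := by
    intro t ht
    rw [mem_centralizer_iff]
    intro w hw
    rw [Set.mem_singleton_iff] at hw
    subst hw
    exact (hc t ht).symm
  have hd := g168_card_centralizer_dvd h z (g168_orderOf_dvd_of_mem h T z hz) hz1
  symm
  apply Subgroup.eq_of_le_of_card_ge hle
  rw [g168_card_sylow2 h T]
  exact Nat.le_of_dvd (by norm_num) hd

theorem g168_exists_central_involution (h : Nat.card G = 168) (T : Sylow 2 G) :
    ∃ z ∈ (T : Subgroup G), orderOf z = 2 ∧ ∀ t ∈ (T : Subgroup G), t * z = z * t := by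
  have : Fact (Nat.Prime 2) := ⟨by norm_num⟩
  have hT8 := g168_card_sylow2 h T
  have hnt : Nontrivial (T : Subgroup G) := by
    rw [← Finite.one_lt_card_iff_nontrivial, hT8]
    norm_num
  have hcn := IsPGroup.center_nontrivial T.2
  obtain ⟨w, hw⟩ := exists_ne (1 : center (T : Subgroup G))
  have hw1 : (w : (T : Subgroup G)) ≠ 1 := fun hh => hw (Subtype.ext hh)
  have ho8 : orderOf (w : (T : Subgroup G)) ∣ 8 := by
    have := orderOf_dvd_natCard (w : (T : Subgroup G))
    rwa [hT8] at this
  have ho1 : orderOf (w : (T : Subgroup G)) ≠ 1 := by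
    rw [Ne, orderOf_eq_one_iff]
    exact hw1
  have h2 : 2 ∣ orderOf (w : (T : Subgroup G)) := by
    have hmem : orderOf (w : (T : Subgroup G)) ∈ Nat.divisors 8 := by
      rw [Nat.mem_divisors]
      exact ⟨ho8, by norm_num⟩
    rw [show Nat.divisors 8 = {1, 2, 4, 8} from by decide +kernel] at hmem
    simp only [Finset.mem_insert, Finset.mem_singleton] at hmem
    rcases hmem with h1 | h1 | h1 | h1
    · exact absurd h1 ho1
    all_goals omega
  obtain ⟨j, hj⟩ := exists_pow_orderOf_eq_prime (w : (T : Subgroup G)) h2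
    (orderOf_pos (w : (T : Subgroup G))).ne'
  have hcen : (w : (T : Subgroup G)) ^ j ∈ center (T : Subgroup G) := pow_mem w.2 j
  refine ⟨(((w : (T : Subgroup G)) ^ j : (T : Subgroup G)) : G), SetLike.coe_mem _, ?_, ?_⟩
  · rw [Subgroup.orderOf_coe]
    exact hj
  · intro t ht
    have := Subgroup.mem_center_iff.mp hcen ⟨t, ht⟩
    exact congrArg (fun x : (T : Subgroup G) => (x : G)) this

end

end Cfsg.Agent.Lib.Helper23
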