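import Mathlib

/-!
# Groups in which the centralizer of every involution is an elementary abelian 2-group

Basic structure: elements of even order are involutions, Sylow 2-subgroups are elementary
abelian, self-centralizing at every non-identity element and pairwise disjoint.
-/

namespace Cfsg.Agent.Lib.Helper23

open Subgroup

/-- Every element commuting with an involution has square one. -/
def InvCentElem (G : Type*) [Group G] : Prop :=
  ∀ t c : G, t ≠ 1 → t ^ 2 = 1 → c * t = t * c → c ^ 2 = 1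

section Cit

variable {G : Type*} [Group G]

theorem cit_comm_of_sq {a b : G} (ha : a ^ 2 = 1) (hb : b ^ 2 = 1) (hab : (a * b) ^ 2 = 1) :
    a * b = b * a := by
  have h1 : a⁻¹ = a := by rw [inv_eq_iff_mul_eq_one, ← sq, ha]
  have h2 : b⁻¹ = b := by rw [inv_eq_iff_mul_eq_one, ← sq, hb]
  have h3 : (a * b)⁻¹ = a * b := by rw [inv_eq_iff_mul_eq_one, ← sq, hab]
  rw [← h3, mul_inv_rev, h1, h2]

theorem cit_inv_of_sq {a : G} (ha : a ^ 2 = 1) : a⁻¹ = a := by
  rw [inv_eq_iff_mul_eq_one, ← sq, ha]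

variable [Finite G]

theorem cit_sq_of_even (hC : InvCentElem G) (g : G) (h2 : 2 ∣ orderOf g) : g ^ 2 = 1 := by
  obtain ⟨k, hk⟩ := h2
  have hpos : 0 < orderOf g := orderOf_pos g
  have hz1 : g ^ k ≠ 1 := pow_ne_one_of_lt_orderOf (by omega) (by omega)
  have hz2 : (g ^ k) ^ 2 = 1 := by rw [← pow_mul, mul_comm, ← hk, pow_orderOf_eq_one]
  exact hC (g ^ k) g hz1 hz2 (by rw [← pow_succ', ← pow_succ])

theorem cit_sq_or_odd (hC : InvCentElem G) (g : G) : g ^ 2 = 1 ∨ Odd (orderOf g) := by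
  by_cases h : 2 ∣ orderOf g
  · exact Or.inl (cit_sq_of_even hC g h)
  · exact Or.inr (Nat.odd_iff.mpr (by omega))

/-- An element inverting an element which is not an involution is an involution. -/
theorem cit_sq_of_inverts (hC : InvCentElem G) {w x : G} (hx : x ^ 2 ≠ 1)
    (hw : w * x * w⁻¹ = x⁻¹) : w ^ 2 = 1 := by
  rcases cit_sq_or_odd hC w with h | h
  · exact h
  · exfalso
    apply hx
    obtain ⟨m, hm⟩ := h
    have h5 : w * x⁻¹ * w⁻¹ = x := by
      have := congrArg Inv.inv hw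
      simpa [mul_assoc] using this
    have h2 : w ^ 2 * x = x * w ^ 2 := by
      calc w ^ 2 * x = w * (w * x * w⁻¹) * w⁻¹ * w ^ 2 := by simp [sq, mul_assoc]
        _ = w * x⁻¹ * w⁻¹ * w ^ 2 := by rw [hw]
        _ = x * w ^ 2 := by rw [h5]
    have h6 : ∀ k : ℕ, (w ^ 2) ^ k * x = x * (w ^ 2) ^ k := by
      intro k
      exact (Commute.pow_left (show Commute (w ^ 2) x from h2) k)
    have h7 : w = (w ^ 2) ^ (m + 1) := by
      rw [← pow_mul, show 2 * (m + 1) = orderOf w + 1 by omega, pow_succ, pow_orderOf_eq_one,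
        one_mul]
    have h8 : w * x = x * w := by
      have := h6 (m + 1)
      rwa [← h7] at this
    have h9 : x = x⁻¹ := by
      rw [← hw, h8]; group
    rw [sq]
    nth_rewrite 1 [h9]
    exact inv_mul_cancel x

theorem cit_sylow_sq (hC : InvCentElem G) (Q : Sylow 2 G) :
    ∀ t ∈ (Q : Subgroup G), t ^ 2 = 1 := by
  intro t ht
  by_cases hQ : (Q : Subgroup G) = ⊥
  · rw [hQ, mem_bot] at ht
    rw [ht, one_pow]
  · have hnt : Nontrivial (Q : Subgroup G) := (Subgroup.nontrivial_iff_ne_bot _).mpr hQ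
    have hcen := Q.isPGroup'.center_nontrivial
    obtain ⟨⟨z, hz⟩, hz1⟩ := exists_ne (1 : Subgroup.center (Q : Subgroup G))
    have hz1' : (z : G) ≠ 1 := by
      intro h
      apply hz1
      apply Subtype.ext
      apply Subtype.ext
      exact h
    have hzord : 2 ∣ orderOf (z : G) := by
      obtain ⟨k, hk⟩ := (IsPGroup.iff_orderOf.mp Q.isPGroup') z
      rw [Subgroup.orderOf_coe, hk]
      have hk0 : k ≠ 0 := by
        rintro rfl
        rw [pow_zero, orderOf_eq_one_iff] at hk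
        exact hz1' (by rw [hk]; rfl)
      exact dvd_pow_self 2 hk0
    have hz2 := cit_sq_of_even hC (z : G) hzord
    have hcomm : t * (z : G) = (z : G) * t := by
      have := Subgroup.mem_center_iff.mp hz ⟨t, ht⟩
      exact congrArg Subtype.val this
    exact hC z t hz1' hz2 hcomm

theorem cit_sylow_comm (hC : InvCentElem G) (Q : Sylow 2 G) {a b : G}
    (ha : a ∈ (Q : Subgroup G)) (hb : b ∈ (Q : Subgroup G)) : a * b = b * a :=
  cit_comm_of_sq (cit_sylow_sq hC Q a ha) (cit_sylow_sq hC Q b hb)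
    (cit_sylow_sq hC Q _ (mul_mem ha hb))

/-- The centralizer of a non-identity element of a Sylow 2-subgroup is that subgroup. -/
theorem cit_mem_sylow_of_commute (hC : InvCentElem G) (Q : Sylow 2 G) {t : G}
    (ht : t ∈ (Q : Subgroup G)) (ht1 : t ≠ 1) {c : G} (hc : c * t = t * c) :
    c ∈ (Q : Subgroup G) := by
  have hp : IsPGroup 2 (centralizer ({t} : Set G)) := by
    intro g
    refine ⟨1, ?_⟩
    apply Subtype.ext
    have hg := g.2
    rw [mem_centralizer_iff] at hg
    have h1 := hC t g ht1 (cit_sylow_sq hC Q t ht) (hg t rfl).symm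
    simpa using h1
  have hle : (Q : Subgroup G) ≤ centralizer ({t} : Set G) := by
    intro a ha
    rw [mem_centralizer_iff]
    rintro _ rfl
    exact cit_sylow_comm hC Q ht ha
  have heq := Q.is_maximal' hp hle
  rw [← heq, mem_centralizer_iff]
  rintro _ rfl
  exact hc.symm

omit [Finite G] in
theorem cit_exists_sylow {u : G} (hu2 : u ^ 2 = 1) : ∃ Q : Sylow 2 G, u ∈ (Q : Subgroup G) := by
  have hp : IsPGroup 2 (zpowers u) := by
    rintro ⟨g, hg⟩
    refine ⟨1, ?_⟩
    apply Subtype.ext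
    obtain ⟨i, rfl⟩ := mem_zpowers_iff.mp hg
    show (u ^ i) ^ 2 ^ 1 = 1
    rw [pow_one, ← zpow_natCast, ← zpow_mul, mul_comm, zpow_mul, zpow_natCast, hu2, one_zpow]
  obtain ⟨Q, hQ⟩ := hp.exists_le_sylow
  exact ⟨Q, hQ (mem_zpowers u)⟩

theorem cit_sylow_unique (hC : InvCentElem G) (Q Q' : Sylow 2 G) {u : G} (hu1 : u ≠ 1)
    (hQ : u ∈ (Q : Subgroup G)) (hQ' : u ∈ (Q' : Subgroup G)) : Q = Q' := by
  have hle : (Q : Subgroup G) ≤ Q' := by
    intro a ha
    exact cit_mem_sylow_of_commute hC Q' hQ' hu1 (cit_sylow_comm hC Q ha hQ)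
  exact Sylow.ext (Q.is_maximal' Q'.isPGroup' hle).symm

omit [Finite G] in
/-- An involution normalizing a Sylow 2-subgroup lies in it. -/
theorem cit_mem_of_mem_normalizer (Q : Sylow 2 G) {u : G} (hu2 : u ^ 2 = 1)
    (hN : u ∈ normalizer ((Q : Subgroup G) : Set G)) : u ∈ (Q : Subgroup G) := by
  have hp : IsPGroup 2 (zpowers u) := by
    rintro ⟨g, hg⟩
    refine ⟨1, ?_⟩
    apply Subtype.ext
    obtain ⟨i, rfl⟩ := mem_zpowers_iff.mp hg
    show (u ^ i) ^ 2 ^ 1 = 1
    rw [pow_one, ← zpow_natCast, ← zpow_mul, mul_comm, zpow_mul, zpow_natCast, hu2, one_zpow]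
  have h1 : u ∈ zpowers u ⊓ normalizer (Q : Set G) := ⟨mem_zpowers u, hN⟩
  rw [hp.inf_normalizer_sylow Q] at h1
  exact h1.2

/-- Two Sylow 2-subgroups: a non-identity element of one does not normalize the other. -/
theorem cit_not_mem_normalizer (hC : InvCentElem G) (T Q : Sylow 2 G) (hQ : Q ≠ T) {t : G}
    (ht : t ∈ (T : Subgroup G)) (hN : t ∈ normalizer ((Q : Subgroup G) : Set G)) : t = 1 := by
  by_contra ht1
  exact hQ (cit_sylow_unique hC Q T ht1
    (cit_mem_of_mem_normalizer Q (cit_sylow_sq hC T t ht) hN) ht)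

/-- No non-identity element of a Sylow 2-subgroup `Q` inverts an element of its normalizer
which is not an involution. -/
theorem cit_not_inverts (hC : InvCentElem G) (Q : Sylow 2 G) {s y : G}
    (hs : s ∈ (Q : Subgroup G)) (hy : y ∈ normalizer ((Q : Subgroup G) : Set G))
    (hinv : s * y * s⁻¹ = y⁻¹) : y ^ 2 = 1 := by
  have h1 : y * s * y⁻¹ ∈ (Q : Subgroup G) := (mem_normalizer_iff.mp hy s).mp hs
  have h2 : y * s * y⁻¹ * s⁻¹ ∈ (Q : Subgroup G) := mul_mem h1 (inv_mem hs)
  have h3 : y * s * y⁻¹ * s⁻¹ = y ^ 2 := by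
    have : s * y⁻¹ * s⁻¹ = y := by
      have := congrArg Inv.inv hinv
      simpa [mul_assoc] using this
    calc y * s * y⁻¹ * s⁻¹ = y * (s * y⁻¹ * s⁻¹) := by group
      _ = y ^ 2 := by rw [this, sq]
  rw [h3] at h2
  have h4 : (y ^ 2) ^ 2 = 1 := cit_sylow_sq hC Q _ h2
  rcases cit_sq_or_odd hC y with h | h
  · exact h
  · have h5 : orderOf y ∣ 4 := orderOf_dvd_of_pow_eq_one (by rw [← h4, ← pow_mul])
    have h6 : orderOf y = 1 := by
      have h7 : (orderOf y).Coprime 4 := by
        have : (orderOf y).Coprime 2 := Nat.Coprime.symm (Nat.coprime_two_left.mpr h)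
        exact Nat.Coprime.pow_right 2 this
      exact Nat.Coprime.eq_one_of_dvd h7 h5
    rw [orderOf_eq_one_iff.mp h6, one_pow]

end Cit

end Cfsg.Agent.Lib.Helper23
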