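import Mathlib
import Cfsg.Agent.Lib.Helper23.Cit1
import Cfsg.Agent.Lib.Helper23.Count

/-!
# Groups with elementary abelian involution centralizers: the main count
-/

namespace Cfsg.Agent.Lib.Helper23

open Subgroup

section Cit2

variable {G : Type*} [Group G] [Finite G]

/-- All Sylow 2-subgroups have the same order. -/
theorem cit_card_sylow_eq (Q T : Sylow 2 G) :
    Nat.card (Q : Subgroup G) = Nat.card (T : Subgroup G) := by
  rw [Sylow.card_eq_multiplicity, Sylow.card_eq_multiplicity]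

theorem cit_card_normalizer_le (hC : InvCentElem G) (Q : Sylow 2 G)
    (hq : 1 < Nat.card (Q : Subgroup G)) :
    Nat.card (normalizer ((Q : Subgroup G) : Set G)) ≤
      Nat.card (Q : Subgroup G) * (Nat.card (Q : Subgroup G) - 1) := by
  classical
  have : Fintype G := Fintype.ofFinite G
  obtain ⟨s, hsQ, hs1⟩ : ∃ s ∈ (Q : Subgroup G), s ≠ 1 := by
    have : Nontrivial (Q : Subgroup G) := Finite.one_lt_card_iff_nontrivial.mp hq
    obtain ⟨⟨a, ha⟩, hne⟩ := exists_ne (1 : (Q : Subgroup G))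
    exact ⟨a, ha, fun h => hne (Subtype.ext h)⟩
  have hmaps : ∀ g ∈ (Finset.univ : Finset (normalizer ((Q : Subgroup G) : Set G))),
      (g : G) * s * (g : G)⁻¹ ∈ Finset.univ.filter (fun t : G => t ∈ (Q : Subgroup G) ∧ t ≠ 1) := by
    intro g _
    rw [Finset.mem_filter]
    refine ⟨Finset.mem_univ _, (mem_normalizer_iff.mp g.2 s).mp hsQ, ?_⟩
    intro h
    apply hs1
    have h2 : (g : G) * s = (g : G) := by
      have := congrArg (fun w => w * (g : G)) h
      simpa using this
    exact mul_eq_left.mp h2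
  have hfib : ∀ b ∈ Finset.univ.filter (fun t : G => t ∈ (Q : Subgroup G) ∧ t ≠ 1),
      (Finset.univ.filter (fun g : normalizer ((Q : Subgroup G) : Set G) =>
        (g : G) * s * (g : G)⁻¹ = b)).card ≤ Nat.card (Q : Subgroup G) := by
    intro b _
    by_cases hemp : (Finset.univ.filter (fun g : normalizer ((Q : Subgroup G) : Set G) =>
        (g : G) * s * (g : G)⁻¹ = b)) = ∅
    · rw [hemp, Finset.card_empty]
      exact Nat.zero_le _
    · obtain ⟨g₀, hg₀⟩ := Finset.nonempty_iff_ne_empty.mpr hemp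
      rw [Finset.mem_filter] at hg₀
      have hcardQ : Nat.card (Q : Subgroup G) =
          (Finset.univ.filter (fun t : G => t ∈ (Q : Subgroup G))).card := by
        rw [Nat.card_eq_fintype_card, Fintype.card_subtype]
      rw [hcardQ]
      apply Finset.card_le_card_of_injOn
        (fun g : normalizer ((Q : Subgroup G) : Set G) => (g₀ : G)⁻¹ * (g : G))
      · intro g hg
        have hg' := (Finset.mem_filter.mp hg).2
        simp only [Finset.coe_filter, Finset.mem_univ, true_and, Set.mem_ofPred_eq]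
        apply cit_mem_sylow_of_commute hC Q hsQ hs1
        have h1 : (g : G) * s * (g : G)⁻¹ = (g₀ : G) * s * (g₀ : G)⁻¹ := by rw [hg', hg₀.2]
        have h2 : (g₀ : G)⁻¹ * ((g : G) * s * (g : G)⁻¹) * (g : G) =
            (g₀ : G)⁻¹ * ((g₀ : G) * s * (g₀ : G)⁻¹) * (g : G) := by rw [h1]
        simpa [mul_assoc] using h2
      · intro g _ g' _ hgg
        have : (g : G) = (g' : G) := mul_left_cancel hgg
        exact Subtype.ext this
  have h1 := Finset.card_le_mul_card_image_of_maps_to hmaps (Nat.card (Q : Subgroup G)) hfib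
  rw [card_filter_mem_ne_one, Finset.card_univ, ← Nat.card_eq_fintype_card] at h1
  exact h1

/-- The number of involutions outside a Sylow 2-subgroup. -/
theorem cit_card_inv_not_mem (hC : InvCentElem G) (T : Sylow 2 G) [Fintype G]
    [DecidablePred (fun u : G => u ≠ 1 ∧ u ^ 2 = 1 ∧ u ∉ (T : Subgroup G))] :
    (Finset.univ.filter (fun u : G => u ≠ 1 ∧ u ^ 2 = 1 ∧ u ∉ (T : Subgroup G))).card =
      (Nat.card (Sylow 2 G) - 1) * (Nat.card (T : Subgroup G) - 1) := by
  classical
  have : Fintype (Sylow 2 G) := Fintype.ofFinite _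
  have hB : Finset.univ.filter (fun u : G => u ≠ 1 ∧ u ^ 2 = 1 ∧ u ∉ (T : Subgroup G)) =
      (Finset.univ.filter (fun Q : Sylow 2 G => Q ≠ T)).biUnion
        (fun Q => Finset.univ.filter (fun t : G => t ∈ (Q : Subgroup G) ∧ t ≠ 1)) := by
    ext u
    simp only [Finset.mem_filter, Finset.mem_univ, true_and, Finset.mem_biUnion]
    constructor
    · rintro ⟨hu1, hu2, huT⟩
      obtain ⟨Q, hQ⟩ := cit_exists_sylow hu2
      refine ⟨Q, ?_, hQ, hu1⟩
      rintro rfl
      exact huT hQ
    · rintro ⟨Q, hQT, hQ, hu1⟩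
      refine ⟨hu1, cit_sylow_sq hC Q u hQ, fun huT => hQT ?_⟩
      exact cit_sylow_unique hC Q T hu1 hQ huT
  rw [hB, Finset.card_biUnion]
  · have hconst : ∀ Q ∈ Finset.univ.filter (fun Q : Sylow 2 G => Q ≠ T),
        (Finset.univ.filter (fun t : G => t ∈ (Q : Subgroup G) ∧ t ≠ 1)).card =
          Nat.card (T : Subgroup G) - 1 := by
      intro Q _
      rw [card_filter_mem_ne_one, cit_card_sylow_eq Q T]
    rw [Finset.sum_congr rfl hconst, Finset.sum_const, smul_eq_mul, Finset.filter_ne' Finset.univ T,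
      Finset.card_erase_of_mem (Finset.mem_univ T), Finset.card_univ, ← Nat.card_eq_fintype_card]
  · intro Q _ Q' _ hQQ'
    rw [Function.onFun, Finset.disjoint_left]
    intro u hu hu'
    rw [Finset.mem_filter] at hu hu'
    exact hQQ' (cit_sylow_unique hC Q Q' hu.2.2 hu.2.1 hu'.2.1)

theorem cit_arith (a n' q' : ℕ) (hn' : 0 < n') (hle : a ≤ (q' + 1) * q')
    (h1 : a + n' * q' + q' * (n' * q') ≤ a * (n' + 1)) :
    a = (q' + 1) * q' ∧ a + n' * q' + q' * (n' * q') = a * (n' + 1) := by
  have h2 : (q' + 1) * q' * n' ≤ a * n' := by nlinarith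
  have hge : (q' + 1) * q' ≤ a := Nat.le_of_mul_le_mul_right h2 hn'
  have haeq : a = (q' + 1) * q' := le_antisymm hle hge
  refine ⟨haeq, ?_⟩
  rw [haeq]
  ring

/-- The main count: the normalizer of a Sylow 2-subgroup `T` has order `q (q - 1)`, and every
element outside it which is not an involution is inverted by a non-identity element of `T`. -/
theorem cit_main_count (hC : InvCentElem G) (T : Sylow 2 G)
    (hq : 1 < Nat.card (T : Subgroup G)) (hn : 1 < Nat.card (Sylow 2 G)) :
    Nat.card (normalizer ((T : Subgroup G) : Set G)) =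
        Nat.card (T : Subgroup G) * (Nat.card (T : Subgroup G) - 1) ∧
      ∀ x : G, x ∉ normalizer ((T : Subgroup G) : Set G) → x ^ 2 ≠ 1 →
        ∃ s ∈ (T : Subgroup G), s ≠ 1 ∧ s * x * s⁻¹ = x⁻¹ := by
  classical
  have : Fintype G := Fintype.ofFinite G
  set A := Finset.univ.filter (fun g : G => g ∈ normalizer ((T : Subgroup G) : Set G)) with hA
  set B := Finset.univ.filter (fun u : G => u ≠ 1 ∧ u ^ 2 = 1 ∧ u ∉ (T : Subgroup G)) with hB
  set Ts := Finset.univ.filter (fun t : G => t ∈ (T : Subgroup G) ∧ t ≠ 1) with hTs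
  set S := (Ts ×ˢ B).image (fun p : G × G => p.1 * p.2) with hS
  have hSmem : ∀ x ∈ S, ∃ s u : G, s ∈ (T : Subgroup G) ∧ s ≠ 1 ∧ u ≠ 1 ∧ u ^ 2 = 1 ∧
      u ∉ (T : Subgroup G) ∧ x = s * u := by
    intro x hx
    rw [hS, Finset.mem_image] at hx
    obtain ⟨⟨s, u⟩, hp, rfl⟩ := hx
    rw [Finset.mem_product, hTs, hB, Finset.mem_filter, Finset.mem_filter] at hp
    exact ⟨s, u, hp.1.2.1, hp.1.2.2, hp.2.2.1, hp.2.2.2.1, hp.2.2.2.2, rfl⟩
  have hScard : S.card = Ts.card * B.card := by
    rw [hS, Finset.card_image_of_injOn, Finset.card_product]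
    rintro ⟨s, u⟩ hp ⟨s', u'⟩ hp' heq
    simp only [Finset.coe_product, Set.mem_prod, Finset.mem_coe] at hp hp'
    rw [hTs, hB, Finset.mem_filter, Finset.mem_filter] at hp hp'
    obtain ⟨⟨-, hs, hs1⟩, -, hu1, hu2, huT⟩ := hp
    obtain ⟨⟨-, hs', hs1'⟩, -, hu1', hu2', huT'⟩ := hp'
    have heq' : s * u = s' * u' := heq
    have hsinv : s'⁻¹ = s' := cit_inv_of_sq (cit_sylow_sq hC T s' hs')
    have huinv : u⁻¹ = u := cit_inv_of_sq hu2
    -- z = s' * s = u' * u
    have hz : s' * s = u' * u := by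
      have h1 : s'⁻¹ * (s * u) * u⁻¹ = s'⁻¹ * (s' * u') * u⁻¹ := by rw [heq']
      rw [hsinv, huinv] at h1
      have h2 : s' * (s * u) * u = s' * s := by
        rw [mul_assoc, mul_assoc, ← sq, hu2, mul_one]
      have h3 : s' * (s' * u') * u = u' * u := by
        rw [← mul_assoc s', ← sq, cit_sylow_sq hC T s' hs', one_mul]
      rw [← h2, h1, h3]
    by_cases hz1 : s' * s = 1
    · have hss : s = s' := by
        have : s = s'⁻¹ := eq_inv_of_mul_eq_one_right hz1
        rw [this, hsinv]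
      subst hss
      have huu : u = u' := mul_left_cancel heq'
      rw [huu]
    · exfalso
      have hzT : s' * s ∈ (T : Subgroup G) := mul_mem hs' hs
      have hcomm : u' * u = u * u' := by
        apply cit_comm_of_sq hu2' hu2
        rw [← hz]
        exact cit_sylow_sq hC T _ hzT
      apply huT
      apply cit_mem_sylow_of_commute hC T hzT hz1
      rw [hz, mul_assoc, ← sq, hu2, mul_one, hcomm, ← mul_assoc, ← sq, hu2, one_mul]
  have hAB : Disjoint A B := by
    rw [Finset.disjoint_left]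
    intro u huA huB
    rw [hA, Finset.mem_filter] at huA
    rw [hB, Finset.mem_filter] at huB
    exact huB.2.2.2 (cit_mem_of_mem_normalizer T huB.2.2.1 huA.2)
  have hAS : Disjoint A S := by
    rw [Finset.disjoint_left]
    intro x hxA hxS
    rw [hA, Finset.mem_filter] at hxA
    obtain ⟨s, u, hs, -, -, hu2, huT, rfl⟩ := hSmem x hxS
    apply huT
    apply cit_mem_of_mem_normalizer T hu2
    have h1 : u = s⁻¹ * (s * u) := by group
    rw [h1]
    exact mul_mem (inv_mem (le_normalizer hs)) hxA.2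
  have hBS : Disjoint B S := by
    rw [Finset.disjoint_left]
    intro x hxB hxS
    rw [hB, Finset.mem_filter] at hxB
    obtain ⟨s, u, hs, hs1, -, hu2, huT, rfl⟩ := hSmem x hxS
    apply huT
    apply cit_mem_sylow_of_commute hC T hs hs1
    exact (cit_comm_of_sq (cit_sylow_sq hC T s hs) hu2 hxB.2.2.1).symm
  have hunion : (A ∪ B ∪ S).card = A.card + B.card + S.card := by
    rw [Finset.card_union_of_disjoint, Finset.card_union_of_disjoint hAB]
    rw [Finset.disjoint_union_left]
    exact ⟨hAS, hBS⟩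
  have hAcard : A.card = Nat.card (normalizer ((T : Subgroup G) : Set G)) := by
    rw [Nat.card_eq_fintype_card, Fintype.card_subtype]
  have hBcard : B.card = (Nat.card (Sylow 2 G) - 1) * (Nat.card (T : Subgroup G) - 1) :=
    cit_card_inv_not_mem hC T
  have hTscard : Ts.card = Nat.card (T : Subgroup G) - 1 := card_filter_mem_ne_one _
  have hGcard : Nat.card (normalizer ((T : Subgroup G) : Set G)) * Nat.card (Sylow 2 G) =
      Fintype.card G := by
    rw [card_normalizer_sylow_mul, Nat.card_eq_fintype_card]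
  have hle := cit_card_normalizer_le hC T hq
  have hsub : (A ∪ B ∪ S).card ≤ Fintype.card G := Finset.card_le_univ _
  obtain ⟨n', hn'⟩ : ∃ n', Nat.card (Sylow 2 G) = n' + 1 := ⟨Nat.card (Sylow 2 G) - 1, by omega⟩
  obtain ⟨q', hq'⟩ : ∃ q', Nat.card (T : Subgroup G) = q' + 1 :=
    ⟨Nat.card (T : Subgroup G) - 1, by omega⟩
  have hn'0 : 0 < n' := by omega
  rw [hn', hq'] at hBcard
  rw [hq'] at hTscard hle
  rw [hn'] at hGcard
  simp only [Nat.add_sub_cancel] at hBcard hTscard hle
  have h1 : Nat.card (normalizer ((T : Subgroup G) : Set G)) + n' * q' + q' * (n' * q') ≤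
      Nat.card (normalizer ((T : Subgroup G) : Set G)) * (n' + 1) := by
    rw [hGcard, ← hAcard, ← hBcard, ← hTscard, ← hScard, ← hunion]
    exact hsub
  obtain ⟨haeq, hsum⟩ := cit_arith _ n' q' hn'0 hle h1
  have huniv : A ∪ B ∪ S = Finset.univ := by
    apply Finset.eq_univ_of_card
    rw [hunion, hAcard, hBcard, hScard, hTscard, hBcard, ← hGcard, hsum]
  refine ⟨by rw [hq', Nat.add_sub_cancel]; exact haeq, ?_⟩
  intro x hxN hx2
  have hx : x ∈ A ∪ B ∪ S := by rw [huniv]; exact Finset.mem_univ x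
  rw [Finset.mem_union, Finset.mem_union] at hx
  rcases hx with (hx | hx) | hx
  · rw [hA, Finset.mem_filter] at hx
    exact absurd hx.2 hxN
  · rw [hB, Finset.mem_filter] at hx
    exact absurd hx.2.2.1 hx2
  · obtain ⟨s, u, hs, hs1, -, hu2, -, rfl⟩ := hSmem x hx
    refine ⟨s, hs, hs1, ?_⟩
    have hsinv : s⁻¹ = s := cit_inv_of_sq (cit_sylow_sq hC T s hs)
    have huinv : u⁻¹ = u := cit_inv_of_sq hu2
    rw [mul_inv_rev, hsinv, huinv, ← mul_assoc, ← sq, cit_sylow_sq hC T s hs, one_mul]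

/-- At most one non-identity element of a Sylow 2-subgroup inverts a given element which is not
an involution. -/
theorem cit_inverts_unique (hC : InvCentElem G) (Q : Sylow 2 G) {s s' x : G}
    (hs : s ∈ (Q : Subgroup G)) (hs' : s' ∈ (Q : Subgroup G)) (hx : x ^ 2 ≠ 1)
    (h : s * x * s⁻¹ = x⁻¹) (h' : s' * x * s'⁻¹ = x⁻¹) : s = s' := by
  by_contra hne
  apply hx
  have hz : s⁻¹ * s' ∈ (Q : Subgroup G) := mul_mem (inv_mem hs) hs'
  have hz1 : s⁻¹ * s' ≠ 1 := by
    intro h1
    apply hne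
    have := eq_inv_of_mul_eq_one_right h1
    rw [inv_inv] at this
    exact this.symm
  apply hC (s⁻¹ * s') x hz1 (cit_sylow_sq hC Q _ hz)
  have h1 : s * x * s⁻¹ = s' * x * s'⁻¹ := by rw [h, h']
  have h2 : s⁻¹ * (s * x * s⁻¹) * s' = s⁻¹ * (s' * x * s'⁻¹) * s' := by rw [h1]
  simpa [mul_assoc] using h2

end Cit2

end Cfsg.Agent.Lib.Helper23
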