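import Mathlib
import Cfsg.Agent.Lib.Helper23.Cit2

/-!
# Groups with elementary abelian involution centralizers: the number of Sylow 2-subgroups
-/

namespace Cfsg.Agent.Lib.Helper23

open Subgroup

section Cit3

variable {G : Type*} [Group G]

theorem cit_conj_inv_of_conj {w x : G} (h : w * x * w⁻¹ = x) : w⁻¹ * x * w = x := by
  nth_rewrite 1 [← h]
  group

theorem cit_conj_inv_of_inverts {w x : G} (h : w * x * w⁻¹ = x⁻¹) : w⁻¹ * x * w = x⁻¹ := by
  have h1 : w⁻¹ * (w * x * w⁻¹) * w = w⁻¹ * x⁻¹ * w := by rw [h]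
  have h2 : x = w⁻¹ * x⁻¹ * w := by simpa [mul_assoc] using h1
  have h3 := congrArg Inv.inv h2
  simpa [mul_assoc] using h3.symm

theorem cit_card_mul_le_of_disjoint (H K N : Subgroup G) (hH : H ≤ N) (hK : K ≤ N)
    (hHK : ∀ g : G, g ∈ H → g ∈ K → g = 1) [Finite N] :
    Nat.card H * Nat.card K ≤ Nat.card N := by
  rw [← Nat.card_prod]
  apply Nat.card_le_card_of_injective (fun p : H × K => (⟨(p.1 : G) * (p.2 : G),
    mul_mem (hH p.1.2) (hK p.2.2)⟩ : N))
  rintro ⟨⟨h, hh⟩, ⟨k, hk⟩⟩ ⟨⟨h', hh'⟩, ⟨k', hk'⟩⟩ heq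
  have heq' : h * k = h' * k' := congrArg Subtype.val heq
  have h1 : h'⁻¹ * h = k' * k⁻¹ := by
    have : h'⁻¹ * (h * k) * k⁻¹ = h'⁻¹ * (h' * k') * k⁻¹ := by rw [heq']
    simpa [mul_assoc] using this
  have h2 : h'⁻¹ * h = 1 := hHK _ (mul_mem (inv_mem hh') hh) (by rw [h1]; exact mul_mem hk' (inv_mem hk))
  have h3 : h = h' := by
    have := eq_inv_of_mul_eq_one_right h2
    rw [inv_inv] at this
    exact this
  subst h3
  have h4 : k = k' := mul_left_cancel heq'
  subst h4
  rfl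

theorem cit_arith2 (c f n q : ℕ) (hq : 2 < q) (hsum : c + f = n) (hb : 2 * c ≤ (q - 1) * f)
    (hf : (f - 1) * q ≤ n - 1) (hle : q ≤ n - 1) (hfpos : 0 < f) (hn : 1 < n) : n = q + 1 := by
  obtain ⟨q', rfl⟩ : ∃ q', q = q' + 1 := ⟨q - 1, by omega⟩
  obtain ⟨f', rfl⟩ : ∃ f', f = f' + 1 := ⟨f - 1, by omega⟩
  obtain ⟨n', rfl⟩ : ∃ n', n = n' + 1 := ⟨n - 1, by omega⟩
  simp only [Nat.add_sub_cancel] at hb hf hle
  by_cases hf0 : f' = 0
  · subst hf0
    omega
  · have hf1 : f' ≤ 1 := by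
      by_contra hcon
      have hcon' : 2 ≤ f' := by omega
      have h1 : 2 * q' ≤ f' * q' := Nat.mul_le_mul_right q' hcon'
      have h2 : f' * (q' + 1) = f' * q' + f' := by ring
      have h3 : q' * (f' + 1) = f' * q' + q' := by ring
      rw [h2] at hf
      rw [h3] at hb
      omega
    have hf2 : f' = 1 := by omega
    subst hf2
    omega

variable [Finite G]

/-- The action on the Sylow 2-subgroups is faithful. -/
theorem cit_faithful (hC : InvCentElem G) (T : Sylow 2 G) (hq : 1 < Nat.card (T : Subgroup G))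
    (hn : 1 < Nat.card (Sylow 2 G)) (g : G) (hg : ∀ Q : Sylow 2 G, g • Q = Q) : g = 1 := by
  obtain ⟨s, hs, hs1⟩ : ∃ s ∈ (T : Subgroup G), s ≠ 1 := by
    have : Nontrivial (T : Subgroup G) := Finite.one_lt_card_iff_nontrivial.mp hq
    obtain ⟨⟨a, ha⟩, hne⟩ := exists_ne (1 : (T : Subgroup G))
    exact ⟨a, ha, fun h => hne (Subtype.ext h)⟩
  obtain ⟨Q₀, hQ₀⟩ : ∃ Q₀ : Sylow 2 G, Q₀ ≠ T := by
    have : Nontrivial (Sylow 2 G) := Finite.one_lt_card_iff_nontrivial.mp hn
    exact exists_ne T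
  have hgT : g ∈ normalizer ((T : Subgroup G) : Set G) :=
    Sylow.smul_eq_iff_mem_normalizer.mp (hg T)
  have hgQ : g ∈ normalizer ((Q₀ : Subgroup G) : Set G) :=
    Sylow.smul_eq_iff_mem_normalizer.mp (hg Q₀)
  have hcT : s * g * s⁻¹ * g⁻¹ ∈ (T : Subgroup G) := by
    have h1 : g * s⁻¹ * g⁻¹ ∈ (T : Subgroup G) := (mem_normalizer_iff.mp hgT s⁻¹).mp (inv_mem hs)
    have h2 : s * g * s⁻¹ * g⁻¹ = s * (g * s⁻¹ * g⁻¹) := by group
    rw [h2]
    exact mul_mem hs h1
  have hcQ : (s * g * s⁻¹ * g⁻¹) • Q₀ = Q₀ := by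
    have h1 : g⁻¹ • Q₀ = Q₀ := by rw [inv_smul_eq_iff, hg]
    rw [mul_smul, mul_smul, mul_smul, h1, hg, smul_inv_smul]
  have hc1 : s * g * s⁻¹ * g⁻¹ = 1 :=
    cit_not_mem_normalizer hC T Q₀ hQ₀ hcT (Sylow.smul_eq_iff_mem_normalizer.mp hcQ)
  have hcomm : g * s = s * g := by
    have h1 : s * g * s⁻¹ * g⁻¹ * (g * s) = 1 * (g * s) := by rw [hc1]
    rw [one_mul] at h1
    rw [← h1]
    group
  have hgT' : g ∈ (T : Subgroup G) := cit_mem_sylow_of_commute hC T hs hs1 hcomm
  exact cit_not_mem_normalizer hC T Q₀ hQ₀ hgT' hgQ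

/-- An element that is not an involution and does not normalize some Sylow 2-subgroup is
inverted by an involution. -/
theorem cit_exists_inverting (hC : InvCentElem G) (hq : ∀ Q : Sylow 2 G, 1 < Nat.card (Q : Subgroup G))
    (hn : 1 < Nat.card (Sylow 2 G)) {x : G} (hx : x ^ 2 ≠ 1) (Q₁ : Sylow 2 G)
    (hQ₁ : x ∉ normalizer ((Q₁ : Subgroup G) : Set G)) :
    ∃ u : G, u ≠ 1 ∧ u ^ 2 = 1 ∧ u * x * u⁻¹ = x⁻¹ := by
  obtain ⟨s, hs, hs1, hinv⟩ := (cit_main_count hC Q₁ (hq Q₁) hn).2 x hQ₁ hx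
  exact ⟨s, hs1, cit_sylow_sq hC Q₁ s hs, hinv⟩

theorem cit_sq_mul_of_inverts (hC : InvCentElem G) {x u c : G} (hx : x ^ 2 ≠ 1)
    (hu : u * x * u⁻¹ = x⁻¹) (hc : c * x = x * c) : (u * c) ^ 2 = 1 := by
  apply cit_sq_of_inverts hC hx
  have h1 : c * x * c⁻¹ = x := by rw [hc]; group
  calc u * c * x * (u * c)⁻¹ = u * (c * x * c⁻¹) * u⁻¹ := by group
    _ = x⁻¹ := by rw [h1, hu]

/-- The centralizer of an element which is not an involution has as many elements as there are
Sylow 2-subgroups it does not normalize. -/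
theorem cit_card_centralizer (hC : InvCentElem G)
    (hq : ∀ Q : Sylow 2 G, 1 < Nat.card (Q : Subgroup G))
    (hn : 1 < Nat.card (Sylow 2 G)) {x : G} (hx : x ^ 2 ≠ 1) (Q₁ : Sylow 2 G)
    (hQ₁ : x ∉ normalizer ((Q₁ : Subgroup G) : Set G)) :
    Nat.card (centralizer ({x} : Set G)) =
      Nat.card {Q : Sylow 2 G // x ∉ normalizer ((Q : Subgroup G) : Set G)} := by
  obtain ⟨u, hu1, hu2, hu⟩ := cit_exists_inverting hC hq hn hx Q₁ hQ₁
  have huinv : u⁻¹ = u := cit_inv_of_sq hu2
  -- first bijection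
  have e1 : Nat.card (centralizer ({x} : Set G)) =
      Nat.card {s : G // s ≠ 1 ∧ s ^ 2 = 1 ∧ s * x * s⁻¹ = x⁻¹} := by
    have hc : ∀ c : centralizer ({x} : Set G), (c : G) * x = x * (c : G) := by
      intro c
      have := c.2
      rw [mem_centralizer_iff] at this
      exact (this x rfl).symm
    have hmem : ∀ c : centralizer ({x} : Set G),
        u * (c : G) ≠ 1 ∧ (u * (c : G)) ^ 2 = 1 ∧ u * (c : G) * x * (u * (c : G))⁻¹ = x⁻¹ := by
      intro c
      refine ⟨?_, cit_sq_mul_of_inverts hC hx hu (hc c), ?_⟩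
      · intro h1
        apply hx
        have h2 : (c : G) = u := by
          have := eq_inv_of_mul_eq_one_right h1
          rw [this, huinv]
        have h3 := hc c
        rw [h2] at h3
        have h4 : u * x * u⁻¹ = x := by rw [h3]; group
        rw [hu] at h4
        rw [sq]
        nth_rewrite 1 [← h4]
        exact inv_mul_cancel x
      · have h1 : (c : G) * x * (c : G)⁻¹ = x := by rw [hc c]; group
        calc u * (c : G) * x * (u * (c : G))⁻¹ = u * ((c : G) * x * (c : G)⁻¹) * u⁻¹ := by group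
          _ = x⁻¹ := by rw [h1, hu]
    apply Nat.card_congr
    refine Equiv.ofBijective (fun c => ⟨u * (c : G), hmem c⟩) ⟨?_, ?_⟩
    · intro c c' h
      have h1 : u * (c : G) = u * (c' : G) := congrArg Subtype.val h
      exact Subtype.ext (mul_left_cancel h1)
    · rintro ⟨s, hs1, hs2, hs⟩
      have hmemc : u⁻¹ * s ∈ centralizer ({x} : Set G) := by
        rw [mem_centralizer_iff]
        intro y hy
        have hy' : y = x := hy
        rw [hy']
        have h1 : s * x * s⁻¹ = u * x * u⁻¹ := by rw [hs, hu]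
        have h2 : u⁻¹ * (s * x * s⁻¹) * s = u⁻¹ * (u * x * u⁻¹) * s := by rw [h1]
        have h3 : u⁻¹ * s * x = x * (u⁻¹ * s) := by simpa [mul_assoc] using h2
        exact h3.symm
      refine ⟨⟨u⁻¹ * s, hmemc⟩, ?_⟩
      apply Subtype.ext
      show u * (u⁻¹ * s) = s
      rw [mul_inv_cancel_left]
  -- second bijection
  have e2 : Nat.card {Q : Sylow 2 G // x ∉ normalizer ((Q : Subgroup G) : Set G)} =
      Nat.card {s : G // s ≠ 1 ∧ s ^ 2 = 1 ∧ s * x * s⁻¹ = x⁻¹} := by
    have hex : ∀ Q : {Q : Sylow 2 G // x ∉ normalizer ((Q : Subgroup G) : Set G)},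
        ∃ s ∈ ((Q : Sylow 2 G) : Subgroup G), s ≠ 1 ∧ s * x * s⁻¹ = x⁻¹ :=
      fun Q => (cit_main_count hC Q.1 (hq Q.1) hn).2 x Q.2 hx
    choose f hf1 hf2 hf3 using hex
    apply Nat.card_congr
    refine Equiv.ofBijective (fun Q => ⟨f Q, hf2 Q, cit_sylow_sq hC Q.1 _ (hf1 Q), hf3 Q⟩) ⟨?_, ?_⟩
    · intro Q Q' h
      have h1 : f Q = f Q' := congrArg Subtype.val h
      apply Subtype.ext
      apply cit_sylow_unique hC Q.1 Q'.1 (hf2 Q) (hf1 Q)
      rw [h1]
      exact hf1 Q'
    · rintro ⟨s, hs1, hs2, hs⟩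
      obtain ⟨Q, hQ⟩ := cit_exists_sylow hs2
      have hxQ : x ∉ normalizer ((Q : Subgroup G) : Set G) := fun hxN =>
        hx (cit_not_inverts hC Q hQ hxN hs)
      refine ⟨⟨Q, hxQ⟩, ?_⟩
      apply Subtype.ext
      exact cit_inverts_unique hC Q (hf1 ⟨Q, hxQ⟩) hQ hx (hf3 ⟨Q, hxQ⟩) hs
  rw [e1, e2]

/-- A non-identity element fixing two Sylow 2-subgroups `T` and `Q` moves every other
Sylow 2-subgroup in the orbit of `Q` under `T`. -/
theorem cit_moves (hC : InvCentElem G) (T Q : Sylow 2 G) (hQ : Q ≠ T) {x t : G}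
    (hxT : x • T = T) (hxQ : x • Q = Q) (hx1 : x ≠ 1) (ht : t ∈ (T : Subgroup G)) (ht1 : t ≠ 1) :
    x • (t • Q) ≠ t • Q := by
  intro h
  have hxN : x ∈ normalizer ((T : Subgroup G) : Set G) := Sylow.smul_eq_iff_mem_normalizer.mp hxT
  have hdQ : (x⁻¹ * t⁻¹ * x * t) • Q = Q := by
    rw [mul_smul, mul_smul, mul_smul, h, inv_smul_smul, inv_smul_eq_iff, hxQ]
  have hdT : x⁻¹ * t⁻¹ * x * t ∈ (T : Subgroup G) := by
    have h1 : x⁻¹ * t⁻¹ * x⁻¹⁻¹ ∈ (T : Subgroup G) :=
      (mem_normalizer_iff.mp (inv_mem hxN) t⁻¹).mp (inv_mem ht)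
    rw [inv_inv] at h1
    exact mul_mem h1 ht
  have hd1 : x⁻¹ * t⁻¹ * x * t = 1 :=
    cit_not_mem_normalizer hC T Q hQ hdT (Sylow.smul_eq_iff_mem_normalizer.mp hdQ)
  have hcomm : x * t = t * x := by
    have h1 : t * x * (x⁻¹ * t⁻¹ * x * t) = t * x * 1 := by rw [hd1]
    rw [mul_one] at h1
    rw [← h1]
    group
  have hxT' : x ∈ (T : Subgroup G) := cit_mem_sylow_of_commute hC T ht ht1 hcomm
  exact hx1 (cit_not_mem_normalizer hC T Q hQ hxT' (Sylow.smul_eq_iff_mem_normalizer.mp hxQ))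

/-- `T` acts semiregularly on the other Sylow 2-subgroups. -/
theorem cit_smul_inj (hC : InvCentElem G) (T Q : Sylow 2 G) (hQ : Q ≠ T) {t t' : G}
    (ht : t ∈ (T : Subgroup G)) (ht' : t' ∈ (T : Subgroup G)) (h : t • Q = t' • Q) : t = t' := by
  have h1 : (t'⁻¹ * t) • Q = Q := by rw [mul_smul, h, inv_smul_smul]
  have h2 := cit_not_mem_normalizer hC T Q hQ (mul_mem (inv_mem ht') ht)
    (Sylow.smul_eq_iff_mem_normalizer.mp h1)
  have := eq_inv_of_mul_eq_one_right h2
  rw [inv_inv] at this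
  exact this

omit [Finite G] in
theorem cit_smul_ne (T Q : Sylow 2 G) (hQ : Q ≠ T) {t : G} (ht : t ∈ (T : Subgroup G)) :
    t • Q ≠ T := by
  intro h
  apply hQ
  have h1 : t⁻¹ • T = T :=
    Sylow.smul_eq_iff_mem_normalizer.mpr (le_normalizer (inv_mem ht))
  rw [← h1, ← h, inv_smul_smul]

theorem cit_card_ne (T : Sylow 2 G) :
    Nat.card {Q : Sylow 2 G // Q ≠ T} = Nat.card (Sylow 2 G) - 1 := by
  classical
  have : Fintype (Sylow 2 G) := Fintype.ofFinite _
  rw [Nat.card_eq_fintype_card, Fintype.card_subtype_compl, Fintype.card_subtype_eq,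
    Nat.card_eq_fintype_card]

theorem cit_card_le_pred (hC : InvCentElem G) (T : Sylow 2 G) (hn : 1 < Nat.card (Sylow 2 G)) :
    Nat.card (T : Subgroup G) ≤ Nat.card (Sylow 2 G) - 1 := by
  obtain ⟨Q₀, hQ₀⟩ : ∃ Q₀ : Sylow 2 G, Q₀ ≠ T := by
    have : Nontrivial (Sylow 2 G) := Finite.one_lt_card_iff_nontrivial.mp hn
    exact exists_ne T
  rw [← cit_card_ne T]
  apply Nat.card_le_card_of_injective
    (fun t : (T : Subgroup G) => (⟨(t : G) • Q₀, cit_smul_ne T Q₀ hQ₀ t.2⟩ : {Q : Sylow 2 G // Q ≠ T}))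
  intro t t' h
  have h1 : (t : G) • Q₀ = (t' : G) • Q₀ := congrArg Subtype.val h
  exact Subtype.ext (cit_smul_inj hC T Q₀ hQ₀ t.2 t'.2 h1)

/-- The number of fixed points of a non-identity element of the normalizer of `T`. -/
theorem cit_fix_bound (hC : InvCentElem G) (T : Sylow 2 G) {x : G} (hxT : x • T = T)
    (hx1 : x ≠ 1) :
    (Nat.card {Q : Sylow 2 G // x • Q = Q} - 1) * Nat.card (T : Subgroup G) ≤
      Nat.card (Sylow 2 G) - 1 := by
  classical
  have : Fintype (Sylow 2 G) := Fintype.ofFinite _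
  have : Fintype G := Fintype.ofFinite _
  have h1 : Nat.card {Q : Sylow 2 G // x • Q = Q} - 1 =
      ((Finset.univ.filter (fun Q : Sylow 2 G => x • Q = Q)).erase T).card := by
    rw [Finset.card_erase_of_mem (by simp [hxT]), Nat.card_eq_fintype_card, Fintype.card_subtype]
  have h2 : Nat.card (T : Subgroup G) =
      (Finset.univ.filter (fun t : G => t ∈ (T : Subgroup G))).card := by
    rw [Nat.card_eq_fintype_card, Fintype.card_subtype]
  have h3 : Nat.card (Sylow 2 G) - 1 = ((Finset.univ : Finset (Sylow 2 G)).erase T).card := by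
    rw [Finset.card_erase_of_mem (Finset.mem_univ T), Finset.card_univ, Nat.card_eq_fintype_card]
  rw [h1, h2, h3, ← Finset.card_product]
  apply Finset.card_le_card_of_injOn (fun p : Sylow 2 G × G => p.2 • p.1)
  · rintro ⟨Q, t⟩ hp
    simp only [Finset.coe_product, Set.mem_prod, Finset.mem_coe, Finset.mem_erase,
      Finset.mem_filter, Finset.mem_univ, true_and] at hp
    simp only [Finset.coe_erase, Finset.coe_univ, Set.mem_sdiff, Set.mem_univ,
      Set.mem_singleton_iff, true_and]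
    exact cit_smul_ne T Q hp.1.1 hp.2
  · rintro ⟨Q, t⟩ hp ⟨Q', t'⟩ hp' heq
    simp only [Finset.coe_product, Set.mem_prod, Finset.mem_coe, Finset.mem_erase,
      Finset.mem_filter, Finset.mem_univ, true_and] at hp hp'
    have heq' : t • Q = t' • Q' := heq
    have h4 : Q' = (t'⁻¹ * t) • Q := by rw [mul_smul, heq', inv_smul_smul]
    by_cases h5 : t'⁻¹ * t = 1
    · rw [h5, one_smul] at h4
      have h6 : t = t' := by
        have := eq_inv_of_mul_eq_one_right h5
        rw [inv_inv] at this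
        exact this
      rw [h4, h6]
    · exfalso
      have h6 := cit_moves hC T Q hp.1.1 hxT hp.1.2 hx1 (mul_mem (inv_mem hp'.2) hp.2) h5
      rw [← h4] at h6
      exact h6 hp'.1.2

/-- The centralizer of an element of the normalizer of `T` which is not an involution and is
inverted by some element has at most `(q - 1) f / 2` elements, `f` the number of its fixed
points. -/
theorem cit_centralizer_bound (hC : InvCentElem G) (T : Sylow 2 G)
    (hN : Nat.card (normalizer ((T : Subgroup G) : Set G)) =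
      Nat.card (T : Subgroup G) * (Nat.card (T : Subgroup G) - 1))
    {x u : G} (hxT : x • T = T) (hx : x ^ 2 ≠ 1) (hu : u * x * u⁻¹ = x⁻¹) :
    2 * Nat.card (centralizer ({x} : Set G)) ≤
      (Nat.card (T : Subgroup G) - 1) * Nat.card {Q : Sylow 2 G // x • Q = Q} := by
  classical
  have : Fintype (Sylow 2 G) := Fintype.ofFinite _
  have : Fintype G := Fintype.ofFinite _
  have hxN : x ∈ normalizer ((T : Subgroup G) : Set G) := Sylow.smul_eq_iff_mem_normalizer.mp hxT
  have hxinv : x ≠ x⁻¹ := by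
    intro h
    apply hx
    rw [sq]
    nth_rewrite 1 [h]
    exact inv_mul_cancel x
  set C := Finset.univ.filter (fun w : G => w * x * w⁻¹ = x) with hC'
  set I := Finset.univ.filter (fun w : G => w * x * w⁻¹ = x⁻¹) with hI
  have hCcard : C.card = Nat.card (centralizer ({x} : Set G)) := by
    rw [Nat.card_eq_fintype_card, Fintype.card_subtype]
    congr 1
    ext w
    simp only [hC', Finset.mem_filter, Finset.mem_univ, true_and, mem_centralizer_iff,
      Set.mem_singleton_iff, forall_eq]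
    rw [mul_inv_eq_iff_eq_mul]
    exact eq_comm
  have hIcard : I.card = C.card := by
    have : I = C.image (fun c => u * c) := by
      ext w
      simp only [hI, hC', Finset.mem_filter, Finset.mem_univ, true_and, Finset.mem_image]
      constructor
      · intro h
        refine ⟨u⁻¹ * w, ?_, by rw [mul_inv_cancel_left]⟩
        have h2 : u⁻¹ * x⁻¹ * u = x := by rw [← hu]; group
        calc u⁻¹ * w * x * (u⁻¹ * w)⁻¹ = u⁻¹ * (w * x * w⁻¹) * u := by group
          _ = u⁻¹ * x⁻¹ * u := by rw [h]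
          _ = x := h2
      · rintro ⟨c, hc, rfl⟩
        calc u * c * x * (u * c)⁻¹ = u * (c * x * c⁻¹) * u⁻¹ := by group
          _ = x⁻¹ := by rw [hc, hu]
    rw [this, Finset.card_image_of_injective _ (mul_right_injective u)]
  have hdisj : Disjoint C I := by
    rw [Finset.disjoint_left]
    intro w hw hw'
    rw [hC', Finset.mem_filter] at hw
    rw [hI, Finset.mem_filter] at hw'
    exact hxinv (hw.2.symm.trans hw'.2)
  have hWcard : (C ∪ I).card = 2 * Nat.card (centralizer ({x} : Set G)) := by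
    rw [Finset.card_union_of_disjoint hdisj, hIcard, hCcard, two_mul]
  -- elements of the normalizer of `T` conjugating `x` to `x` or its inverse centralize `x`
  have hkey : ∀ g : G, g ∈ normalizer ((T : Subgroup G) : Set G) →
      (g * x * g⁻¹ = x ∨ g * x * g⁻¹ = x⁻¹) → g * x * g⁻¹ = x := by
    intro g hgN hg
    rcases hg with hg | hg
    · exact hg
    · exfalso
      have hg2 : g ^ 2 = 1 := cit_sq_of_inverts hC hx hg
      have hgT : g ∈ (T : Subgroup G) := cit_mem_of_mem_normalizer T hg2 hgN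
      exact hx (cit_not_inverts hC T hgT hxN hg)
  have hWmem : ∀ w ∈ C ∪ I, w * x * w⁻¹ = x ∨ w * x * w⁻¹ = x⁻¹ := by
    intro w hw
    rw [Finset.mem_union, hC', hI, Finset.mem_filter, Finset.mem_filter] at hw
    rcases hw with hw | hw
    · exact Or.inl hw.2
    · exact Or.inr hw.2
  have hWinv : ∀ w : G, (w * x * w⁻¹ = x ∨ w * x * w⁻¹ = x⁻¹) →
      (w⁻¹ * x * w = x ∨ w⁻¹ * x * w = x⁻¹) := by
    intro w hw
    rcases hw with hw | hw
    · exact Or.inl (cit_conj_inv_of_conj hw)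
    · exact Or.inr (cit_conj_inv_of_inverts hw)
  -- the subgroup `D`
  have hDcard : Nat.card (normalizer ((T : Subgroup G) : Set G) ⊓ centralizer ({x} : Set G) :
      Subgroup G) ≤ Nat.card (T : Subgroup G) - 1 := by
    have h1 := cit_card_mul_le_of_disjoint
      (normalizer ((T : Subgroup G) : Set G) ⊓ centralizer ({x} : Set G)) (T : Subgroup G)
      (normalizer ((T : Subgroup G) : Set G)) inf_le_left le_normalizer (by
        intro g hg hgT
        by_contra hg1
        have hgc : g ∈ centralizer ({x} : Set G) := hg.2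
        rw [mem_centralizer_iff] at hgc
        have h2 : x ∈ (T : Subgroup G) := cit_mem_sylow_of_commute hC T hgT hg1 (hgc x rfl)
        exact hx (cit_sylow_sq hC T x h2))
    rw [hN] at h1
    have hpos : 0 < Nat.card (T : Subgroup G) := Nat.card_pos
    rw [mul_comm] at h1
    exact Nat.le_of_mul_le_mul_left h1 hpos
  have hDfin : (Finset.univ.filter (fun d : G => d ∈ (normalizer ((T : Subgroup G) : Set G) ⊓
      centralizer ({x} : Set G) : Subgroup G))).card ≤ Nat.card (T : Subgroup G) - 1 := by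
    rw [← Fintype.card_subtype, ← Nat.card_eq_fintype_card]
    exact hDcard
  rw [← hWcard]
  have hcF : Nat.card {Q : Sylow 2 G // x • Q = Q} =
      (Finset.univ.filter (fun Q : Sylow 2 G => x • Q = Q)).card := by
    rw [Nat.card_eq_fintype_card, Fintype.card_subtype]
  rw [hcF]
  apply Finset.card_le_mul_card_image_of_maps_to (f := fun w : G => w • T)
  · intro w hw
    rw [Finset.mem_filter]
    refine ⟨Finset.mem_univ _, ?_⟩
    have h1 : x • w • T = w • (w⁻¹ * x * w) • T := by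
      rw [← mul_smul, ← mul_smul]
      congr 1
      group
    rw [h1]
    congr 1
    rcases hWinv w (hWmem w hw) with h2 | h2
    · rw [h2, hxT]
    · rw [h2, inv_smul_eq_iff, hxT]
  · intro Q _
    by_cases hemp : (Finset.filter (fun w : G => w • T = Q) (C ∪ I)) = ∅
    · rw [hemp, Finset.card_empty]
      exact Nat.zero_le _
    · obtain ⟨w₀, hw₀⟩ := Finset.nonempty_iff_ne_empty.mpr hemp
      rw [Finset.mem_filter] at hw₀
      refine le_trans ?_ hDfin
      apply Finset.card_le_card_of_injOn (fun w : G => w₀⁻¹ * w)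
      · intro w hw
        have hw' := Finset.mem_filter.mp hw
        simp only [Finset.coe_filter, Finset.mem_univ, true_and, Set.mem_ofPred_eq]
        have hgN : w₀⁻¹ * w ∈ normalizer ((T : Subgroup G) : Set G) := by
          apply Sylow.smul_eq_iff_mem_normalizer.mp
          rw [mul_smul, hw'.2, ← hw₀.2, inv_smul_smul]
        refine ⟨hgN, (?_ : w₀⁻¹ * w ∈ centralizer ({x} : Set G))⟩
        have hconj : (w₀⁻¹ * w) * x * (w₀⁻¹ * w)⁻¹ = x ∨ (w₀⁻¹ * w) * x * (w₀⁻¹ * w)⁻¹ = x⁻¹ := by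
          have h1 : (w₀⁻¹ * w) * x * (w₀⁻¹ * w)⁻¹ = w₀⁻¹ * (w * x * w⁻¹) * w₀ := by group
          rw [h1]
          rcases hWmem w hw'.1 with h2 | h2
          · rw [h2]
            exact hWinv w₀ (hWmem w₀ hw₀.1)
          · rw [h2]
            have h3 : w₀⁻¹ * x⁻¹ * w₀ = (w₀⁻¹ * x * w₀)⁻¹ := by group
            rw [h3]
            rcases hWinv w₀ (hWmem w₀ hw₀.1) with h4 | h4
            · exact Or.inr (by rw [h4])
            · exact Or.inl (by rw [h4, inv_inv])
        have h5 := hkey _ hgN hconj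
        rw [mem_centralizer_iff]
        intro y hy
        have hy' : y = x := hy
        rw [hy']
        exact (mul_inv_eq_iff_eq_mul.mp h5).symm
      · intro w _ w' _ h
        exact mul_left_cancel h

/-- The number of Sylow 2-subgroups is `q + 1`. -/
theorem cit_card_sylow (hC : InvCentElem G) (T : Sylow 2 G) (hq : 2 < Nat.card (T : Subgroup G))
    (hn : 1 < Nat.card (Sylow 2 G)) :
    Nat.card (Sylow 2 G) = Nat.card (T : Subgroup G) + 1 := by
  classical
  have hqall : ∀ Q : Sylow 2 G, 1 < Nat.card (Q : Subgroup G) := by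
    intro Q
    rw [cit_card_sylow_eq Q T]
    omega
  have hN := (cit_main_count hC T (hqall T) hn).1
  -- an element of the normalizer outside `T`
  obtain ⟨x, hxN, hxT'⟩ : ∃ x ∈ normalizer ((T : Subgroup G) : Set G), x ∉ (T : Subgroup G) := by
    by_contra hcon
    push Not at hcon
    have h1 : normalizer ((T : Subgroup G) : Set G) ≤ (T : Subgroup G) := hcon
    have h2 := Subgroup.card_le_of_le h1
    rw [hN] at h2
    have h3 : Nat.card (T : Subgroup G) * 2 ≤ Nat.card (T : Subgroup G) * (Nat.card (T : Subgroup G) - 1) :=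
      Nat.mul_le_mul_left _ (by omega)
    omega
  have hx : x ^ 2 ≠ 1 := fun h => hxT' (cit_mem_of_mem_normalizer T h hxN)
  have hx1 : x ≠ 1 := by
    rintro rfl
    exact hxT' (one_mem _)
  have hxT : x • T = T := Sylow.smul_eq_iff_mem_normalizer.mpr hxN
  obtain ⟨Q₁, hQ₁⟩ : ∃ Q₁ : Sylow 2 G, x • Q₁ ≠ Q₁ := by
    by_contra hcon
    push Not at hcon
    exact hx1 (cit_faithful hC T (hqall T) hn x hcon)
  have hQ₁' : x ∉ normalizer ((Q₁ : Subgroup G) : Set G) := fun h =>
    hQ₁ (Sylow.smul_eq_iff_mem_normalizer.mpr h)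
  obtain ⟨u, -, -, hu⟩ := cit_exists_inverting hC hqall hn hx Q₁ hQ₁'
  have hc := cit_card_centralizer hC hqall hn hx Q₁ hQ₁'
  have hb := cit_centralizer_bound hC T hN hxT hx hu
  have hf := cit_fix_bound hC T hxT hx1
  have hle := cit_card_le_pred hC T hn
  have hsum : Nat.card {Q : Sylow 2 G // x ∉ normalizer ((Q : Subgroup G) : Set G)} +
      Nat.card {Q : Sylow 2 G // x • Q = Q} = Nat.card (Sylow 2 G) := by
    have : Fintype (Sylow 2 G) := Fintype.ofFinite _
    have h1 : Nat.card {Q : Sylow 2 G // x ∉ normalizer ((Q : Subgroup G) : Set G)} =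
        Nat.card {Q : Sylow 2 G // ¬ x • Q = Q} := by
      apply Nat.card_congr
      apply Equiv.subtypeEquivRight
      intro Q
      rw [Sylow.smul_eq_iff_mem_normalizer]
      rfl
    rw [h1, Nat.card_eq_fintype_card, Nat.card_eq_fintype_card, Nat.card_eq_fintype_card,
      Fintype.card_subtype_compl]
    have := Fintype.card_subtype_le (fun Q : Sylow 2 G => x • Q = Q)
    omega
  have hfpos : 0 < Nat.card {Q : Sylow 2 G // x • Q = Q} := by
    have : Nonempty {Q : Sylow 2 G // x • Q = Q} := ⟨⟨T, hxT⟩⟩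
    exact Nat.card_pos
  rw [hc] at hb
  exact cit_arith2 _ _ _ _ hq hsum hb hf hle hfpos hn

end Cit3

end Cfsg.Agent.Lib.Helper23
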