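import Mathlib
import Cfsg.Agent.Lib.Helper23.Cit3

/-!
# Groups with elementary abelian involution centralizers: the two-point stabilizer
-/

namespace Cfsg.Agent.Lib.Helper23

open Subgroup

section Cit4

variable {G : Type*} [Group G] [Finite G]

/-- `T` is transitive on the other Sylow 2-subgroups. -/
theorem cit_exists_smul (hC : InvCentElem G) (T Q₀ : Sylow 2 G) (hQ₀ : Q₀ ≠ T)
    (hn : Nat.card (Sylow 2 G) = Nat.card (T : Subgroup G) + 1) :
    ∀ Q : Sylow 2 G, Q ≠ T → ∃ t ∈ (T : Subgroup G), t • Q₀ = Q := by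
  have hinj : Function.Injective (fun t : (T : Subgroup G) =>
      (⟨(t : G) • Q₀, cit_smul_ne T Q₀ hQ₀ t.2⟩ : {Q : Sylow 2 G // Q ≠ T})) := by
    intro t t' h
    have h1 : (t : G) • Q₀ = (t' : G) • Q₀ := congrArg Subtype.val h
    exact Subtype.ext (cit_smul_inj hC T Q₀ hQ₀ t.2 t'.2 h1)
  have hbij := hinj.bijective_of_nat_card_le (by rw [cit_card_ne, hn, Nat.add_sub_cancel])
  intro Q hQ
  obtain ⟨t, ht⟩ := hbij.2 ⟨Q, hQ⟩
  exact ⟨t, t.2, congrArg Subtype.val ht⟩

/-- A non-identity element fixing `T` and `Q₀` fixes no other Sylow 2-subgroup. -/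
theorem cit_fix_two (hC : InvCentElem G) (T Q₀ : Sylow 2 G) (hQ₀ : Q₀ ≠ T)
    (hn : Nat.card (Sylow 2 G) = Nat.card (T : Subgroup G) + 1) {x : G} (hxT : x • T = T)
    (hxQ : x • Q₀ = Q₀) (hx1 : x ≠ 1) (Q : Sylow 2 G) (hQ : x • Q = Q) : Q = T ∨ Q = Q₀ := by
  by_cases hQT : Q = T
  · exact Or.inl hQT
  · right
    obtain ⟨t, ht, rfl⟩ := cit_exists_smul hC T Q₀ hQ₀ hn Q hQT
    by_cases ht1 : t = 1
    · rw [ht1, one_smul]
    · exact absurd hQ (cit_moves hC T Q₀ hQ₀ hxT hxQ hx1 ht ht1)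

/-- The two-point stabilizer. -/
def citH (T Q₀ : Sylow 2 G) : Subgroup G := MulAction.stabilizer G T ⊓ MulAction.stabilizer G Q₀

omit [Finite G] in
theorem mem_citH {T Q₀ : Sylow 2 G} {g : G} : g ∈ citH T Q₀ ↔ g • T = T ∧ g • Q₀ = Q₀ := by
  rw [citH, Subgroup.mem_inf, MulAction.mem_stabilizer_iff, MulAction.mem_stabilizer_iff]

theorem cit_card_moved (x : G) :
    Nat.card {Q : Sylow 2 G // x ∉ normalizer ((Q : Subgroup G) : Set G)} +
      Nat.card {Q : Sylow 2 G // x • Q = Q} = Nat.card (Sylow 2 G) := by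
  classical
  have : Fintype (Sylow 2 G) := Fintype.ofFinite _
  have h1 : Nat.card {Q : Sylow 2 G // x ∉ normalizer ((Q : Subgroup G) : Set G)} =
      Nat.card {Q : Sylow 2 G // ¬ x • Q = Q} := by
    apply Nat.card_congr
    apply Equiv.subtypeEquivRight
    intro Q
    rw [Sylow.smul_eq_iff_mem_normalizer]
    rfl
  rw [h1, Nat.card_eq_fintype_card, Nat.card_eq_fintype_card, Nat.card_eq_fintype_card,
    Fintype.card_subtype_compl]
  have := Fintype.card_subtype_le (fun Q : Sylow 2 G => x • Q = Q)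
  omega

theorem cit_card_H (hC : InvCentElem G) (T Q₀ : Sylow 2 G) (hQ₀ : Q₀ ≠ T)
    (hq : 2 < Nat.card (T : Subgroup G)) :
    Nat.card (citH T Q₀) = Nat.card (T : Subgroup G) - 1 := by
  have hn1 : 1 < Nat.card (Sylow 2 G) :=
    Finite.one_lt_card_iff_nontrivial.mpr ⟨⟨Q₀, T, hQ₀⟩⟩
  have hn := cit_card_sylow hC T hq hn1
  have hN := (cit_main_count hC T (by omega) hn1).1
  have hmem : ∀ p : ↥(T : Subgroup G) × ↥(citH T Q₀),
      (p.1 : G) * (p.2 : G) ∈ normalizer ((T : Subgroup G) : Set G) := by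
    intro p
    exact mul_mem (le_normalizer p.1.2)
      (Sylow.smul_eq_iff_mem_normalizer.mp (mem_citH.mp p.2.2).1)
  have hbij : Function.Bijective (fun p : ↥(T : Subgroup G) × ↥(citH T Q₀) =>
      (⟨(p.1 : G) * (p.2 : G), hmem p⟩ : normalizer ((T : Subgroup G) : Set G))) := by
    constructor
    · rintro ⟨⟨t, ht⟩, ⟨h, hh⟩⟩ ⟨⟨t', ht'⟩, ⟨h', hh'⟩⟩ heq
      have heq' : t * h = t' * h' := congrArg Subtype.val heq
      have h1 : t'⁻¹ * t = h' * h⁻¹ := by
        have : t'⁻¹ * (t * h) * h⁻¹ = t'⁻¹ * (t' * h') * h⁻¹ := by rw [heq']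
        simpa [mul_assoc] using this
      have h2 : (t'⁻¹ * t) • Q₀ = Q₀ := by
        rw [h1]
        exact (mem_citH.mp (mul_mem hh' (inv_mem hh))).2
      have h3 : t'⁻¹ * t = 1 := cit_not_mem_normalizer hC T Q₀ hQ₀ (mul_mem (inv_mem ht') ht)
        (Sylow.smul_eq_iff_mem_normalizer.mp h2)
      have h4 : t = t' := by
        have := eq_inv_of_mul_eq_one_right h3
        rw [inv_inv] at this
        exact this
      subst h4
      have h5 : h = h' := mul_left_cancel heq'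
      subst h5
      rfl
    · rintro ⟨g, hg⟩
      have hgT : g • T = T := Sylow.smul_eq_iff_mem_normalizer.mpr hg
      have hgQ : g • Q₀ ≠ T := by
        intro h
        apply hQ₀
        have h1 : g⁻¹ • T = T := by rw [inv_smul_eq_iff, hgT]
        rw [← h1, ← h, inv_smul_smul]
      obtain ⟨t, ht, htQ⟩ := cit_exists_smul hC T Q₀ hQ₀ hn (g • Q₀) hgQ
      have hh : t⁻¹ * g ∈ citH T Q₀ := by
        rw [mem_citH]
        constructor
        · rw [mul_smul, hgT]
          exact Sylow.smul_eq_iff_mem_normalizer.mpr (le_normalizer (inv_mem ht))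
        · rw [mul_smul, ← htQ, inv_smul_smul]
      refine ⟨(⟨t, ht⟩, ⟨t⁻¹ * g, hh⟩), ?_⟩
      apply Subtype.ext
      show t * (t⁻¹ * g) = g
      rw [mul_inv_cancel_left]
  have hcard := Nat.card_congr (Equiv.ofBijective _ hbij)
  rw [Nat.card_prod, hN] at hcard
  have hpos : 0 < Nat.card (T : Subgroup G) := Nat.card_pos
  exact Nat.eq_of_mul_eq_mul_left hpos hcard

theorem cit_H_sq_ne (hC : InvCentElem G) (T Q₀ : Sylow 2 G) (hQ₀ : Q₀ ≠ T) {x : G}
    (hx : x ∈ citH T Q₀) (hx1 : x ≠ 1) : x ^ 2 ≠ 1 := by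
  intro h
  apply hx1
  rw [mem_citH] at hx
  have hxT : x ∈ (T : Subgroup G) :=
    cit_mem_of_mem_normalizer T h (Sylow.smul_eq_iff_mem_normalizer.mp hx.1)
  exact cit_not_mem_normalizer hC T Q₀ hQ₀ hxT (Sylow.smul_eq_iff_mem_normalizer.mp hx.2)

/-- The centralizer of a non-identity element of the two-point stabilizer is the two-point
stabilizer. -/
theorem cit_centralizer_eq_H (hC : InvCentElem G) (T Q₀ : Sylow 2 G) (hQ₀ : Q₀ ≠ T)
    (hq : 2 < Nat.card (T : Subgroup G)) {x : G} (hx : x ∈ citH T Q₀) (hx1 : x ≠ 1) :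
    centralizer ({x} : Set G) = citH T Q₀ := by
  classical
  have hn1 : 1 < Nat.card (Sylow 2 G) :=
    Finite.one_lt_card_iff_nontrivial.mpr ⟨⟨Q₀, T, hQ₀⟩⟩
  have hn := cit_card_sylow hC T hq hn1
  have hqall : ∀ Q : Sylow 2 G, 1 < Nat.card (Q : Subgroup G) := by
    intro Q
    rw [cit_card_sylow_eq Q T]
    omega
  have hx2 := cit_H_sq_ne hC T Q₀ hQ₀ hx hx1
  have hxT := (mem_citH.mp hx).1
  have hxQ := (mem_citH.mp hx).2
  obtain ⟨Q₁, hQ₁⟩ : ∃ Q₁ : Sylow 2 G, x • Q₁ ≠ Q₁ := by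
    by_contra hcon
    push Not at hcon
    exact hx1 (cit_faithful hC T (hqall T) hn1 x hcon)
  have hQ₁' : x ∉ normalizer ((Q₁ : Subgroup G) : Set G) := fun h =>
    hQ₁ (Sylow.smul_eq_iff_mem_normalizer.mpr h)
  have hc := cit_card_centralizer hC hqall hn1 hx2 Q₁ hQ₁'
  have hfix : Nat.card {Q : Sylow 2 G // x • Q = Q} = 2 := by
    have : Fintype (Sylow 2 G) := Fintype.ofFinite _
    rw [Nat.card_eq_fintype_card, Fintype.card_subtype]
    have h1 : Finset.univ.filter (fun Q : Sylow 2 G => x • Q = Q) = {T, Q₀} := by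
      ext Q
      simp only [Finset.mem_filter, Finset.mem_univ, true_and, Finset.mem_insert,
        Finset.mem_singleton]
      constructor
      · exact cit_fix_two hC T Q₀ hQ₀ hn hxT hxQ hx1 Q
      · rintro (rfl | rfl)
        · exact hxT
        · exact hxQ
    rw [h1, Finset.card_pair (Ne.symm hQ₀)]
  have hsum := cit_card_moved x
  rw [← hc, hfix, hn] at hsum
  have hle : centralizer ({x} : Set G) ≤ citH T Q₀ := by
    intro c hc'
    rw [mem_centralizer_iff] at hc'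
    have hcx : x * c = c * x := hc' x rfl
    have hfixc : ∀ Q : Sylow 2 G, x • Q = Q → x • (c • Q) = c • Q := by
      intro Q hQ
      rw [← mul_smul, hcx, mul_smul, hQ]
    have hcT := cit_fix_two hC T Q₀ hQ₀ hn hxT hxQ hx1 (c • T) (hfixc T hxT)
    have hcQ := cit_fix_two hC T Q₀ hQ₀ hn hxT hxQ hx1 (c • Q₀) (hfixc Q₀ hxQ)
    rw [mem_citH]
    rcases hcT with hcT | hcT
    · refine ⟨hcT, ?_⟩
      rcases hcQ with hcQ | hcQ
      · exfalso
        apply hQ₀
        exact MulAction.injective c (hcQ.trans hcT.symm)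
      · exact hcQ
    · exfalso
      have hcQ' : c • Q₀ = T := by
        rcases hcQ with hcQ | hcQ
        · exact hcQ
        · exfalso
          apply hQ₀
          exact MulAction.injective c (hcQ.trans hcT.symm)
      have hc1 : c ≠ 1 := by
        rintro rfl
        rw [one_smul] at hcT
        exact hQ₀ hcT.symm
      rcases cit_sq_or_odd hC c with h2 | h2
      · exact hx2 (hC c x hc1 h2 hcx)
      · obtain ⟨m, hm⟩ := h2
        have h3 : (c ^ 2) • T = T := by
          rw [sq, mul_smul, hcT, hcQ']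
        have h4 : ∀ k : ℕ, ((c ^ 2) ^ k) • T = T := by
          intro k
          induction k with
          | zero => rw [pow_zero, one_smul]
          | succ k ih => rw [pow_succ, mul_smul, h3, ih]
        have h5 : c ^ (2 * m + 1) = c * (c ^ 2) ^ m := by
          rw [pow_succ', pow_mul]
        have h6 : c ^ (2 * m + 1) = 1 := by rw [← hm, pow_orderOf_eq_one]
        have h7 : (c ^ (2 * m + 1)) • T = Q₀ := by
          rw [h5, mul_smul, h4, hcT]
        rw [h6, one_smul] at h7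
        exact hQ₀ h7.symm
  apply Subgroup.eq_of_le_of_card_ge hle
  rw [cit_card_H hC T Q₀ hQ₀ hq]
  omega

/-- The two-point stabilizer is abelian and is inverted by an element swapping the two
points. -/
theorem cit_structure (hC : InvCentElem G) (T Q₀ : Sylow 2 G) (hQ₀ : Q₀ ≠ T)
    (hq : 2 < Nat.card (T : Subgroup G)) :
    (∀ h ∈ citH T Q₀, ∀ h' ∈ citH T Q₀, h * h' = h' * h) ∧
      ∃ u : G, u • T = Q₀ ∧ u • Q₀ = T ∧ ∀ h ∈ citH T Q₀, u * h * u⁻¹ = h⁻¹ := by
  have hn1 : 1 < Nat.card (Sylow 2 G) :=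
    Finite.one_lt_card_iff_nontrivial.mpr ⟨⟨Q₀, T, hQ₀⟩⟩
  have hn := cit_card_sylow hC T hq hn1
  have hqall : ∀ Q : Sylow 2 G, 1 < Nat.card (Q : Subgroup G) := by
    intro Q
    rw [cit_card_sylow_eq Q T]
    omega
  constructor
  · intro h hh h' hh'
    by_cases h1 : h = 1
    · rw [h1, one_mul, mul_one]
    · have h2 : h' ∈ centralizer ({h} : Set G) := by
        rw [cit_centralizer_eq_H hC T Q₀ hQ₀ hq hh h1]
        exact hh'
      rw [mem_centralizer_iff] at h2
      exact h2 h rfl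
  · obtain ⟨x, hx, hx1⟩ : ∃ x ∈ citH T Q₀, x ≠ 1 := by
      have hcard := cit_card_H hC T Q₀ hQ₀ hq
      have : Nontrivial (citH T Q₀) := Finite.one_lt_card_iff_nontrivial.mp (by omega)
      obtain ⟨⟨a, ha⟩, hne⟩ := exists_ne (1 : citH T Q₀)
      exact ⟨a, ha, fun h => hne (Subtype.ext h)⟩
    have hx2 := cit_H_sq_ne hC T Q₀ hQ₀ hx hx1
    have hxT := (mem_citH.mp hx).1
    have hxQ := (mem_citH.mp hx).2
    obtain ⟨Q₁, hQ₁⟩ : ∃ Q₁ : Sylow 2 G, x • Q₁ ≠ Q₁ := by
      by_contra hcon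
      push Not at hcon
      exact hx1 (cit_faithful hC T (hqall T) hn1 x hcon)
    have hQ₁' : x ∉ normalizer ((Q₁ : Subgroup G) : Set G) := fun h =>
      hQ₁ (Sylow.smul_eq_iff_mem_normalizer.mpr h)
    obtain ⟨u, hu1, hu2, hu⟩ := cit_exists_inverting hC hqall hn1 hx2 Q₁ hQ₁'
    have huinv : u⁻¹ = u := cit_inv_of_sq hu2
    have hfixu : x • (u • T) = u • T := by
      have h1 : x • u • T = u • (u⁻¹ * x * u) • T := by
        rw [← mul_smul, ← mul_smul]
        congr 1
        group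
      rw [h1, cit_conj_inv_of_inverts hu, inv_smul_eq_iff.mpr hxT.symm]
    have huT : u • T = Q₀ := by
      rcases cit_fix_two hC T Q₀ hQ₀ hn hxT hxQ hx1 (u • T) hfixu with h | h
      · exfalso
        have huT' : u ∈ (T : Subgroup G) :=
          cit_mem_of_mem_normalizer T hu2 (Sylow.smul_eq_iff_mem_normalizer.mp h)
        exact hx2 (cit_not_inverts hC T huT' (Sylow.smul_eq_iff_mem_normalizer.mp hxT) hu)
      · exact h
    refine ⟨u, huT, ?_, ?_⟩
    · rw [← huT, ← mul_smul, ← sq, hu2, one_smul]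
    · intro h hh
      have h1 : h ∈ centralizer ({x} : Set G) := by
        rw [cit_centralizer_eq_H hC T Q₀ hQ₀ hq hx hx1]
        exact hh
      rw [mem_centralizer_iff] at h1
      have h2 : (u * h) ^ 2 = 1 := cit_sq_mul_of_inverts hC hx2 hu (h1 x rfl).symm
      rw [huinv]
      apply eq_inv_of_mul_eq_one_left
      rw [← h2, sq]
      group

/-- The two-point stabilizer acts regularly on the non-identity elements of `T`. -/
theorem cit_H_regular (hC : InvCentElem G) (T Q₀ : Sylow 2 G) (hQ₀ : Q₀ ≠ T)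
    (hq : 2 < Nat.card (T : Subgroup G)) {e : G} (he : e ∈ (T : Subgroup G)) (he1 : e ≠ 1) :
    ∀ t ∈ (T : Subgroup G), t ≠ 1 → ∃ h ∈ citH T Q₀, h * e * h⁻¹ = t := by
  classical
  have hmem : ∀ h : citH T Q₀, (h : G) * e * (h : G)⁻¹ ∈ (T : Subgroup G) := by
    intro h
    have hN : (h : G) ∈ normalizer ((T : Subgroup G) : Set G) :=
      Sylow.smul_eq_iff_mem_normalizer.mp (mem_citH.mp h.2).1
    exact (mem_normalizer_iff.mp hN e).mp he
  have hne : ∀ h : citH T Q₀, (⟨(h : G) * e * (h : G)⁻¹, hmem h⟩ : (T : Subgroup G)) ≠ 1 := by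
    intro h h1
    apply he1
    have h2 : (h : G) * e * (h : G)⁻¹ = 1 := congrArg Subtype.val h1
    have h3 : (h : G) * e = (h : G) := by
      have := congrArg (fun w => w * (h : G)) h2
      simpa using this
    exact mul_eq_left.mp h3
  have hinj : Function.Injective (fun h : citH T Q₀ =>
      (⟨⟨(h : G) * e * (h : G)⁻¹, hmem h⟩, hne h⟩ : {t : (T : Subgroup G) // t ≠ 1})) := by
    rintro ⟨h, hh⟩ ⟨h', hh'⟩ heq
    have heq' : h * e * h⁻¹ = h' * e * h'⁻¹ := congrArg (fun w : {t : (T : Subgroup G) // t ≠ 1} => (w.1.1 : G)) heq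
    have h1 : (h'⁻¹ * h) * e = e * (h'⁻¹ * h) := by
      have : h'⁻¹ * (h * e * h⁻¹) * h = h'⁻¹ * (h' * e * h'⁻¹) * h := by rw [heq']
      simpa [mul_assoc] using this
    have h2 : h'⁻¹ * h ∈ (T : Subgroup G) := cit_mem_sylow_of_commute hC T he he1 h1
    have h3 : h'⁻¹ * h = 1 := cit_not_mem_normalizer hC T Q₀ hQ₀ h2
      (Sylow.smul_eq_iff_mem_normalizer.mp (mem_citH.mp (mul_mem (inv_mem hh') hh)).2)
    have h4 : h = h' := by
      have := eq_inv_of_mul_eq_one_right h3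
      rw [inv_inv] at this
      exact this
    exact Subtype.ext h4
  have hcard : Nat.card {t : (T : Subgroup G) // t ≠ 1} = Nat.card (T : Subgroup G) - 1 := by
    have : Fintype (T : Subgroup G) := Fintype.ofFinite _
    rw [Nat.card_eq_fintype_card, Fintype.card_subtype_compl, Fintype.card_subtype_eq,
      Nat.card_eq_fintype_card]
  have hbij := hinj.bijective_of_nat_card_le (by rw [hcard, cit_card_H hC T Q₀ hQ₀ hq])
  intro t ht ht1
  obtain ⟨h, hh⟩ := hbij.2 ⟨⟨t, ht⟩, fun h => ht1 (congrArg Subtype.val h)⟩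
  exact ⟨h, h.2, congrArg (fun w : {t : (T : Subgroup G) // t ≠ 1} => (w.1.1 : G)) hh⟩

/-- The order of the group. -/
theorem cit_card (hC : InvCentElem G) (T : Sylow 2 G) (hq : 2 < Nat.card (T : Subgroup G))
    (hn1 : 1 < Nat.card (Sylow 2 G)) :
    Nat.card G = Nat.card (T : Subgroup G) * (Nat.card (T : Subgroup G) ^ 2 - 1) := by
  have hn := cit_card_sylow hC T hq hn1
  have hN := (cit_main_count hC T (by omega) hn1).1
  rw [← card_normalizer_sylow_mul T, hN, hn]
  obtain ⟨q', hq'⟩ : ∃ q', Nat.card (T : Subgroup G) = q' + 1 :=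
    ⟨Nat.card (T : Subgroup G) - 1, by omega⟩
  rw [hq', Nat.add_sub_cancel]
  have h1 : (q' + 1) ^ 2 - 1 = q' * (q' + 2) := by
    have : (q' + 1) ^ 2 = q' * (q' + 2) + 1 := by ring
    omega
  rw [h1]
  ring

end Cit4

end Cfsg.Agent.Lib.Helper23
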