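import Mathlib
import Cfsg.Agent.Lib.Helper23.Cit4
import Cfsg.Agent.Lib.Helper23.CitField
import Cfsg.Agent.Lib.Helper23.PSL2Even

/-!
# Groups with elementary abelian involution centralizers are `PSL(2, 2^m)`
-/

namespace Cfsg.Agent.Lib.Helper23

open Subgroup Equiv

universe u

/-- A finite group in which every element commuting with an involution has square one, with a
Sylow 2-subgroup of order `q > 2` which is not normal, is isomorphic to `PSL(2, K)` for a field
`K` with `q` elements. -/
theorem cit_psl2 {G : Type u} [Group G] [Finite G] (hC : InvCentElem G) (T : Sylow 2 G)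
    (hq : 2 < Nat.card (T : Subgroup G)) (hn1 : 1 < Nat.card (Sylow 2 G)) :
    ∃ (K : Type u) (_ : Field K) (_ : Fintype K), Fintype.card K = Nat.card (T : Subgroup G) ∧
      Nonempty (G ≃* Matrix.ProjectiveSpecialLinearGroup (Fin 2) K) := by
  classical
  obtain ⟨Q₀, hQ₀⟩ : ∃ Q₀ : Sylow 2 G, Q₀ ≠ T := by
    have : Nontrivial (Sylow 2 G) := Finite.one_lt_card_iff_nontrivial.mp hn1
    exact exists_ne T
  have hn := cit_card_sylow hC T hq hn1
  obtain ⟨hHcomm, u, huT, huQ, huinv⟩ := cit_structure hC T Q₀ hQ₀ hq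
  obtain ⟨ε, hε, hε1⟩ : ∃ ε ∈ (T : Subgroup G), ε ≠ 1 := by
    have : Nontrivial (T : Subgroup G) := Finite.one_lt_card_iff_nontrivial.mp (by omega)
    obtain ⟨⟨a, ha⟩, hne⟩ := exists_ne (1 : (T : Subgroup G))
    exact ⟨a, ha, fun h => hne (Subtype.ext h)⟩
  have hnorm : ∀ h ∈ citH T Q₀, ∀ t ∈ (T : Subgroup G), h * t * h⁻¹ ∈ (T : Subgroup G) := by
    intro h hh t ht
    exact (mem_normalizer_iff.mp (Sylow.smul_eq_iff_mem_normalizer.mp (mem_citH.mp hh).1) t).mp ht
  obtain ⟨K, instF, instFin, τ, hchar, hcardK, hτT, hτinj, hτsurj, hτ0, hτ1, hτadd, hτmul⟩ :=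
    exists_field_of_group (T : Subgroup G) (citH T Q₀)
      (fun a ha b hb => cit_sylow_comm hC T ha hb) (cit_sylow_sq hC T) hnorm hHcomm ε hε hε1
      (cit_H_regular hC T Q₀ hQ₀ hq hε hε1)
  refine ⟨K, instF, instFin, hcardK, ?_⟩
  choose κ hκ using (fun h : citH T Q₀ => hτmul h h.2)
  have hκ1 : ∀ h : citH T Q₀, τ (κ h) = (h : G) * ε * (h : G)⁻¹ := by
    intro h
    have := hκ h 1
    rwa [mul_one, hτ1] at this
  have hκmul : ∀ g h : citH T Q₀, κ (g * h) = κ g * κ h := by
    intro g h
    apply hτinj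
    rw [hκ1, hκ g (κ h), hκ1]
    show ((g : G) * (h : G)) * ε * ((g : G) * (h : G))⁻¹ =
      (g : G) * ((h : G) * ε * (h : G)⁻¹) * (g : G)⁻¹
    group
  have hκone : κ 1 = 1 := by
    apply hτinj
    rw [hκ1, hτ1]
    show (1 : G) * ε * (1 : G)⁻¹ = ε
    group
  have hκinv : ∀ h : citH T Q₀, κ h⁻¹ * κ h = 1 := by
    intro h
    rw [← hκmul, inv_mul_cancel, hκone]
  have hκne : ∀ h : citH T Q₀, κ h ≠ 0 := by
    intro h h0
    have := hκinv h
    rw [h0, mul_zero] at this
    exact zero_ne_one this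
  have hκsurj : ∀ k : K, k ≠ 0 → ∃ h : citH T Q₀, κ h = k := by
    intro k hk
    have hk1 : τ k ≠ 1 := by
      intro h
      apply hk
      apply hτinj
      rw [h, hτ0]
    obtain ⟨h, hh, hhe⟩ := cit_H_regular hC T Q₀ hQ₀ hq hε hε1 (τ k) (hτT k) hk1
    refine ⟨⟨h, hh⟩, ?_⟩
    apply hτinj
    rw [hκ1]
    exact hhe
  -- the labelling
  obtain ⟨E, hEnone, hEsome⟩ : ∃ E : Option K → Sylow 2 G, E none = T ∧
      ∀ a : K, E (some a) = τ a • Q₀ :=
    ⟨fun x => match x with
      | none => T
      | some a => τ a • Q₀, rfl, fun _ => rfl⟩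
  have hE0 : E (some 0) = Q₀ := by rw [hEsome, hτ0, one_smul]
  have hEinj : Function.Injective E := by
    intro x y hxy
    cases x with
    | none =>
      cases y with
      | none => rfl
      | some b =>
        rw [hEnone, hEsome] at hxy
        exact absurd hxy.symm (cit_smul_ne T Q₀ hQ₀ (hτT b))
    | some a =>
      cases y with
      | none =>
        rw [hEnone, hEsome] at hxy
        exact absurd hxy (cit_smul_ne T Q₀ hQ₀ (hτT a))
      | some b =>
        rw [hEsome, hEsome] at hxy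
        exact congrArg some (hτinj (cit_smul_inj hC T Q₀ hQ₀ (hτT a) (hτT b) hxy))
  have hEbij : Function.Bijective E := by
    apply Function.Injective.bijective_of_nat_card_le hEinj
    rw [hn, ← hcardK, Nat.card_eq_fintype_card, Fintype.card_option]
  obtain ⟨e, he⟩ : ∃ e : Option K ≃ Sylow 2 G, ∀ x, e x = E x :=
    ⟨Equiv.ofBijective E hEbij, fun _ => rfl⟩
  obtain ⟨π, hπ⟩ : ∃ π : G →* Perm (Option K), ∀ g x, π g x = e.symm (g • e x) :=
    ⟨(e.symm.permCongrHom).toMonoidHom.comp (MulAction.toPermHom G (Sylow 2 G)),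
      fun _ _ => rfl⟩
  have hπiff : ∀ g x y, π g x = y ↔ g • E x = E y := by
    intro g x y
    rw [hπ, Equiv.symm_apply_eq, he, he]
  have hπinj : Function.Injective π := by
    rw [injective_iff_map_eq_one]
    intro g hg
    apply cit_faithful hC T (by omega) hn1
    intro Q
    obtain ⟨x, rfl⟩ := hEbij.2 Q
    have h1 : π g x = x := by rw [hg]; rfl
    exact (hπiff g x x).mp h1
  have hTfix : ∀ t ∈ (T : Subgroup G), t • T = T := fun t ht =>
    Sylow.smul_eq_iff_mem_normalizer.mpr (le_normalizer ht)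
  have hactH : ∀ (h : citH T Q₀) (a : K), (h : G) • E (some a) = E (some (κ h * a)) := by
    intro h a
    rw [hEsome, hEsome, hκ]
    have h1 : (h : G) • τ a • Q₀ = ((h : G) * τ a * (h : G)⁻¹) • (h : G) • Q₀ := by
      rw [← mul_smul, ← mul_smul, inv_mul_cancel_right]
    rw [h1, (mem_citH.mp h.2).2]
  have hcard : Nat.card G = Fintype.card K * (Fintype.card K ^ 2 - 1) := by
    rw [hcardK]
    exact cit_card hC T hq hn1
  apply psl2_recog_even π hπinj hcard
  · intro c
    refine ⟨τ c, fun x => ?_⟩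
    rw [hπiff]
    cases x with
    | none =>
      show τ c • E none = E none
      rw [hEnone]
      exact hTfix _ (hτT c)
    | some b =>
      show τ c • E (some b) = E (some (b + c))
      rw [hEsome, hEsome, hτadd, ← mul_smul, cit_sylow_comm hC T (hτT c) (hτT b)]
  · intro g hg1 hg2
    rw [hπiff, hEnone] at hg1
    rw [hπiff, hE0] at hg2
    have hg : g ∈ citH T Q₀ := mem_citH.mpr ⟨hg1, hg2⟩
    refine ⟨κ ⟨g, hg⟩, hκne _, fun x => ?_⟩
    rw [hπiff]
    cases x with
    | none =>
      show g • E none = E none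
      rw [hEnone]
      exact hg1
    | some a =>
      show g • E (some a) = E (some (κ ⟨g, hg⟩ * a))
      exact hactH ⟨g, hg⟩ a
  · have hu1 : u • E (some 1) ≠ T := by
      intro h
      have h1 : E (some 1) = E (some 0) := by
        rw [hE0]
        exact MulAction.injective u (h.trans huQ.symm)
      exact one_ne_zero (Option.some.inj (hEinj h1))
    have hu2 : u • E (some 1) ≠ Q₀ := by
      intro h
      have h1 : E (some 1) = E none := by
        rw [hEnone]
        exact MulAction.injective u (h.trans huT.symm)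
      cases hEinj h1
    obtain ⟨y, hy⟩ := hEbij.2 (u • E (some 1))
    cases y with
    | none =>
      rw [hEnone] at hy
      exact absurd hy.symm hu1
    | some b₀ =>
      have hb₀ : b₀ ≠ 0 := by
        rintro rfl
        rw [hE0] at hy
        exact hu2 hy.symm
      obtain ⟨h₀, rfl⟩ := hκsurj b₀ hb₀
      refine ⟨(h₀ : G)⁻¹ * u, ?_, ?_, ?_⟩
      · rw [hπiff, hEnone, hE0, mul_smul, huT]
        exact inv_smul_eq_iff.mpr (mem_citH.mp h₀.2).2.symm
      · rw [hπiff, hEnone, hE0, mul_smul, huQ]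
        exact inv_smul_eq_iff.mpr (mem_citH.mp h₀.2).1.symm
      · intro k hk
        obtain ⟨h, rfl⟩ := hκsurj k hk
        rw [hπiff]
        have h1 : E (some (κ h)) = (h : G) • E (some 1) := by rw [hactH, mul_one]
        have h2 : u • (h : G) • E (some 1) = (h : G)⁻¹ • u • E (some 1) := by
          rw [← mul_smul, ← mul_smul]
          congr 1
          have := huinv h h.2
          rw [← this]
          group
        have h3 := hactH h⁻¹ (κ h₀)
        have h4 := hactH h₀⁻¹ (κ h⁻¹ * κ h₀)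
        rw [Subgroup.coe_inv] at h3 h4
        rw [h1, mul_smul, h2, ← hy, h3, h4]
        congr 2
        have h5 : κ h⁻¹ = (κ h)⁻¹ := eq_inv_of_mul_eq_one_left (hκinv h)
        rw [h5, mul_comm (κ h)⁻¹, ← mul_assoc, hκinv h₀, one_mul]

/-- The same, with a prescribed field. -/
theorem cit_psl2_of_card {G : Type*} [Group G] [Finite G] (hC : InvCentElem G) (T : Sylow 2 G)
    (hq : 2 < Nat.card (T : Subgroup G)) (hn1 : 1 < Nat.card (Sylow 2 G))
    {F : Type*} [Field F] [Fintype F] (hF : Fintype.card F = Nat.card (T : Subgroup G)) :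
    Nonempty (G ≃* Matrix.ProjectiveSpecialLinearGroup (Fin 2) F) := by
  obtain ⟨K, instF, instFin, hcardK, ⟨e1⟩⟩ := cit_psl2 hC T hq hn1
  obtain ⟨e2⟩ := psl_congr (Fin 2) (FiniteField.ringEquivOfCardEq (hcardK.trans hF.symm))
  exact ⟨e1.trans e2⟩

/-- The same, with a field in `Type`. -/
theorem cit_psl2_galois {G : Type*} [Group G] [Finite G] (hC : InvCentElem G) (T : Sylow 2 G)
    (hq : 2 < Nat.card (T : Subgroup G)) (hn1 : 1 < Nat.card (Sylow 2 G)) :
    ∃ (F : Type) (_ : Field F) (_ : Fintype F), Fintype.card F = Nat.card (T : Subgroup G) ∧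
      Nonempty (G ≃* Matrix.ProjectiveSpecialLinearGroup (Fin 2) F) := by
  have hm : Nat.card (T : Subgroup G) = 2 ^ (Nat.card G).factorization 2 :=
    Sylow.card_eq_multiplicity T
  have hm0 : (Nat.card G).factorization 2 ≠ 0 := by
    intro h0
    rw [h0, pow_zero] at hm
    omega
  let instFF : Fintype (GaloisField 2 ((Nat.card G).factorization 2)) := Fintype.ofFinite _
  have hcard : Fintype.card (GaloisField 2 ((Nat.card G).factorization 2)) =
      Nat.card (T : Subgroup G) := by
    rw [← Nat.card_eq_fintype_card, GaloisField.card 2 _ hm0, hm]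
  exact ⟨GaloisField 2 ((Nat.card G).factorization 2), inferInstance, instFF, hcard,
    cit_psl2_of_card hC T hq hn1 hcard⟩

end Cfsg.Agent.Lib.Helper23
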