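import Mathlib
import Cfsg.Agent.S0183
import Cfsg.Agent.S0252
import Cfsg.Agent.Lib.Helper23.CitMain
import Cfsg.Agent.Lib.Helper23.EpoBurn
import Cfsg.Agent.Lib.Helper6.PSLCard
import Cfsg.Agent.Lib.Helper79.EpoNT
import Cfsg.Agent.Lib.Helper79.EpoOrd9
import Cfsg.Agent.Lib.Helper40.EpoSyl2
import Cfsg.Agent.Lib.Helper40.EpoOrd

set_option autoImplicit false

namespace Cfsg.Agent.Lib.Helper23


/-- Automorphism orbits: at most as many element orders as orbits. -/
theorem epo_orders_of_orbits {G : Type*} [Group G] [Finite G]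
    (h4 : Nat.card (MulAction.orbitRel.Quotient (MulAut G) G) = 4) :
    (Set.range (orderOf : G → ℕ)).ncard ≤ 4 := by
  classical
  let f : MulAction.orbitRel.Quotient (MulAut G) G → ℕ :=
    Quotient.lift (orderOf : G → ℕ) (by
      intro a b hab
      obtain ⟨α, rfl⟩ := hab
      exact MulEquiv.orderOf_eq α b)
  have hrange : Set.range (orderOf : G → ℕ) = Set.range f := by
    ext n
    constructor
    · rintro ⟨x, rfl⟩
      exact ⟨Quotient.mk'' x, rfl⟩
    · rintro ⟨q, rfl⟩
      induction q using Quotient.inductionOn' with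
      | _ x => exact ⟨x, rfl⟩
  rw [hrange, ← h4]
  have : Finite (MulAction.orbitRel.Quotient (MulAut G) G) := by
    apply Nat.finite_of_card_ne_zero
    rw [h4]
    norm_num
  rw [← Nat.card_coe_set_eq]
  exact Finite.card_range_le f

/-- If every non-identity element has prime order then every centraliser is a `p`-group. -/
theorem epo_cn {G : Type*} [Group G] [Finite G]
    (hpr : ∀ x : G, x ≠ 1 → (orderOf x).Prime) : Cfsg.IsCNGroup G := by
  intro g hg
  have hp := hpr g hg
  have : Fact (orderOf g).Prime := ⟨hp⟩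
  have hP : IsPGroup (orderOf g) (Subgroup.centralizer ({g} : Set G)) := by
    intro y
    by_cases hy : (y : G) = 1
    · exact ⟨0, by ext; simpa using hy⟩
    · have hq := hpr y hy
      by_cases hpq : orderOf (y : G) = orderOf g
      · refine ⟨1, ?_⟩
        ext
        rw [pow_one]
        push_cast
        rw [← hpq]
        exact pow_orderOf_eq_one _
      · exfalso
        have hcomm : Commute g (y : G) := by
          have := y.2
          rw [Subgroup.mem_centralizer_iff] at this
          exact (this g rfl)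
        have hcop : (orderOf g).Coprime (orderOf (y : G)) :=
          (Nat.coprime_primes hp hq).2 (Ne.symm hpq)
        have ho := hcomm.orderOf_mul_eq_mul_orderOf_of_coprime hcop
        have hne : g * (y : G) ≠ 1 := by
          intro h1
          rw [h1, orderOf_one] at ho
          have := hp.two_le
          have := hq.two_le
          nlinarith
        have := hpr _ hne
        rw [ho] at this
        exact Nat.not_prime_mul hp.one_lt.ne' hq.one_lt.ne' this
  exact hP.isNilpotent

theorem epo_even {G : Type*} [Group G] [Finite G] (hns : ¬ Group.IsSolvable G)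
    (hpr : ∀ x : G, x ≠ 1 → (orderOf x).Prime) : 2 ∣ Nat.card G := by
  by_contra h
  have hodd : Odd (Nat.card G) := by
    rw [Nat.odd_iff]
    omega
  exact hns (Cfsg.Agent.S0183.result hodd (epo_cn hpr))

theorem epo_invCent {G : Type*} [Group G] [Finite G]
    (hpr : ∀ x : G, x ≠ 1 → (orderOf x).Prime) : InvCentElem G := by
  intro t c ht ht2 hct
  by_contra hc2
  have hc1 : c ≠ 1 := by
    rintro rfl
    exact hc2 (one_pow 2)
  have hot : orderOf t = 2 := orderOf_eq_prime ht2 ht
  have hq := hpr c hc1
  have hne2 : orderOf c ≠ 2 := fun h => hc2 (by rw [← h]; exact pow_orderOf_eq_one c)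
  have hcop : (orderOf t).Coprime (orderOf c) := by
    rw [hot]
    exact (Nat.coprime_primes Nat.prime_two hq).2 (Ne.symm hne2)
  have hcomm : Commute t c := hct.symm
  have ho := hcomm.orderOf_mul_eq_mul_orderOf_of_coprime hcop
  have hne : t * c ≠ 1 := by
    intro h1
    rw [h1, orderOf_one, hot] at ho
    have := hq.two_le
    omega
  have := hpr _ hne
  rw [ho, hot] at this
  exact Nat.not_prime_mul (by norm_num) hq.one_lt.ne' this

/-- A non-solvable finite group all of whose non-identity elements have prime order, with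
exactly three prime divisors of its order, is `A₅`. -/
theorem epo_main {G : Type*} [Group G] [Finite G] (hns : ¬ Group.IsSolvable G)
    (hpr : ∀ x : G, x ≠ 1 → (orderOf x).Prime) (h3 : (Nat.card G).primeFactors.card = 3) :
    Nonempty (G ≃* alternatingGroup (Fin 5)) := by
  classical
  have h2 := epo_even hns hpr
  have : Fact (Nat.Prime 2) := ⟨Nat.prime_two⟩
  obtain ⟨T⟩ : Nonempty (Sylow 2 G) := inferInstance
  obtain ⟨hT2, hn1⟩ := epo_sylow_two hns h3.le h2 T
  obtain ⟨F, instF, instFin, hcardF, ⟨e⟩⟩ := cit_psl2_galois (epo_invCent hpr) T hT2 hn1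
  have hTa : Nat.card (T : Subgroup G) = 2 ^ (Nat.card G).factorization 2 :=
    Sylow.card_eq_multiplicity T
  generalize (Nat.card G).factorization 2 = a at hTa
  have ha2 : 2 ≤ a := by
    by_contra hlt
    have : a = 0 ∨ a = 1 := by omega
    rcases this with h | h <;> simp only [h, pow_zero, pow_one] at hTa <;> omega
  have hF : Fintype.card F = 2 ^ a := hcardF.trans hTa
  have hcG : Nat.card G = 2 ^ a * ((2 ^ a) ^ 2 - 1) := by
    have h1 := Cfsg.Agent.Lib.Helper6.card_psl hF 2 (by norm_num)
    rw [Fin.prod_univ_two] at h1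
    rw [Nat.card_congr e.toEquiv]
    have h4 : 4 ≤ 2 ^ a := by
      calc 4 = 2 ^ 2 := by norm_num
        _ ≤ 2 ^ a := Nat.pow_le_pow_right (by norm_num) ha2
    have heven : 2 ∣ 2 ^ a := dvd_pow_self 2 (by omega)
    obtain ⟨m, hm⟩ : ∃ m, 2 ^ a = m + 2 := ⟨2 ^ a - 2, by omega⟩
    rw [hm] at h1 heven ⊢
    have e1 : (m + 2) ^ 2 - 1 = (m + 1) * (m + 3) := by
      have : (m + 2) ^ 2 = (m + 1) * (m + 3) + 1 := by ring
      omega
    have e2 : (m + 2) ^ 2 - (m + 2) = (m + 1) * (m + 2) := by
      have : (m + 2) ^ 2 = (m + 1) * (m + 2) + (m + 2) := by ring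
      omega
    have e3 : m + 2 - 1 = m + 1 := by omega
    have hg : Nat.gcd 2 (m + 1) = 1 := by
      have hodd : ¬ 2 ∣ m + 1 := by omega
      exact (Nat.Prime.coprime_iff_not_dvd Nat.prime_two).2 hodd
    simp only [Fin.val_zero, Fin.val_one, pow_zero, pow_one] at h1
    rw [e1, e2, e3, hg, one_mul] at h1
    rw [e1]
    have hpos : 0 < m + 1 := by omega
    apply Nat.eq_of_mul_eq_mul_left hpos
    rw [h1]
    ring
  have h3' : (2 ^ a * ((2 ^ a) ^ 2 - 1)).primeFactors.card = 3 := by
    rw [← hcG]
    exact h3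
  rcases epo_two_pow_three_primes a ha2 h3' with h | h
  · have hF4 : Fintype.card F = 4 := by
      rw [hF, h]
      norm_num
    obtain ⟨e2⟩ := Cfsg.Agent.S0252.result hF4
    exact ⟨e.trans e2⟩
  · exfalso
    have hF8 : Fintype.card F = 8 := by
      rw [hF, h]
      norm_num
    obtain ⟨g, hg⟩ := epo_psl2_eight_order_nine hF8
    have hg1 : e.symm g ≠ 1 := by
      intro h1
      have : orderOf (e.symm g) = 1 := by rw [h1, orderOf_one]
      rw [MulEquiv.orderOf_eq, hg] at this
      omega
    have := hpr (e.symm g) hg1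
    rw [MulEquiv.orderOf_eq, hg] at this
    norm_num at this

/-- The S4068 statement. -/
theorem epo_aut_orbits {G : Type*} [Group G] [Finite G] (hns : ¬ Group.IsSolvable G)
    (h4 : Nat.card (MulAction.orbitRel.Quotient (MulAut G) G) = 4) :
    Nonempty (G ≃* alternatingGroup (Fin 5)) := by
  obtain ⟨hpr, h3⟩ := epo_of_orders hns (epo_orders_of_orbits h4)
  exact epo_main hns hpr h3

end Cfsg.Agent.Lib.Helper23
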