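import Mathlib
import Cfsg.Agent.Lib.Helper35.Virt

namespace Cfsg.Agent.Lib.Helper23

theorem three_square {ι : Type*} [Fintype ι] [DecidableEq ι] (c : ι → ℤ)
    (h : ∑ i, c i ^ 2 = 3) :
    ∃ i j k, i ≠ j ∧ i ≠ k ∧ j ≠ k ∧ (c i = 1 ∨ c i = -1) ∧ (c j = 1 ∨ c j = -1) ∧
      (c k = 1 ∨ c k = -1) ∧ ∀ l, l ≠ i → l ≠ j → l ≠ k → c l = 0 := by
  classical
  have hex : ∃ i, c i ≠ 0 := by
    by_contra hno
    push Not at hno
    simp [hno] at h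
  obtain ⟨i, hi⟩ := hex
  have hsplit := Finset.add_sum_erase Finset.univ (fun i => c i ^ 2) (Finset.mem_univ i)
  rw [h] at hsplit
  have hnn : 0 ≤ ∑ x ∈ Finset.univ.erase i, c x ^ 2 := Finset.sum_nonneg fun _ _ => sq_nonneg _
  have hci : c i = 1 ∨ c i = -1 := by
    have h1 : c i ^ 2 ≤ 3 := by linarith
    have h2 : -1 ≤ c i := by
      by_contra hlt
      push Not at hlt
      nlinarith
    have h3 : c i ≤ 1 := by
      by_contra hlt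
      push Not at hlt
      nlinarith
    omega
  have hci2 : c i ^ 2 = 1 := by
    rcases hci with h | h <;> rw [h] <;> norm_num
  have h2sum : ∑ x, (if x = i then 0 else c x) ^ 2 = 2 := by
    rw [← Finset.add_sum_erase Finset.univ _ (Finset.mem_univ i), if_pos rfl]
    have : ∑ x ∈ Finset.univ.erase i, (if x = i then 0 else c x) ^ 2 =
        ∑ x ∈ Finset.univ.erase i, c x ^ 2 :=
      Finset.sum_congr rfl fun x hx => by rw [if_neg (Finset.ne_of_mem_erase hx)]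
    rw [this]
    linarith
  obtain ⟨j, k, hjk, hcj, hck, hrest⟩ := Cfsg.Agent.Lib.Helper35.two_square _ h2sum
  have hji : j ≠ i := by
    rintro rfl
    simp at hcj
  have hki : k ≠ i := by
    rintro rfl
    simp at hck
  refine ⟨i, j, k, hji.symm, hki.symm, hjk, hci, by simpa [hji] using hcj,
    by simpa [hki] using hck, ?_⟩
  intro l hli hlj hlk
  have := hrest l hlj hlk
  simpa [hli] using this

/-- Splitting four distinct indices off a finite sum. -/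
theorem sum_split_four {I : Type*} [Fintype I] [DecidableEq I] (one χ₁ χ₂ χ₃ : I)
    (h1 : χ₁ ≠ one) (h2 : χ₂ ≠ one) (h3 : χ₃ ≠ one) (h12 : χ₁ ≠ χ₂) (h13 : χ₁ ≠ χ₃)
    (h23 : χ₂ ≠ χ₃) (F : I → ℤ) :
    ∑ i, F i = F one + F χ₁ + F χ₂ + F χ₃ +
      ∑ i ∈ (((Finset.univ.erase one).erase χ₁).erase χ₂).erase χ₃, F i := by
  rw [← Finset.add_sum_erase _ _ (Finset.mem_univ one),
    ← Finset.add_sum_erase _ _ (show χ₁ ∈ Finset.univ.erase one from by simp [h1]),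
    ← Finset.add_sum_erase _ _ (show χ₂ ∈ (Finset.univ.erase one).erase χ₁ from by
      simp [h2, h12.symm]),
    ← Finset.add_sum_erase _ _ (show χ₃ ∈ ((Finset.univ.erase one).erase χ₁).erase χ₂ from by
      simp [h3, h13.symm, h23.symm])]
  ring

theorem mem_rest_four_iff {I : Type*} [Fintype I] [DecidableEq I] (one χ₁ χ₂ χ₃ i : I) :
    i ∈ (((Finset.univ.erase one).erase χ₁).erase χ₂).erase χ₃ ↔
      i ≠ one ∧ i ≠ χ₁ ∧ i ≠ χ₂ ∧ i ≠ χ₃ := by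
  simp only [Finset.mem_erase, Finset.mem_univ, and_true]
  tauto

/-- The shape of the vector `a l₁`. -/
def Exc3Data {I Λ : Type*} (a : Λ → I → ℤ) (one : I) (l₁ : Λ) (χ₁ χ₂ χ₃ : I)
    (s₁ s₂ s₃ : ℤ) : Prop :=
  χ₁ ≠ one ∧ χ₂ ≠ one ∧ χ₃ ≠ one ∧ χ₁ ≠ χ₂ ∧ χ₁ ≠ χ₃ ∧ χ₂ ≠ χ₃ ∧
  (s₁ = 1 ∨ s₁ = -1) ∧ (s₂ = 1 ∨ s₂ = -1) ∧ (s₃ = 1 ∨ s₃ = -1) ∧
  a l₁ χ₁ = s₁ ∧ a l₁ χ₂ = s₂ ∧ a l₁ χ₃ = s₃ ∧
  ∀ i, i ≠ one → i ≠ χ₁ → i ≠ χ₂ → i ≠ χ₃ → a l₁ i = 0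

theorem Exc3Data.swap12 {I Λ : Type*} {a : Λ → I → ℤ} {one : I} {l₁ : Λ} {χ₁ χ₂ χ₃ : I}
    {s₁ s₂ s₃ : ℤ} (h : Exc3Data a one l₁ χ₁ χ₂ χ₃ s₁ s₂ s₃) :
    Exc3Data a one l₁ χ₂ χ₁ χ₃ s₂ s₁ s₃ := by
  obtain ⟨h1, h2, h3, h12, h13, h23, hs1, hs2, hs3, ha1, ha2, ha3, hz⟩ := h
  exact ⟨h2, h1, h3, h12.symm, h23, h13, hs2, hs1, hs3, ha2, ha1, ha3,
    fun i hi h2' h1' h3' => hz i hi h1' h2' h3'⟩

theorem Exc3Data.rot {I Λ : Type*} {a : Λ → I → ℤ} {one : I} {l₁ : Λ} {χ₁ χ₂ χ₃ : I}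
    {s₁ s₂ s₃ : ℤ} (h : Exc3Data a one l₁ χ₁ χ₂ χ₃ s₁ s₂ s₃) :
    Exc3Data a one l₁ χ₂ χ₃ χ₁ s₂ s₃ s₁ := by
  obtain ⟨h1, h2, h3, h12, h13, h23, hs1, hs2, hs3, ha1, ha2, ha3, hz⟩ := h
  exact ⟨h2, h3, h1, h23, h12.symm, h13.symm, hs2, hs3, hs1, ha2, ha3, ha1,
    fun i hi h2' h3' h1' => hz i hi h1' h2' h3'⟩

theorem Exc3Data.swap23 {I Λ : Type*} {a : Λ → I → ℤ} {one : I} {l₁ : Λ} {χ₁ χ₂ χ₃ : I}
    {s₁ s₂ s₃ : ℤ} (h : Exc3Data a one l₁ χ₁ χ₂ χ₃ s₁ s₂ s₃) :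
    Exc3Data a one l₁ χ₁ χ₃ χ₂ s₁ s₃ s₂ := by
  obtain ⟨h1, h2, h3, h12, h13, h23, hs1, hs2, hs3, ha1, ha2, ha3, hz⟩ := h
  exact ⟨h1, h3, h2, h13, h12, h23.symm, hs1, hs3, hs2, ha1, ha3, ha2,
    fun i hi h1' h3' h2' => hz i hi h1' h2' h3'⟩

section Three

variable {I Λ : Type*} [Fintype I] [DecidableEq I] [Fintype Λ] [DecidableEq Λ]
  (a : Λ → I → ℤ) (d : I → ℤ) (one : I) (R : Λ → Λ → Prop) [DecidableRel R]

theorem exc3_norm (hgram : ∀ l l', ∑ i, a l i * a l' i = 3 + (if R l l' then 1 else 0))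
    (hR : ∀ l, R l l) (l : Λ) : ∑ i, a l i ^ 2 = 4 := by
  have h := hgram l l
  rw [if_pos (hR l)] at h
  simp_rw [pow_two]
  linarith

/-- The possible restrictions of `a l` to the support of `a l₁`. -/
theorem exc3_types (ha1 : ∀ l, a l one = 1)
    (hgram : ∀ l l', ∑ i, a l i * a l' i = 3 + (if R l l' then 1 else 0))
    (hR : ∀ l, R l l) {l₁ : Λ} {χ₁ χ₂ χ₃ : I} {s₁ s₂ s₃ : ℤ}
    (hD : Exc3Data a one l₁ χ₁ χ₂ χ₃ s₁ s₂ s₃) (l : Λ) :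
    (R l₁ l ∧ a l χ₁ = s₁ ∧ a l χ₂ = s₂ ∧ a l χ₃ = s₃) ∨
    (¬ R l₁ l ∧ ((a l χ₁ = 0 ∧ a l χ₂ = s₂ ∧ a l χ₃ = s₃) ∨
      (a l χ₁ = s₁ ∧ a l χ₂ = 0 ∧ a l χ₃ = s₃) ∨
      (a l χ₁ = s₁ ∧ a l χ₂ = s₂ ∧ a l χ₃ = 0))) := by
  obtain ⟨h1, h2, h3, h12, h13, h23, hs1, hs2, hs3, hb1, hb2, hb3, hz⟩ := hD
  have hsp : ∑ i, a l₁ i * a l i = 1 + s₁ * a l χ₁ + s₂ * a l χ₂ + s₃ * a l χ₃ := by
    rw [sum_split_four one χ₁ χ₂ χ₃ h1 h2 h3 h12 h13 h23, ha1, ha1, hb1, hb2, hb3,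
      Finset.sum_eq_zero]
    · ring
    · intro i hi
      rw [mem_rest_four_iff] at hi
      rw [hz i hi.1 hi.2.1 hi.2.2.1 hi.2.2.2, zero_mul]
  have hsq : a l χ₁ ^ 2 + a l χ₂ ^ 2 + a l χ₃ ^ 2 ≤ 3 := by
    have hn := exc3_norm a R hgram hR l
    rw [sum_split_four one χ₁ χ₂ χ₃ h1 h2 h3 h12 h13 h23, ha1] at hn
    have h0 : 0 ≤ ∑ i ∈ (((Finset.univ.erase one).erase χ₁).erase χ₂).erase χ₃, a l i ^ 2 :=
      Finset.sum_nonneg fun i _ => sq_nonneg _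
    linarith
  rw [hgram l₁ l] at hsp
  -- work with `u_j = s_j * a l χ_j`
  have hs1' : s₁ * s₁ = 1 := by rcases hs1 with h | h <;> rw [h] <;> norm_num
  have hs2' : s₂ * s₂ = 1 := by rcases hs2 with h | h <;> rw [h] <;> norm_num
  have hs3' : s₃ * s₃ = 1 := by rcases hs3 with h | h <;> rw [h] <;> norm_num
  have hx1 : a l χ₁ = s₁ * (s₁ * a l χ₁) := by rw [← mul_assoc, hs1', one_mul]
  have hx2 : a l χ₂ = s₂ * (s₂ * a l χ₂) := by rw [← mul_assoc, hs2', one_mul]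
  have hx3 : a l χ₃ = s₃ * (s₃ * a l χ₃) := by rw [← mul_assoc, hs3', one_mul]
  have hu1 : (s₁ * a l χ₁) ^ 2 = a l χ₁ ^ 2 := by rw [mul_pow, pow_two s₁, hs1', one_mul]
  have hu2 : (s₂ * a l χ₂) ^ 2 = a l χ₂ ^ 2 := by rw [mul_pow, pow_two s₂, hs2', one_mul]
  have hu3 : (s₃ * a l χ₃) ^ 2 = a l χ₃ ^ 2 := by rw [mul_pow, pow_two s₃, hs3', one_mul]
  generalize s₁ * a l χ₁ = u₁ at hsp hx1 hu1
  generalize s₂ * a l χ₂ = u₂ at hsp hx2 hu2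
  generalize s₃ * a l χ₃ = u₃ at hsp hx3 hu3
  rw [← hu1, ← hu2, ← hu3] at hsq
  by_cases hRl : R l₁ l
  · left
    rw [if_pos hRl] at hsp
    have e1 : u₁ = 1 := by nlinarith [sq_nonneg (u₁ - 1), sq_nonneg (u₂ - 1), sq_nonneg (u₃ - 1)]
    have e2 : u₂ = 1 := by nlinarith [sq_nonneg (u₁ - 1), sq_nonneg (u₂ - 1), sq_nonneg (u₃ - 1)]
    have e3 : u₃ = 1 := by nlinarith [sq_nonneg (u₁ - 1), sq_nonneg (u₂ - 1), sq_nonneg (u₃ - 1)]
    refine ⟨hRl, ?_, ?_, ?_⟩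
    · rw [hx1, e1, mul_one]
    · rw [hx2, e2, mul_one]
    · rw [hx3, e3, mul_one]
  · right
    rw [if_neg hRl] at hsp
    refine ⟨hRl, ?_⟩
    have b1l : 0 ≤ u₁ := by
      nlinarith [sq_nonneg (u₁ - 1), sq_nonneg (u₂ - 1), sq_nonneg (u₃ - 1)]
    have b2l : 0 ≤ u₂ := by
      nlinarith [sq_nonneg (u₁ - 1), sq_nonneg (u₂ - 1), sq_nonneg (u₃ - 1)]
    have b3l : 0 ≤ u₃ := by
      nlinarith [sq_nonneg (u₁ - 1), sq_nonneg (u₂ - 1), sq_nonneg (u₃ - 1)]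
    have c1 : u₁ ≤ 1 := by
      by_contra hh
      push Not at hh
      nlinarith [sq_nonneg u₂, sq_nonneg u₃]
    have c2 : u₂ ≤ 1 := by
      by_contra hh
      push Not at hh
      nlinarith [sq_nonneg u₁, sq_nonneg u₃]
    have c3 : u₃ ≤ 1 := by
      by_contra hh
      push Not at hh
      nlinarith [sq_nonneg u₁, sq_nonneg u₂]
    have hcases : (u₁ = 0 ∧ u₂ = 1 ∧ u₃ = 1) ∨ (u₁ = 1 ∧ u₂ = 0 ∧ u₃ = 1) ∨
        (u₁ = 1 ∧ u₂ = 1 ∧ u₃ = 0) := by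
      omega
    rcases hcases with ⟨e1, e2, e3⟩ | ⟨e1, e2, e3⟩ | ⟨e1, e2, e3⟩
    · left
      exact ⟨by rw [hx1, e1, mul_zero], by rw [hx2, e2, mul_one], by rw [hx3, e3, mul_one]⟩
    · right; left
      exact ⟨by rw [hx1, e1, mul_one], by rw [hx2, e2, mul_zero], by rw [hx3, e3, mul_one]⟩
    · right; right
      exact ⟨by rw [hx1, e1, mul_one], by rw [hx2, e2, mul_one], by rw [hx3, e3, mul_zero]⟩

/-- Two vectors differing by `±1` at two places agree elsewhere. -/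
theorem exc3_agree (hgram : ∀ l l', ∑ i, a l i * a l' i = 3 + (if R l l' then 1 else 0))
    (hR : ∀ l, R l l) (l l' : Λ) (χ χ' : I) (hne : χ ≠ χ')
    (h1 : (a l χ - a l' χ) ^ 2 = 1) (h2 : (a l χ' - a l' χ') ^ 2 = 1) (i : I) (hi : i ≠ χ)
    (hi' : i ≠ χ') : a l i = a l' i := by
  have hn : ∑ i, (a l i - a l' i) ^ 2 ≤ 2 := by
    have e : ∑ i, (a l i - a l' i) ^ 2 =
        ∑ i, a l i ^ 2 + ∑ i, a l' i ^ 2 - 2 * ∑ i, a l i * a l' i := by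
      rw [Finset.mul_sum, ← Finset.sum_add_distrib, ← Finset.sum_sub_distrib]
      refine Finset.sum_congr rfl fun i _ => ?_
      ring
    rw [e, exc3_norm a R hgram hR l, exc3_norm a R hgram hR l', hgram l l']
    split_ifs <;> norm_num
  rw [← Finset.add_sum_erase _ _ (Finset.mem_univ χ),
    ← Finset.add_sum_erase _ _ (show χ' ∈ Finset.univ.erase χ from by simp [hne.symm]),
    h1, h2] at hn
  have h0 : ∑ i ∈ (Finset.univ.erase χ).erase χ', (a l i - a l' i) ^ 2 = 0 := by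
    have : 0 ≤ ∑ i ∈ (Finset.univ.erase χ).erase χ', (a l i - a l' i) ^ 2 :=
      Finset.sum_nonneg fun i _ => sq_nonneg _
    linarith
  have hz := (Finset.sum_eq_zero_iff_of_nonneg (fun i _ => sq_nonneg _)).mp h0 i
    (by simp [hi, hi'])
  have := pow_eq_zero_iff (two_ne_zero) |>.mp hz
  linarith

theorem exc3_same (hgram : ∀ l l', ∑ i, a l i * a l' i = 3 + (if R l l' then 1 else 0))
    (hR : ∀ l, R l l) (x y : Λ) (h : ∀ i, a x i = a y i) : R x y := by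
  have h1 := hgram x y
  have h2 := hgram x x
  rw [if_pos (hR x)] at h2
  have h3 : ∑ i, a x i * a y i = ∑ i, a x i * a x i :=
    Finset.sum_congr rfl fun i _ => by rw [h i]
  rw [h3, h2] at h1
  by_contra hno
  rw [if_neg hno] at h1
  norm_num at h1

/-- A mixed configuration forces `Λ` to be small. -/
theorem exc3_mixed (ha1 : ∀ l, a l one = 1)
    (hgram : ∀ l l', ∑ i, a l i * a l' i = 3 + (if R l l' then 1 else 0))
    (hR : ∀ l, R l l) (hRcard : ∀ l, (Finset.univ.filter (fun l' => R l l')).card = 3)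
    {l₁ : Λ} {χ₁ χ₂ χ₃ : I} {s₁ s₂ s₃ : ℤ}
    (hD : Exc3Data a one l₁ χ₁ χ₂ χ₃ s₁ s₂ s₃) (l l' : Λ)
    (hl : a l χ₁ = s₁ ∧ a l χ₂ = s₂ ∧ a l χ₃ = 0)
    (hl' : a l' χ₁ = 0 ∧ a l' χ₂ = s₂ ∧ a l' χ₃ = s₃) : Fintype.card Λ ≤ 12 := by
  have hDD := hD
  obtain ⟨h1, h2, h3, h12, h13, h23, hs1, hs2, hs3, hb1, hb2, hb3, hz⟩ := hD
  have hs1' : s₁ ^ 2 = 1 := by rcases hs1 with h | h <;> rw [h] <;> norm_num
  have hs2' : s₂ ^ 2 = 1 := by rcases hs2 with h | h <;> rw [h] <;> norm_num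
  have hs3' : s₃ ^ 2 = 1 := by rcases hs3 with h | h <;> rw [h] <;> norm_num
  -- the type-2 vectors are all equal
  have htype2 : ∀ x : Λ, a x χ₁ = s₁ → a x χ₂ = 0 → a x χ₃ = s₃ →
      ∀ i, a x i = if i = χ₂ then 0 else if i = χ₃ then s₃ else a l i := by
    intro x hx1 hx2 hx3 i
    by_cases hi2 : i = χ₂
    · rw [if_pos hi2, hi2, hx2]
    · by_cases hi3 : i = χ₃
      · rw [if_neg hi2, if_pos hi3, hi3, hx3]
      · rw [if_neg hi2, if_neg hi3]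
        exact exc3_agree a R hgram hR x l χ₂ χ₃ h23
          (by rw [hx2, hl.2.1]; simpa using hs2') (by rw [hx3, hl.2.2]; simpa using hs3') i hi2 hi3
  have hmem : ∀ (l₀ : Λ), (a l₀ χ₁ = s₁ ∧ a l₀ χ₂ = 0 ∧ a l₀ χ₃ = s₃ ∨
      ∀ x : Λ, ¬ (a x χ₁ = s₁ ∧ a x χ₂ = 0 ∧ a x χ₃ = s₃)) →
      ∀ x : Λ, x ∈ Finset.univ.filter (fun l' => R l₁ l') ∪
        Finset.univ.filter (fun l' => R l l') ∪ Finset.univ.filter (fun l'' => R l' l'') ∪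
        Finset.univ.filter (fun l'' => R l₀ l'') := by
    intro l₀ hl₀ x
    simp only [Finset.mem_union, Finset.mem_filter, Finset.mem_univ, true_and]
    have hagree : ∀ y : Λ, a y χ₁ = 0 → a y χ₃ = s₃ → ∀ i, i ≠ χ₁ → i ≠ χ₃ → a l i = a y i := by
      intro y hy1 hy3 i hi1 hi3
      exact exc3_agree a R hgram hR l y χ₁ χ₃ h13
        (by rw [hl.1, hy1]; simpa using hs1') (by rw [hl.2.2, hy3]; simpa using hs3') i hi1 hi3
    rcases exc3_types a one R ha1 hgram hR hDD x with ⟨hRx, -⟩ | ⟨-, hx | hx | hx⟩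
    · exact Or.inl (Or.inl (Or.inl hRx))
    · -- type 1: equal to `a l'`
      left; right
      apply exc3_same a R hgram hR
      intro i
      by_cases hi1 : i = χ₁
      · rw [hi1, hl'.1, hx.1]
      · by_cases hi3 : i = χ₃
        · rw [hi3, hl'.2.2, hx.2.2]
        · rw [← hagree l' hl'.1 hl'.2.2 i hi1 hi3, ← hagree x hx.1 hx.2.2 i hi1 hi3]
    · -- type 2: equal to `a l₀`
      right
      rcases hl₀ with h0 | h0
      · apply exc3_same a R hgram hR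
        intro i
        rw [htype2 l₀ h0.1 h0.2.1 h0.2.2 i, htype2 x hx.1 hx.2.1 hx.2.2 i]
      · exact (h0 x hx).elim
    · -- type 3: equal to `a l`
      left; left; right
      apply exc3_same a R hgram hR
      intro i
      by_cases hi1 : i = χ₁
      · rw [hi1, hl.1, hx.1]
      · by_cases hi3 : i = χ₃
        · rw [hi3, hl.2.2, hx.2.2]
        · have e1 := hagree l' hl'.1 hl'.2.2 i hi1 hi3
          have e2 := exc3_agree a R hgram hR x l' χ₁ χ₃ h13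
            (by rw [hx.1, hl'.1]; simpa using hs1') (by rw [hx.2.2, hl'.2.2]; simpa using hs3')
            i hi1 hi3
          rw [e1, e2]
  have hbound : ∀ l₀ : Λ, (a l₀ χ₁ = s₁ ∧ a l₀ χ₂ = 0 ∧ a l₀ χ₃ = s₃ ∨
      ∀ x : Λ, ¬ (a x χ₁ = s₁ ∧ a x χ₂ = 0 ∧ a x χ₃ = s₃)) → Fintype.card Λ ≤ 12 := by
    intro l₀ hl₀
    have hsub : (Finset.univ : Finset Λ) ⊆ Finset.univ.filter (fun l' => R l₁ l') ∪
        Finset.univ.filter (fun l' => R l l') ∪ Finset.univ.filter (fun l'' => R l' l'') ∪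
        Finset.univ.filter (fun l'' => R l₀ l'') := fun x _ => hmem l₀ hl₀ x
    have hc := Finset.card_le_card hsub
    rw [Finset.card_univ] at hc
    have u1 := Finset.card_union_le (Finset.univ.filter (fun l' => R l₁ l') ∪
        Finset.univ.filter (fun l' => R l l') ∪ Finset.univ.filter (fun l'' => R l' l''))
        (Finset.univ.filter (fun l'' => R l₀ l''))
    have u2 := Finset.card_union_le (Finset.univ.filter (fun l' => R l₁ l') ∪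
        Finset.univ.filter (fun l' => R l l')) (Finset.univ.filter (fun l'' => R l' l''))
    have u3 := Finset.card_union_le (Finset.univ.filter (fun l' => R l₁ l'))
        (Finset.univ.filter (fun l' => R l l'))
    have e1 := hRcard l₁
    have e2 := hRcard l
    have e3 := hRcard l'
    have e4 := hRcard l₀
    omega
  by_cases hex : ∃ l₀ : Λ, a l₀ χ₁ = s₁ ∧ a l₀ χ₂ = 0 ∧ a l₀ χ₃ = s₃
  · obtain ⟨l₀, h0⟩ := hex
    exact hbound l₀ (Or.inl h0)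
  · push Not at hex
    exact hbound l₁ (Or.inr (fun x hx => hex x hx.1 hx.2.1 hx.2.2))

/-- The main case: some `l` is of type 3. -/
theorem exc3_main (hd1 : d one = 1) (ha1 : ∀ l, a l one = 1)
    (hgram : ∀ l l', ∑ i, a l i * a l' i = 3 + (if R l l' then 1 else 0))
    (hR : ∀ l, R l l) (hRcard : ∀ l, (Finset.univ.filter (fun l' => R l l')).card = 3)
    (hdeg : ∀ l, ∑ i, a l i * d i = 0) (hcard : 12 < Fintype.card Λ)
    {l₁ : Λ} {χ₁ χ₂ χ₃ : I} {s₁ s₂ s₃ : ℤ}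
    (hD : Exc3Data a one l₁ χ₁ χ₂ χ₃ s₁ s₂ s₃) (l : Λ) (hRl : ¬ R l₁ l)
    (hl : a l χ₁ = s₁ ∧ a l χ₂ = s₂ ∧ a l χ₃ = 0) :
    ∃ (χ₁ χ₂ χ₃ : I) (s₁ s₂ s₃ : ℤ), χ₁ ≠ one ∧ χ₂ ≠ one ∧ χ₃ ≠ one ∧
      (s₁ = 1 ∨ s₁ = -1) ∧ (s₂ = 1 ∨ s₂ = -1) ∧ (s₃ = 1 ∨ s₃ = -1) ∧
      1 + s₁ * d χ₁ + s₂ * d χ₂ + s₃ * d χ₃ = 0 ∧ (∀ l, a l χ₁ = s₁) ∧ (∀ l, a l χ₂ = s₂) ∧
      ∑ l, a l χ₃ = 3 * s₃ := by
  have hDD := hD
  obtain ⟨h1, h2, h3, h12, h13, h23, hs1, hs2, hs3, hb1, hb2, hb3, hz⟩ := hD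
  have hdegeq : 1 + s₁ * d χ₁ + s₂ * d χ₂ + s₃ * d χ₃ = 0 := by
    have := hdeg l₁
    rw [sum_split_four one χ₁ χ₂ χ₃ h1 h2 h3 h12 h13 h23, ha1, hb1, hb2, hb3, hd1,
      Finset.sum_eq_zero] at this
    · linarith
    · intro i hi
      rw [mem_rest_four_iff] at hi
      rw [hz i hi.1 hi.2.1 hi.2.2.1 hi.2.2.2, zero_mul]
  have hall : ∀ x : Λ, (R l₁ x ∧ a x χ₁ = s₁ ∧ a x χ₂ = s₂ ∧ a x χ₃ = s₃) ∨
      (¬ R l₁ x ∧ a x χ₁ = s₁ ∧ a x χ₂ = s₂ ∧ a x χ₃ = 0) := by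
    intro x
    rcases exc3_types a one R ha1 hgram hR hDD x with hx | ⟨hRx, hx | hx | hx⟩
    · exact Or.inl hx
    · exfalso
      have := exc3_mixed a one R ha1 hgram hR hRcard hDD l x hl hx
      omega
    · exfalso
      have := exc3_mixed a one R ha1 hgram hR hRcard hDD.swap12 l x ⟨hl.2.1, hl.1, hl.2.2⟩
        ⟨hx.2.1, hx.1, hx.2.2⟩
      omega
    · exact Or.inr ⟨hRx, hx⟩
  refine ⟨χ₁, χ₂, χ₃, s₁, s₂, s₃, h1, h2, h3, hs1, hs2, hs3, hdegeq, ?_, ?_, ?_⟩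
  · intro x
    rcases hall x with hx | hx
    · exact hx.2.1
    · exact hx.2.1
  · intro x
    rcases hall x with hx | hx
    · exact hx.2.2.1
    · exact hx.2.2.1
  · have hval : ∀ x : Λ, a x χ₃ = if R l₁ x then s₃ else 0 := by
      intro x
      rcases hall x with hx | hx
      · rw [if_pos hx.1, hx.2.2.2]
      · rw [if_neg hx.1, hx.2.2.2]
    rw [Finset.sum_congr rfl (fun x _ => hval x), Finset.sum_ite, Finset.sum_const,
      Finset.sum_const_zero, add_zero, hRcard]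
    simp

/-- The combinatorial core of the exceptional character argument for `e = 3`. -/
theorem exc_three_comb (hd1 : d one = 1) (ha1 : ∀ l, a l one = 1)
    (hgram : ∀ l l', ∑ i, a l i * a l' i = 3 + (if R l l' then 1 else 0))
    (hR : ∀ l, R l l) (hRcard : ∀ l, (Finset.univ.filter (fun l' => R l l')).card = 3)
    (hdeg : ∀ l, ∑ i, a l i * d i = 0) (hcard : 12 < Fintype.card Λ) (l₁ : Λ) :
    ∃ (χ₁ χ₂ χ₃ : I) (s₁ s₂ s₃ : ℤ), χ₁ ≠ one ∧ χ₂ ≠ one ∧ χ₃ ≠ one ∧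
      (s₁ = 1 ∨ s₁ = -1) ∧ (s₂ = 1 ∨ s₂ = -1) ∧ (s₃ = 1 ∨ s₃ = -1) ∧
      1 + s₁ * d χ₁ + s₂ * d χ₂ + s₃ * d χ₃ = 0 ∧ (∀ l, a l χ₁ = s₁) ∧ (∀ l, a l χ₂ = s₂) ∧
      ∑ l, a l χ₃ = 3 * s₃ := by
  classical
  -- the structure of `a l₁`
  have hcsum : ∑ i, (if i = one then 0 else a l₁ i) ^ 2 = 3 := by
    have h1 := exc3_norm a R hgram hR l₁
    rw [← Finset.add_sum_erase _ _ (Finset.mem_univ one), ha1] at h1
    rw [← Finset.add_sum_erase _ _ (Finset.mem_univ one), if_pos rfl]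
    have h2 : ∑ i ∈ Finset.univ.erase one, (if i = one then 0 else a l₁ i) ^ 2 =
        ∑ i ∈ Finset.univ.erase one, a l₁ i ^ 2 := by
      refine Finset.sum_congr rfl fun i hi => ?_
      rw [if_neg (Finset.ne_of_mem_erase hi)]
    rw [h2]
    linarith
  obtain ⟨χ₁, χ₂, χ₃, h12, h13, h23, hc1, hc2, hc3, hrest⟩ :=
    three_square (fun i => if i = one then 0 else a l₁ i) hcsum
  have h1 : χ₁ ≠ one := by
    rintro rfl
    simp at hc1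
  have h2 : χ₂ ≠ one := by
    rintro rfl
    simp at hc2
  have h3 : χ₃ ≠ one := by
    rintro rfl
    simp at hc3
  have hD : Exc3Data a one l₁ χ₁ χ₂ χ₃ (a l₁ χ₁) (a l₁ χ₂) (a l₁ χ₃) := by
    refine ⟨h1, h2, h3, h12, h13, h23, by simpa [h1] using hc1, by simpa [h2] using hc2,
      by simpa [h3] using hc3, rfl, rfl, rfl, ?_⟩
    intro i hi hi1 hi2 hi3
    have := hrest i hi1 hi2 hi3
    simpa [hi] using this
  -- some `l` outside the class of `l₁`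
  obtain ⟨l, hl⟩ : ∃ l, ¬ R l₁ l := by
    by_contra hno
    push Not at hno
    have : Finset.univ.filter (fun l' => R l₁ l') = Finset.univ := by
      ext x
      simp [hno x]
    have h3 := hRcard l₁
    rw [this, Finset.card_univ] at h3
    omega
  rcases exc3_types a one R ha1 hgram hR hD l with hx | ⟨-, hx | hx | hx⟩
  · exact (hl hx.1).elim
  · exact exc3_main a d one R hd1 ha1 hgram hR hRcard hdeg hcard hD.rot l hl
      ⟨hx.2.1, hx.2.2, hx.1⟩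
  · exact exc3_main a d one R hd1 ha1 hgram hR hRcard hdeg hcard hD.swap23 l hl
      ⟨hx.1, hx.2.2, hx.2.1⟩
  · exact exc3_main a d one R hd1 ha1 hgram hR hRcard hdeg hcard hD l hl hx

end Three

end Cfsg.Agent.Lib.Helper23
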