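import Mathlib
import Cfsg.Agent.Lib.Helper44.PU3Defs

set_option autoImplicit false

namespace Cfsg.Agent.Lib.Helper44.PU3

open Matrix

set_option maxHeartbeats 1600000 in
theorem pu3_trf {F : Type*} [Field F] (q : ℕ) : TrfStmt F q := by
  intro v₁ v₂ v₃ c₁ c₂ c₃ h1 h2 h3
  simp only [Cfsg.hermForm, Fin.sum_univ_three] at h1 h2 h3 ⊢
  simp only [Cfsg.unitaryTransvection, Matrix.trace_fin_three, Matrix.mul_apply,
    Fin.sum_univ_three, Matrix.add_apply, Matrix.smul_apply, Matrix.vecMulVec_apply,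
    Matrix.one_apply_eq, smul_eq_mul]
  have e01 : (1 : Matrix (Fin 3) (Fin 3) F) 0 1 = 0 := Matrix.one_apply_ne (by decide)
  have e02 : (1 : Matrix (Fin 3) (Fin 3) F) 0 2 = 0 := Matrix.one_apply_ne (by decide)
  have e10 : (1 : Matrix (Fin 3) (Fin 3) F) 1 0 = 0 := Matrix.one_apply_ne (by decide)
  have e12 : (1 : Matrix (Fin 3) (Fin 3) F) 1 2 = 0 := Matrix.one_apply_ne (by decide)
  have e20 : (1 : Matrix (Fin 3) (Fin 3) F) 2 0 = 0 := Matrix.one_apply_ne (by decide)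
  have e21 : (1 : Matrix (Fin 3) (Fin 3) F) 2 1 = 0 := Matrix.one_apply_ne (by decide)
  rw [e01, e02, e10, e12, e20, e21]
  generalize v₁ 0 ^ q = a0 at *
  generalize v₁ 1 ^ q = a1 at *
  generalize v₁ 2 ^ q = a2 at *
  generalize v₂ 0 ^ q = b0 at *
  generalize v₂ 1 ^ q = b1 at *
  generalize v₂ 2 ^ q = b2 at *
  generalize v₃ 0 ^ q = d0 at *
  generalize v₃ 1 ^ q = d1 at *
  generalize v₃ 2 ^ q = d2 at *
  linear_combination c₁ * h1 + c₂ * h2 + c₃ * h3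

end Cfsg.Agent.Lib.Helper44.PU3
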