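import Cfsg.Agent.Lib.Helper98.H74Defs
import Cfsg.Agent.Lib.Helper57.H74DEC
import Cfsg.Agent.Lib.Helper11.H74TYR
import Cfsg.Agent.Lib.Helper24.H74SUM

/-!
# Project PE (S5988, helper96), piece FIXMOD (helper23)

`fix_model` is the skeleton statement, verbatim.  `fix_model_of` is the same statement with one
extra hypothesis `hsum`, inserted before `hall`: the statement of helper98's H74 piece SUM
(`subtyp_sup hf hQ`).  The H74 pieces DEC (`inv_split`, Helper57), TYR (`rnd_typ`, Helper11),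
SUM (`subtyp_sup`, Helper24) and `T73.lex` are imported.
-/

set_option autoImplicit false
set_option linter.unusedSectionVars false
set_option linter.unusedVariables false

namespace Cfsg.Agent.Lib.Helper23.Pe

universe u

section OddR

open Cfsg.Agent.Lib.Helper47 Cfsg.Agent.Lib.Helper98.T73 Cfsg.Agent.Lib.Helper98.H74 Module

variable {F : Type u} [Field F] [Fintype F] {V : Type u} [AddCommGroup V] [Module F V]
  [FiniteDimensional F V] {Q : V → F} {B : V → V → F}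

theorem fixmod_sgn_sq (i j : ℕ) : sgn i j * sgn i j = 1 := by
  unfold sgn
  split_ifs
  · rw [← mul_pow]; simp
  · simp

theorem fixmod_sgn_zero (i : ℕ) : sgn i 0 = 1 := by
  unfold sgn
  split_ifs <;> simp

-- PIECE FIXMOD (with the H74 piece SUM as the hypothesis `hsum`)
theorem fix_model_of (hf : QFacts F) (hQ : IsQuad Q B) (hnd : Nondeg B) (d : ℕ) (hd : 2 ≤ d)
    (hdim : finrank F V = 2 * d) (ε : ℤ) (hε : ε = 1 ∨ ε = -1) (htyp : IsTyp Q (d - 1) ε)
    (p : ℕ) [Fact p.Prime] [CharP F p] (r : ℕ) (hr : r.Prime) (hr2 : r ≠ 2) (hrp : r ≠ p)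
    (k : ℕ) (τ : ℤ) (hτ : τ = 1 ∨ τ = -1) (hk : k + 2 ≤ d)
    (hsum : ∀ (X Y : Submodule F V), (∀ x ∈ X, ∀ y ∈ Y, B x y = 0) →
      ∀ (k₁ k₂ : ℕ) (ε₁ ε₂ : ℤ), SubTyp Q B X k₁ ε₁ → SubTyp Q B Y k₂ ε₂ →
        SubTyp Q B (X ⊔ Y) (k₁ + k₂ + 1) (ε₁ * ε₂))
    (hall : ∀ g : Module.End F V, QI Q g → g ^ r = 1 → g ≠ 1 →
      ∃ W : Submodule F V, SubTyp Q B W k τ ∧ W.map g ≤ W) :
    ModelH ε τ (orderOf ((Fintype.card F : ℕ) : ZMod r)) d (2 * k + 2) := by
  intro A hA
  have hipos : 0 < orderOf ((Fintype.card F : ℕ) : ZMod r) := by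
    have hir : orderOf ((Fintype.card F : ℕ) : ZMod r) ∣ r - 1 := by
      have : Fact r.Prime := ⟨hr⟩
      apply ZMod.orderOf_dvd_card_sub_one
      intro h0
      rw [ZMod.natCast_eq_zero_iff] at h0
      obtain ⟨n, hp, hn⟩ := FiniteField.card F p
      rw [hn] at h0
      exact hrp ((Nat.prime_dvd_prime_iff_eq hr hp).mp (hr.dvd_of_dvd_pow h0))
    exact Nat.pos_of_dvd_of_pos hir (by have := hr.two_le; omega)
  obtain ⟨g, hgQ, hg, hg1, hker, hCtyp, -⟩ :=
    lex hf hQ hnd d (by omega) hdim ε hε htyp p r hr hr2 hrp A hA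
  obtain ⟨W, hW, hWg⟩ := hall g hgQ hg hg1
  obtain ⟨hWnd, hWfin, hWtyp⟩ := hW
  obtain ⟨hndC, hndR, hWeq, hRinv, hfin⟩ := inv_split hQ hnd p r hr hrp g hgQ hg W hWg hWnd
  obtain ⟨j, hj, hjodd, hjtyp⟩ := rnd_typ hf hQ hnd p r hr hr2 hrp g hgQ hg
    (W ⊓ LinearMap.range (g - 1)) inf_le_right hRinv hndR
  obtain ⟨i, hi⟩ : ∃ i : ℕ, i = orderOf ((Fintype.card F : ℕ) : ZMod r) := ⟨_, rfl⟩
  rw [← hi] at hA hker hCtyp hj hjodd hjtyp hipos ⊢
  have hrn : finrank F (LinearMap.range (g - 1)) + finrank F (LinearMap.ker (g - 1))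
      = finrank F V := LinearMap.finrank_range_add_finrank_ker (g - 1)
  obtain ⟨hA1, hA2, hA3, hA4⟩ := hA
  have hRfin : finrank F (LinearMap.range (g - 1)) = i * A := by omega
  have hle1 : finrank F ↥(W ⊓ LinearMap.range (g - 1)) ≤ finrank F (LinearMap.range (g - 1)) :=
    Submodule.finrank_mono inf_le_right
  have hle2 : finrank F ↥(W ⊓ LinearMap.ker (g - 1)) ≤ finrank F (LinearMap.ker (g - 1)) :=
    Submodule.finrank_mono inf_le_right
  have horth : ∀ x ∈ LinearMap.ker (g - 1), ∀ y ∈ LinearMap.range (g - 1), B x y = 0 := by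
    intro x hx y hy
    obtain ⟨z, rfl⟩ := hy
    have hgx : g x = x := by
      have := LinearMap.mem_ker.mp hx
      rw [LinearMap.sub_apply, Module.End.one_apply, sub_eq_zero] at this
      exact this
    rw [LinearMap.sub_apply, Module.End.one_apply, hQ.form.sub_right]
    have := hQ.isometry hQ g hgQ x z
    rw [hgx] at this
    rw [this, sub_self]
  have hev : Even (i * j) := by
    rcases Nat.even_or_odd i with he | ho
    · exact he.mul_right j
    · exact (hjodd ho).mul_left i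
  refine ⟨j, finrank F ↥(W ⊓ LinearMap.ker (g - 1)), ?_, hjodd, ?_, ?_, ?_, ?_⟩
  · have : i * j ≤ i * A := by omega
    exact Nat.le_of_mul_le_mul_left this hipos
  · omega
  · omega
  · intro hw0
    have hbot : W ⊓ LinearMap.ker (g - 1) = ⊥ := Submodule.finrank_eq_zero.mp hw0
    have hWR : W = W ⊓ LinearMap.range (g - 1) := by
      rw [hbot, bot_sup_eq] at hWeq
      exact hWeq
    have h1 := hjtyp k (by omega)
    rw [← hWR] at h1
    exact IsTyp.unique h1.2.2 hWtyp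
  · intro hwpos hweq
    have hCW : W ⊓ LinearMap.ker (g - 1) = LinearMap.ker (g - 1) :=
      Submodule.eq_of_le_of_finrank_eq inf_le_right (by omega)
    obtain ⟨e, he⟩ : ∃ e : ℕ, 2 * d - i * A = 2 * e + 2 := by
      obtain ⟨c, hc⟩ := hev
      exact ⟨k - c, by omega⟩
    have hC := hCtyp e he
    by_cases hj0 : j = 0
    · subst hj0
      have hbot : W ⊓ LinearMap.range (g - 1) = ⊥ := Submodule.finrank_eq_zero.mp (by omega)
      have hWC : W = LinearMap.ker (g - 1) := by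
        rw [hbot, sup_bot_eq, hCW] at hWeq
        exact hWeq
      have hek : e = k := by omega
      subst hek
      subst hWC
      rw [fixmod_sgn_zero, mul_one]
      exact IsTyp.unique hWtyp hC.2.2
    · obtain ⟨k₁, hk₁⟩ : ∃ k₁ : ℕ, i * j = 2 * k₁ + 2 := by
        obtain ⟨c, hc⟩ := hev
        have : 0 < i * j := Nat.mul_pos hipos (Nat.pos_of_ne_zero hj0)
        exact ⟨c - 1, by omega⟩
      have hR1 := hjtyp k₁ hk₁
      have hS := hsum (LinearMap.ker (g - 1)) (W ⊓ LinearMap.range (g - 1))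
        (fun x hx y hy => horth x hx y hy.2) e k₁ _ _ hC hR1
      have hWeq' : W = LinearMap.ker (g - 1) ⊔ (W ⊓ LinearMap.range (g - 1)) := by
        rw [hCW] at hWeq
        exact hWeq
      rw [← hWeq'] at hS
      have hek : e + k₁ + 1 = k := by omega
      rw [hek] at hS
      have hu := IsTyp.unique hWtyp hS.2.2
      rw [hu, mul_assoc, fixmod_sgn_sq, mul_one]

-- PIECE FIXMOD
theorem fix_model (hf : QFacts F) (hQ : IsQuad Q B) (hnd : Nondeg B) (d : ℕ) (hd : 2 ≤ d)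
    (hdim : finrank F V = 2 * d) (ε : ℤ) (hε : ε = 1 ∨ ε = -1) (htyp : IsTyp Q (d - 1) ε)
    (p : ℕ) [Fact p.Prime] [CharP F p] (r : ℕ) (hr : r.Prime) (hr2 : r ≠ 2) (hrp : r ≠ p)
    (k : ℕ) (τ : ℤ) (hτ : τ = 1 ∨ τ = -1) (hk : k + 2 ≤ d)
    (hall : ∀ g : Module.End F V, QI Q g → g ^ r = 1 → g ≠ 1 →
      ∃ W : Submodule F V, SubTyp Q B W k τ ∧ W.map g ≤ W) :
    ModelH ε τ (orderOf ((Fintype.card F : ℕ) : ZMod r)) d (2 * k + 2) := by
  exact fix_model_of hf hQ hnd d hd hdim ε hε htyp p r hr hr2 hrp k τ hτ hk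
    (fun X Y hXY k₁ k₂ ε₁ ε₂ hX hY => subtyp_sup hf hQ X Y hXY k₁ k₂ ε₁ ε₂ hX hY) hall

end OddR

end Cfsg.Agent.Lib.Helper23.Pe
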