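import Mathlib

set_option autoImplicit false

namespace Cfsg.Agent.Lib.Helper48.QB

open scoped Pointwise

-- QB-SYLCONJ (backup copy by helper23)
theorem syl_conj {G : Type*} [Group G] [Finite G] (M : Subgroup G) (r : ℕ) (hr : r.Prime)
    (hfac : (Nat.card M).factorization r = (Nat.card G).factorization r)
    (y : G) (hy : orderOf y = r) : ∃ g : G, g * y * g⁻¹ ∈ M := by
  have : Fact r.Prime := ⟨hr⟩
  obtain ⟨Q⟩ : Nonempty (Sylow r M) := inferInstance
  have hQcard : Nat.card Q = r ^ (Nat.card M).factorization r := Sylow.card_eq_multiplicity Q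
  have hQ'card : Nat.card ((Q : Subgroup M).map M.subtype) = r ^ (Nat.card G).factorization r := by
    rw [← hfac, ← hQcard]
    exact Subgroup.card_subtype M (Q : Subgroup M)
  have hyp : IsPGroup r (Subgroup.zpowers y) := by
    apply IsPGroup.of_card (n := 1)
    rw [Nat.card_zpowers, hy, pow_one]
  obtain ⟨P, hP⟩ := hyp.exists_le_sylow
  obtain ⟨g, hg⟩ := MulAction.exists_smul_eq G P (Sylow.ofCard ((Q : Subgroup M).map M.subtype) hQ'card)
  refine ⟨g, ?_⟩
  have hyP : y ∈ (P : Subgroup G) := hP (Subgroup.mem_zpowers y)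
  have h1 : MulAut.conj g • y ∈ MulAut.conj g • (P : Subgroup G) :=
    Subgroup.smul_mem_pointwise_smul _ _ _ hyP
  have h2 : MulAut.conj g • y ∈ ((g • P : Sylow r G) : Subgroup G) := h1
  rw [hg, Sylow.coe_ofCard] at h2
  obtain ⟨m, -, hm⟩ := Subgroup.mem_map.mp h2
  have h3 : MulAut.conj g • y = g * y * g⁻¹ := rfl
  rw [← h3, ← hm]
  exact m.2

end Cfsg.Agent.Lib.Helper48.QB
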