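import Mathlib
import Cfsg.Agent.Lib.Helper72.SCDefs
import Cfsg.Agent.Lib.Helper14.DualHH
import Cfsg.Agent.Lib.Helper14.SL2Solv3
import Cfsg.Agent.Lib.Helper14.PCore

/-!
# S4394 (project SC of helper72), piece SC-FFB (helper23)

`C_H(O_{p'}(H)) ≤ O_{p'}(H)` for `H = Hs p Gb`, the subgroup generated by the best offenders,
when `Gb` is `p`-solvable with `O_p(Gb) = 1`.
-/

set_option autoImplicit false

namespace Cfsg.Agent.Lib.Helper23.SC

open Cfsg.Agent.Lib.Helper72.SC

universe u

theorem ffb (h1 : FfaStmt.{u}) : FfbStmt.{u} := by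
  intro V _ _ p _ Gb hab hexp hsolv hcore
  classical
  obtain ⟨-, hHle, hnorm, -, -, -⟩ := h1 V p Gb hab hexp
  have hfinA : Finite (MulAut V) :=
    Finite.of_injective (fun f : MulAut V => (f : V → V)) DFunLike.coe_injective
  have hfinG : Finite (Gam V) :=
    Finite.of_equiv _ (SemidirectProduct.equivProd (φ := MonoidHom.id (MulAut V))).symm
  set H : Subgroup (Gam V) := Hs p Gb with hH
  let j : ↥Gb →* Gam V := (SemidirectProduct.inr : MulAut V →* Gam V).comp Gb.subtype
  have hj : Function.Injective j :=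
    SemidirectProduct.inr_injective.comp Subtype.val_injective
  have hup : ∀ g : Gam V, g ∈ up Gb ↔ ∃ b : ↥Gb, j b = g := by
    intro g
    constructor
    · rintro ⟨a, ha, rfl⟩
      exact ⟨⟨a, ha⟩, rfl⟩
    · rintro ⟨b, rfl⟩
      exact ⟨b.1, b.2, rfl⟩
  -- (1) `H` is `p`-solvable
  have hsolvH : Cfsg.IsPSolvable p ↥H := by
    have hs1 : Cfsg.IsPSolvable p ↥(H.comap j) :=
      Cfsg.Agent.Lib.Helper14.isPSolvable_subgroup hsolv (H.comap j)
    let g : ↥(H.comap j) →* ↥H := (j.comp (H.comap j).subtype).codRestrict H (fun x => x.2)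
    have hg : Function.Surjective g := by
      intro h
      obtain ⟨b, hb⟩ := (hup h.1).mp (hHle h.2)
      have hbm : b ∈ H.comap j := by
        show j b ∈ H
        rw [hb]
        exact h.2
      exact ⟨⟨b, hbm⟩, Subtype.ext hb⟩
    exact Cfsg.Agent.Lib.Helper14.isPSolvable_map g hg hs1
  -- (2) `O_p(H) = 1`
  have hcoreH : Cfsg.pCore p ↥H = ⊥ := by
    set K : Subgroup ↥H := Cfsg.pCore p ↥H with hK
    have hKn : K.Normal := Subgroup.sSup_normal _ (fun _ h => h.1)
    have hKp : IsPGroup p K := Cfsg.Agent.Lib.Helper14.pCore_isPGroup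
    have hconj : ∀ g ∈ up Gb, ∀ k : ↥H, k ∈ K → ∀ hm : g * (k : Gam V) * g⁻¹ ∈ H,
        (⟨g * (k : Gam V) * g⁻¹, hm⟩ : ↥H) ∈ K := by
      intro g hg k hk hm
      have hgN : g ∈ Subgroup.normalizer ((H : Subgroup (Gam V)) : Set (Gam V)) := hnorm hg
      have hgN' : g⁻¹ ∈ Subgroup.normalizer ((H : Subgroup (Gam V)) : Set (Gam V)) :=
        Subgroup.inv_mem _ hgN
      let c : ↥H →* ↥H :=
        { toFun := fun h => ⟨g * (h : Gam V) * g⁻¹,
            (Subgroup.mem_normalizer_iff.mp hgN h.1).mp h.2⟩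
          map_one' := by
            apply Subtype.ext
            simp
          map_mul' := by
            intro a b
            apply Subtype.ext
            simp [mul_assoc] }
      have hc : Function.Surjective c := by
        intro h
        have hm' : g⁻¹ * (h : Gam V) * g ∈ H := by
          have h2 := (Subgroup.mem_normalizer_iff.mp hgN' h.1).mp h.2
          simpa using h2
        refine ⟨⟨g⁻¹ * (h : Gam V) * g, hm'⟩, ?_⟩
        apply Subtype.ext
        show g * (g⁻¹ * (h : Gam V) * g) * g⁻¹ = h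
        group
      have hcK : K.map c ≤ K :=
        Cfsg.Agent.Lib.Helper14.le_pCore (hKn.map c hc) (hKp.map c)
      exact hcK ⟨k, hk, rfl⟩
    let K2 : Subgroup ↥Gb := (K.map H.subtype).comap j
    have hK2p : IsPGroup p K2 := (hKp.map H.subtype).comap_of_injective j hj
    have hK2n : K2.Normal := by
      refine ⟨fun n hn b => ?_⟩
      obtain ⟨k, hk, hkn⟩ := hn
      show j (b * n * b⁻¹) ∈ K.map H.subtype
      rw [map_mul, map_mul, map_inv, ← hkn]
      have hjb : j b ∈ up Gb := (hup _).mpr ⟨b, rfl⟩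
      have hm : j b * (k : Gam V) * (j b)⁻¹ ∈ H :=
        (Subgroup.mem_normalizer_iff.mp (hnorm hjb) k.1).mp k.2
      exact ⟨⟨_, hm⟩, hconj (j b) hjb k hk hm, rfl⟩
    have hK2 : K2 ≤ Cfsg.pCore p ↥Gb := Cfsg.Agent.Lib.Helper14.le_pCore hK2n hK2p
    rw [hcore] at hK2
    rw [eq_bot_iff]
    intro k hk
    rw [Subgroup.mem_bot]
    obtain ⟨b, hb⟩ := (hup k.1).mp (hHle k.2)
    have hbK2 : b ∈ K2 := by
      show j b ∈ K.map H.subtype
      exact ⟨k, hk, hb.symm⟩
    have hb1 : b = 1 := Subgroup.mem_bot.mp (hK2 hbK2)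
    apply Subtype.ext
    rw [← hb, hb1, map_one]
    rfl
  exact Cfsg.Agent.Lib.Helper14.centralizer_pPrimeCore_le hsolvH hcoreH

end Cfsg.Agent.Lib.Helper23.SC
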