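import Mathlib

namespace Cfsg.Agent.Lib.Helper23

open Subgroup

section
variable {G : Type*} [Group G]

theorem card_lt_of_lt {H K : Subgroup G} [Finite K] (h : H < K) : Nat.card H < Nat.card K := by
  refine lt_of_le_of_ne (Subgroup.card_le_of_le h.le) ?_
  intro heq
  exact h.ne (Subgroup.eq_of_le_of_card_ge h.le heq.ge)

/-- Normalizers grow in finite `p`-groups, stated for subgroups of an ambient group. -/
theorem lt_inf_normalizer_of_lt {p : ℕ} [Fact p.Prime] {D T : Subgroup G} [Finite T]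
    (hT : IsPGroup p T) (hlt : D < T) : D < T ⊓ normalizer (D : Set G) := by
  have hnil : Group.IsNilpotent T := hT.isNilpotent
  have hnc := Group.normalizerCondition_of_isNilpotent (G := T)
  have h1 : D.subgroupOf T < ⊤ := by
    rw [lt_top_iff_ne_top, Ne, Subgroup.subgroupOf_eq_top]
    exact not_le_of_gt hlt
  have h2 := hnc _ h1
  obtain ⟨x, hx1, hx2⟩ := SetLike.exists_of_lt h2
  have hxN : (x : G) ∈ normalizer (D : Set G) := by
    rw [mem_normalizer_iff]
    intro g
    constructor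
    · intro hg
      have hgT : g ∈ T := hlt.le hg
      have h3 := (mem_normalizer_iff.mp hx1 ⟨g, hgT⟩).mp (mem_subgroupOf.mpr hg)
      exact mem_subgroupOf.mp h3
    · intro hg
      have hgT : g ∈ T := by
        have h3 : (x : G)⁻¹ * ((x : G) * g * (x : G)⁻¹) * (x : G) ∈ T :=
          T.mul_mem (T.mul_mem (T.inv_mem x.2) (hlt.le hg)) x.2
        have h4 : (x : G)⁻¹ * ((x : G) * g * (x : G)⁻¹) * (x : G) = g := by group
        rwa [h4] at h3
      have h3 := (mem_normalizer_iff.mp hx1 ⟨g, hgT⟩).mpr (mem_subgroupOf.mpr hg)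
      exact mem_subgroupOf.mp h3
  refine lt_of_le_of_ne (le_inf hlt.le le_normalizer) ?_
  intro heq
  apply hx2
  rw [mem_subgroupOf, heq]
  exact ⟨x.2, hxN⟩

theorem maximal_sylow_inter_normalizer [Finite G] (p : ℕ) [Fact p.Prime] (P Q : Sylow p G)
    (hPQ : P ≠ Q)
    (hmax : ∀ P' Q' : Sylow p G, P' ≠ Q' →
      Nat.card ↥((P' : Subgroup G) ⊓ (Q' : Subgroup G)) ≤
        Nat.card ↥((P : Subgroup G) ⊓ (Q : Subgroup G))) :
    1 < Nat.card (Sylow p ↥(Subgroup.normalizer
        (((P : Subgroup G) ⊓ (Q : Subgroup G) : Subgroup G) : Set G))) ∧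
    (∀ S T : Sylow p ↥(Subgroup.normalizer
        (((P : Subgroup G) ⊓ (Q : Subgroup G) : Subgroup G) : Set G)),
      S ≠ T → (S : Subgroup _) ⊓ (T : Subgroup _) =
        ((P : Subgroup G) ⊓ (Q : Subgroup G)).subgroupOf
          (Subgroup.normalizer (((P : Subgroup G) ⊓ (Q : Subgroup G) : Subgroup G) : Set G))) ∧
    ∀ S : Sylow p ↥(Subgroup.normalizer
        (((P : Subgroup G) ⊓ (Q : Subgroup G) : Subgroup G) : Set G)),
      ∃! T : Sylow p G, (S : Subgroup _).map
        (Subgroup.normalizer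
          (((P : Subgroup G) ⊓ (Q : Subgroup G) : Subgroup G) : Set G)).subtype ≤
        (T : Subgroup G) := by
  classical
  generalize hD : ((P : Subgroup G) ⊓ (Q : Subgroup G) : Subgroup G) = D at *
  generalize hN : normalizer (D : Set G) = N at *
  have hDN : D ≤ N := hN ▸ le_normalizer
  have hDleP : D ≤ (P : Subgroup G) := hD ▸ inf_le_left
  have hDleQ : D ≤ (Q : Subgroup G) := hD ▸ inf_le_right
  have hDP : D < (P : Subgroup G) := by
    refine lt_of_le_of_ne hDleP ?_
    intro h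
    have hle : (P : Subgroup G) ≤ Q := h ▸ hDleQ
    exact hPQ (Sylow.ext (P.3 Q.2 hle).symm)
  have hDQ : D < (Q : Subgroup G) := by
    refine lt_of_le_of_ne hDleQ ?_
    intro h
    have hle : (Q : Subgroup G) ≤ P := h ▸ hDleP
    exact hPQ (Sylow.ext (Q.3 P.2 hle))
  have hDp : IsPGroup p D := P.isPGroup'.to_le hDleP
  have hnorm : (D.subgroupOf N).Normal := by
    subst hN
    exact Subgroup.normal_in_normalizer
  have L1 : ∀ S : Sylow p N, D.subgroupOf N ≤ S := fun S =>
    IsPGroup.le_sylow_of_normal (N := D.subgroupOf N)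
      (show IsPGroup p (D.subgroupOf N) from hDp.comap_subtype) S
  have L3 : ∀ T : Sylow p G, ∃ S : Sylow p N, ((T : Subgroup G) ⊓ N).subgroupOf N ≤ S :=
    fun T => (T.isPGroup'.to_le inf_le_left).comap_subtype.exists_le_sylow
  have L4 : ∀ S : Sylow p N, ∃ T : Sylow p G, (S : Subgroup N).map N.subtype ≤ T :=
    fun S => (S.isPGroup'.map N.subtype).exists_le_sylow
  have hcardS : ∀ S S' : Sylow p N, Nat.card (S : Subgroup N) = Nat.card (S' : Subgroup N) :=
    fun S S' => by rw [Sylow.card_eq_multiplicity, Sylow.card_eq_multiplicity]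
  have hmapcard : ∀ H : Subgroup N, Nat.card (H.map N.subtype) = Nat.card H :=
    fun H => Subgroup.card_map_of_injective (Subgroup.subtype_injective N)
  have hgrowP : D < (P : Subgroup G) ⊓ N := hN ▸ lt_inf_normalizer_of_lt P.isPGroup' hDP
  have hgrowQ : D < (Q : Subgroup G) ⊓ N := hN ▸ lt_inf_normalizer_of_lt Q.isPGroup' hDQ
  have hsubcard : ∀ K : Subgroup G, K ≤ N → Nat.card (K.subgroupOf N) = Nat.card K :=
    fun K hK => Nat.card_congr (subgroupOfEquivOfLe hK).toEquiv
  have hDS : ∀ S : Sylow p N, Nat.card D < Nat.card (S : Subgroup N) := by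
    intro S
    obtain ⟨S₁, hS₁⟩ := L3 P
    rw [hcardS S S₁]
    calc Nat.card D < Nat.card ((P : Subgroup G) ⊓ N : Subgroup G) := card_lt_of_lt hgrowP
      _ = Nat.card (((P : Subgroup G) ⊓ N).subgroupOf N) := (hsubcard _ inf_le_right).symm
      _ ≤ Nat.card (S₁ : Subgroup N) := Subgroup.card_le_of_le hS₁
  have huniq : ∀ (S : Sylow p N) (T T' : Sylow p G), (S : Subgroup N).map N.subtype ≤ T →
      (S : Subgroup N).map N.subtype ≤ T' → T = T' := by
    intro S T T' hT hT'
    by_contra hne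
    have h1 := hmax T T' hne
    have h2 : Nat.card ((S : Subgroup N).map N.subtype) ≤
        Nat.card ((T : Subgroup G) ⊓ T' : Subgroup G) := Subgroup.card_le_of_le (le_inf hT hT')
    rw [hmapcard] at h2
    have := hDS S
    omega
  have hkey : ∀ (R : Sylow p G) (S : Sylow p N) (T : Sylow p G), D < (R : Subgroup G) ⊓ N →
      ((R : Subgroup G) ⊓ N).subgroupOf N ≤ S → (S : Subgroup N).map N.subtype ≤ T → T = R := by
    intro R S T hgrow hS hT
    have hRT : (R : Subgroup G) ⊓ N ≤ T := fun x hx =>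
      hT ⟨⟨x, hx.2⟩, hS (mem_subgroupOf.mpr hx), rfl⟩
    by_contra hne
    have h1 := hmax T R hne
    have h2 : Nat.card ((R : Subgroup G) ⊓ N : Subgroup G) ≤
        Nat.card ((T : Subgroup G) ⊓ R : Subgroup G) :=
      Subgroup.card_le_of_le (le_inf hRT inf_le_left)
    have h3 := card_lt_of_lt hgrow
    omega
  refine ⟨?_, ?_, ?_⟩
  · obtain ⟨S₁, hS₁⟩ := L3 P
    obtain ⟨S₂, hS₂⟩ := L3 Q
    have hne : S₁ ≠ S₂ := by
      intro heq
      obtain ⟨T, hT⟩ := L4 S₁
      have hTP : T = P := hkey P S₁ T hgrowP hS₁ hT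
      have hTQ : T = Q := hkey Q S₁ T hgrowQ (heq ▸ hS₂) hT
      exact hPQ (hTP.symm.trans hTQ)
    exact Finite.one_lt_card_iff_nontrivial.mpr ⟨⟨S₁, S₂, hne⟩⟩
  · intro S T hST
    obtain ⟨S', hS'⟩ := L4 S
    obtain ⟨T', hT'⟩ := L4 T
    have hne : S' ≠ T' := by
      intro heq
      apply hST
      have hp : IsPGroup p (((S' : Subgroup G) ⊓ N).subgroupOf N) :=
        (S'.isPGroup'.to_le inf_le_left).comap_subtype
      have h1 : (S : Subgroup N) ≤ ((S' : Subgroup G) ⊓ N).subgroupOf N :=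
        fun x hx => mem_subgroupOf.mpr ⟨hS' ⟨x, hx, rfl⟩, x.2⟩
      have h2 : (T : Subgroup N) ≤ ((S' : Subgroup G) ⊓ N).subgroupOf N :=
        fun x hx => mem_subgroupOf.mpr ⟨heq ▸ hT' ⟨x, hx, rfl⟩, x.2⟩
      exact Sylow.ext ((S.3 hp h1).symm.trans (T.3 hp h2))
    have h1 := hmax S' T' hne
    have h2 : D.subgroupOf N ≤ (S : Subgroup N) ⊓ T := le_inf (L1 S) (L1 T)
    have h3 : Nat.card ((S : Subgroup N) ⊓ T : Subgroup N) ≤ Nat.card (D.subgroupOf N) := by
      rw [← hmapcard, hsubcard D hDN]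
      refine le_trans (Subgroup.card_le_of_le ?_) h1
      rintro _ ⟨x, hx, rfl⟩
      exact ⟨hS' ⟨x, hx.1, rfl⟩, hT' ⟨x, hx.2, rfl⟩⟩
    exact (Subgroup.eq_of_le_of_card_ge h2 h3).symm
  · intro S
    obtain ⟨T, hT⟩ := L4 S
    exact ⟨T, hT, fun T' hT' => huniq S T' T hT' hT⟩

end

end Cfsg.Agent.Lib.Helper23
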